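import Mathlib
import Cfsg.Agent.Lib.Blocks.StableBound
import Cfsg.Agent.Lib.Characters.Integrality

/-!
The residue field of the local cyclotomic ring.
-/

set_option autoImplicit false
set_option linter.unusedSectionVars false
set_option linter.style.haveILetI false

namespace Cfsg.Agent.Perm.UniqueP

open Cfsg.Agent.Blocks

/-- A maximal ideal of the algebraic integers over a prime. -/
theorem exists_modular {p : ℕ} (hp : p.Prime) :
    ∃ M : Ideal Cfsg.AlgInt, Cfsg.IsPModular p M := by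
  obtain ⟨M, hM, hle⟩ := Ideal.exists_le_maximal (Ideal.span {((p : ℕ) : Cfsg.AlgInt)}) (by
    rw [Ne, Ideal.span_singleton_eq_top, isUnit_iff_exists_inv]
    rintro ⟨b, hb⟩
    have h2 : ((p : ℕ) : ℂ) * (b : ℂ) = 1 := by
      have := congrArg Subtype.val hb; push_cast at this ⊢; exact this
    have hb' : (b : ℂ) = ((1 : ℕ) : ℂ) / ((p : ℕ) : ℂ) := by
      rw [eq_div_iff (Nat.cast_ne_zero.2 hp.ne_zero), mul_comm, h2, Nat.cast_one]
    exact hp.ne_one (Nat.dvd_one.1 (Characters.dvd_of_isIntegral_div hp.ne_zero (hb' ▸ b.2))))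
  exact ⟨M, hp, hM, hle (Ideal.subset_span rfl)⟩

variable {p : ℕ} {M : Ideal Cfsg.AlgInt} (hM : Cfsg.IsPModular p M) {η : ℂ} (hηi : IsIntegral ℤ η)

instance instIsLocalRingCycLocal : IsLocalRing (cycLocal hM hηi) := isLocalRing_localSub hM _ _

theorem residue_natCast_p :
    (p : IsLocalRing.ResidueField (cycLocal hM hηi)) = 0 := by
  rw [← map_natCast (IsLocalRing.residue (cycLocal hM hηi)), IsLocalRing.residue_eq_zero_iff,
    IsLocalRing.mem_maximalIdeal, mem_nonunits_iff]
  intro h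
  exact (localSub_isUnit_iff hM _ _ _).1 h (by
    show Cfsg.MemLocalIdeal M (((p : cycLocal hM hηi) : ℂ))
    rw [Subring.coe_natCast]
    exact ideal_p hM)

theorem charP_residue : CharP (IsLocalRing.ResidueField (cycLocal hM hηi)) p := by
  haveI := Fact.mk hM.1
  exact (CharP.charP_iff_prime_eq_zero hM.1).2 (residue_natCast_p hM hηi)

/-- Elements killed by the residue map are multiples of `p`. -/
theorem dvd_of_residue_eq_zero {m : ℕ} (hm : ¬ p ∣ m) (hη : η ^ m = 1) {z : cycLocal hM hηi}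
    (hz : IsLocalRing.residue (cycLocal hM hηi) z = 0) : ∃ w, z = (p : cycLocal hM hηi) * w := by
  have hideal : Cfsg.MemLocalIdeal M (z : ℂ) := by
    by_contra h
    rw [IsLocalRing.residue_eq_zero_iff, IsLocalRing.mem_maximalIdeal, mem_nonunits_iff] at hz
    exact hz ((localSub_isUnit_iff hM _ _ z).2 h)
  obtain ⟨w, hw⟩ := dvd_of_ideal (exists_unif_unramified hM hm hη _) hideal
  exact ⟨w, hw⟩

/-- The residue field is finite. -/
theorem finite_residue {m : ℕ} (hm : ¬ p ∣ m) (hη : η ^ m = 1) :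
    Finite (IsLocalRing.ResidueField (cycLocal hM hηi)) := by
  classical
  set k := IsLocalRing.ResidueField (cycLocal hM hηi)
  have hA : ∀ x ∈ cycAlg η, IsIntegral ℤ x := fun x => isIntegral_cycAlg hηi
  obtain ⟨q, hq, hfr⟩ := (exists_unif_unramified hM hm hη hA).frob
  have hres : ∀ (a : ℂ) (ha : a ∈ cycAlg η), (IsLocalRing.residue (cycLocal hM hηi)
      ⟨a, mem_cycLocal hM hηi ha⟩) ^ q =
        IsLocalRing.residue (cycLocal hM hηi) ⟨a, mem_cycLocal hM hηi ha⟩ := by
    intro a ha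
    obtain ⟨y, hy, hxy⟩ := hfr a ha
    have h1 : (⟨a, mem_cycLocal hM hηi ha⟩ : cycLocal hM hηi) ^ q =
        ⟨a, mem_cycLocal hM hηi ha⟩ + (p : cycLocal hM hηi) * ⟨y, mem_cycLocal hM hηi hy⟩ := by
      refine Subtype.ext ?_
      rw [Subring.coe_add, Subring.coe_mul, Subring.coe_pow, Subring.coe_natCast]
      rw [Subring.coe_natCast] at hxy
      linear_combination hxy
    rw [← map_pow, h1, map_add, map_mul, map_natCast, residue_natCast_p, zero_mul, add_zero]
  have hall : ∀ z : k, z ^ q = z := by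
    intro z
    obtain ⟨r, rfl⟩ := IsLocalRing.residue_surjective z
    obtain ⟨a, ha, b, hb, hbM, he⟩ := (mem_localSub hM _ _).1 r.2
    have hb0 : IsLocalRing.residue (cycLocal hM hηi) ⟨b, mem_cycLocal hM hηi hb⟩ ≠ 0 := by
      rw [Ne, IsLocalRing.residue_eq_zero_iff, IsLocalRing.mem_maximalIdeal, mem_nonunits_iff,
        not_not]
      exact (localSub_isUnit_iff hM _ _ _).2 hbM
    have hrb : r * ⟨b, mem_cycLocal hM hηi hb⟩ = ⟨a, mem_cycLocal hM hηi ha⟩ := by
      refine Subtype.ext ?_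
      rw [Subring.coe_mul, he, div_mul_cancel₀ a (ne_zero_of_not_ideal hM hbM)]
    refine mul_right_cancel₀ hb0 ?_
    conv_lhs => rw [← hres b hb]
    rw [← mul_pow, ← map_mul, hrb, hres a ha]
  refine Finite.of_injective
    (fun z : k => (⟨z, ?_⟩ : ((Polynomial.X ^ q - Polynomial.X : Polynomial k).roots.toFinset)))
    fun a b h => congrArg Subtype.val h
  rw [Multiset.mem_toFinset, Polynomial.mem_roots (FiniteField.X_pow_card_sub_X_ne_zero k hq)]
  simp [hall z]

end Cfsg.Agent.Perm.UniqueP
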