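import Mathlib

/-!
Linear algebra for groups of prime degree: averaging over the cosets of the normalizer of a
subgroup of order `p`, eigenspaces of an element of order prime to the characteristic, and chains
of a nilpotent map.
-/

set_option autoImplicit false
set_option linter.unusedSectionVars false

namespace Cfsg.Agent.Perm.UniqueP

open Module

/-- `N` absorbs the cosets fixed by powers of `x`, and `x` has order dividing `p`. -/
structure FreeCosets {G : Type*} [Group G] (p : ℕ) (N : Subgroup G) (x : G) : Prop where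
  pow : x ^ p = 1
  mem : x ∈ N
  free : ∀ g : G, g ∉ N → ∀ i : ℕ, g⁻¹ * x ^ i * g ∈ N → p ∣ i

section relTrace

variable {G : Type*} [Group G] [Finite G] {p : ℕ} [Fact p.Prime] {N : Subgroup G} {x : G}
variable {k : Type*} [Field k] {W : Type*} [AddCommGroup W] [Module k W]

theorem sum_eq_zero_of_closed {A : Type*} [AddCommMonoid A] (hx : FreeCosets p N x)
    (t : G ⧸ N → A)
    (ht : ∀ g : G, g ∉ N → ∑ i ∈ Finset.range p, t ((x ^ i * g : G) : G ⧸ N) = 0)
    (s : Finset (G ⧸ N)) (h1 : ((1 : G) : G ⧸ N) ∉ s) (hs : ∀ q ∈ s, x • q ∈ s) :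
    ∑ q ∈ s, t q = 0 := by
  classical
  induction s using Finset.strongInduction with
  | _ s ih =>
    rcases s.eq_empty_or_nonempty with rfl | ⟨q, hq⟩
    · exact Finset.sum_empty
    obtain ⟨g, rfl⟩ := QuotientGroup.mk_surjective q
    have hg : g ∉ N := fun hg => h1 (by
      rwa [show ((1 : G) : G ⧸ N) = (g : G ⧸ N) from QuotientGroup.eq.2 (by simpa using hg)])
    have hpow : ∀ i : ℕ, ((x ^ i * g : G) : G ⧸ N) ∈ s := by
      intro i
      induction i with
      | zero => simpa using hq
      | succ i ih' =>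
        have := hs _ ih'
        rwa [MulAction.Quotient.smul_coe, smul_eq_mul, ← mul_assoc, ← pow_succ'] at this
    have hinj : Set.InjOn (fun i : ℕ => ((x ^ i * g : G) : G ⧸ N)) (Finset.range p) := by
      have key : ∀ i j : ℕ, i ≤ j → j < p →
          ((x ^ i * g : G) : G ⧸ N) = ((x ^ j * g : G) : G ⧸ N) → i = j := by
        intro i j hij hj h
        rw [QuotientGroup.eq] at h
        obtain ⟨d, rfl⟩ := Nat.exists_eq_add_of_le hij
        have : g⁻¹ * x ^ d * g ∈ N := by
          rwa [show (x ^ i * g)⁻¹ * (x ^ (i + d) * g) = g⁻¹ * x ^ d * g by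
            rw [pow_add]; group] at h
        have := Nat.eq_zero_of_dvd_of_lt (hx.free g hg d this) (by omega)
        omega
      intro i hi j hj h
      simp only [Finset.coe_range, Set.mem_Iio] at hi hj
      rcases le_total i j with h' | h'
      · exact key i j h' hj h
      · exact (key j i h' hi h.symm).symm
    set O := (Finset.range p).image fun i => ((x ^ i * g : G) : G ⧸ N) with hO
    have hOs : O ⊆ s := by
      intro y hy
      obtain ⟨i, -, rfl⟩ := Finset.mem_image.1 hy
      exact hpow i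
    rw [← Finset.sum_sdiff hOs, hO, Finset.sum_image hinj, ht g hg, add_zero]
    refine ih _ (Finset.sdiff_ssubset hOs ⟨_, Finset.mem_image.2
      ⟨0, Finset.mem_range.2 (Fact.out : p.Prime).pos, rfl⟩⟩)
      (fun h => h1 (Finset.mem_sdiff.1 h).1) fun y hy => ?_
    rw [Finset.mem_sdiff] at hy ⊢
    refine ⟨hs _ hy.1, fun h => hy.2 ?_⟩
    obtain ⟨i, -, hi⟩ := Finset.mem_image.1 h
    have hxi : x⁻¹ * x ^ i = x ^ ((i + (p - 1)) % p) := by
      rw [inv_mul_eq_iff_eq_mul, ← pow_succ', ← pow_mod_orderOf]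
      conv_lhs => rw [pow_mod_orderOf]
      rw [pow_eq_pow_iff_modEq]
      refine (Nat.ModEq.of_dvd (orderOf_dvd_of_pow_eq_one hx.pow) ?_)
      have hp := (Fact.out : p.Prime).pos
      refine ((Nat.mod_modEq _ _).add_right 1).trans ?_ |>.symm
      rw [add_assoc, Nat.sub_add_cancel hp]
      exact Nat.add_modEq_right
    refine Finset.mem_image.2 ⟨_, Finset.mem_range.2 (Nat.mod_lt (i + (p - 1))
      (Fact.out : p.Prime).pos), ?_⟩
    have := congrArg (x⁻¹ • ·) hi
    simp only [inv_smul_smul, MulAction.Quotient.smul_coe, smul_eq_mul] at this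
    rw [← this, ← mul_assoc, hxi]

/-- An element of `W` fixed by `N` extends to a `G`-fixed one, with the same image under a map
killing the sums over the free orbits. -/
theorem exists_fixed {A : Type*} [AddCommGroup A] [Module k A] (hx : FreeCosets p N x)
    (σ : Representation k G W) (u : W) (hu : ∀ n ∈ N, σ n u = u) (ψ : W →ₗ[k] A)
    (hψ : ∀ g : G, g ∉ N → ∑ i ∈ Finset.range p, ψ (σ (x ^ i * g) u) = 0) :
    ∃ w : W, (∀ g : G, σ g w = w) ∧ ψ w = ψ u := by
  classical
  haveI := Fintype.ofFinite (G ⧸ N)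
  let t : G ⧸ N → W := Quotient.lift (fun g => σ g u) fun a b hab => by
    have h : a⁻¹ * b ∈ N := QuotientGroup.leftRel_apply.1 hab
    show σ a u = σ b u
    rw [show b = a * (a⁻¹ * b) by group, map_mul, Module.End.mul_apply, hu _ h]
  have ht : ∀ g : G, t ((g : G) : G ⧸ N) = σ g u := fun g => rfl
  refine ⟨∑ q, t q, fun g => ?_, ?_⟩
  · rw [map_sum]
    refine Fintype.sum_equiv (MulAction.toPerm g) _ _ fun q => ?_
    obtain ⟨a, rfl⟩ := QuotientGroup.mk_surjective q
    rw [MulAction.toPerm_apply, MulAction.Quotient.smul_coe, smul_eq_mul, ht, ht, map_mul,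
      Module.End.mul_apply]
  · rw [map_sum, ← Finset.add_sum_erase _ _ (Finset.mem_univ ((1 : G) : G ⧸ N)), ht, map_one,
      Module.End.one_apply, add_eq_left]
    refine sum_eq_zero_of_closed hx (fun q => ψ (t q)) (fun g hg => hψ g hg) _
      (Finset.notMem_erase _ _) fun q hq => Finset.mem_erase.2 ⟨fun h => ?_, Finset.mem_univ _⟩
    refine (Finset.mem_erase.1 hq).1 ?_
    have := congrArg (x⁻¹ • ·) h
    simp only [inv_smul_smul, MulAction.Quotient.smul_coe, smul_eq_mul, mul_one] at this
    rw [this]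
    exact QuotientGroup.eq.2 (by simpa using hx.mem)

/-- Fixed by `N` implies fixed by `G` when the orbit sums vanish. -/
theorem fixed_of_orbit_sums (hx : FreeCosets p N x) (σ : Representation k G W) (u : W)
    (hu : ∀ n ∈ N, σ n u = u)
    (h0 : ∀ g : G, g ∉ N → ∑ i ∈ Finset.range p, σ (x ^ i * g) u = 0) (g : G) : σ g u = u := by
  obtain ⟨w, hw, hwu⟩ := exists_fixed hx σ u hu LinearMap.id h0
  simp only [LinearMap.id_apply] at hwu
  exact hwu ▸ hw g

end relTrace

/-- Polynomials of degree below `p - 1` sum to zero over a period. -/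
theorem sum_range_pow_eq_zero {p : ℕ} [Fact p.Prime] (k : Type*) [Field k] [CharP k p] {j : ℕ}
    (hj : j < p - 1) : ∑ i ∈ Finset.range p, (i : k) ^ j = 0 := by
  have h := congrArg (ZMod.castHom dvd_rfl k)
    (FiniteField.sum_pow_lt_card_sub_one (ZMod p) j (by rwa [ZMod.card]))
  rw [map_sum, map_zero] at h
  rw [← h]
  refine Finset.sum_bij (fun i _ => (i : ZMod p)) (fun i _ => Finset.mem_univ _) ?_ ?_ ?_
  · intro a ha b hb hab
    have := congrArg ZMod.val hab
    rwa [ZMod.val_natCast_of_lt (Finset.mem_range.1 ha),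
      ZMod.val_natCast_of_lt (Finset.mem_range.1 hb)] at this
  · exact fun b _ => ⟨b.val, Finset.mem_range.2 (ZMod.val_lt b), ZMod.natCast_rightInverse b⟩
  · intro i _
    rw [map_pow, map_natCast]

section eigen

variable {k : Type*} [Field k] {V W : Type*} [AddCommGroup V] [Module k V] [FiniteDimensional k V]
  [AddCommGroup W] [Module k W]

/-- The averaged projection onto an eigenspace. -/
noncomputable def eigProj (T : Module.End k V) (e : ℕ) (c : k) : Module.End k V :=
  (e : k)⁻¹ • ∑ i ∈ Finset.range e, c⁻¹ ^ i • T ^ i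

omit [FiniteDimensional k V] in
theorem pow_apply_eigen {T : Module.End k V} {c : k} {v : V} (hv : T v = c • v) (i : ℕ) :
    (T ^ i) v = c ^ i • v := by
  induction i with
  | zero => simp
  | succ i ih => rw [pow_succ', Module.End.mul_apply, ih, map_smul, hv, smul_smul, pow_succ]

omit [FiniteDimensional k V] in
theorem eigProj_of_mem {T : Module.End k V} {e : ℕ} (he : (e : k) ≠ 0) {c : k} (hc : c ≠ 0)
    {v : V} (hv : T v = c • v) : eigProj T e c v = v := by
  simp only [eigProj, LinearMap.smul_apply, LinearMap.sum_apply, pow_apply_eigen hv, smul_smul,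
    ← mul_pow, inv_mul_cancel₀ hc, one_pow, one_smul, Finset.sum_const, Finset.card_range]
  rw [← Nat.cast_smul_eq_nsmul k, smul_smul, inv_mul_cancel₀ he, one_smul]

omit [FiniteDimensional k V] in
theorem eigProj_mem {T : Module.End k V} {e : ℕ} (hT : T ^ e = 1) {c : k} (hc : c ≠ 0)
    (hce : c ^ e = 1) (v : V) : T (eigProj T e c v) = c • eigProj T e c v := by
  simp only [eigProj, LinearMap.smul_apply, LinearMap.sum_apply, map_smul, map_sum]
  rw [smul_comm c, Finset.smul_sum]
  let f : ℕ → V := fun i => c⁻¹ ^ i • (T ^ i) v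
  have hf : f e = f 0 := by simp [f, hT, hce]
  have key : ∑ i ∈ Finset.range e, f (i + 1) = ∑ i ∈ Finset.range e, f i := by
    have h1 := Finset.sum_range_succ f e
    rw [Finset.sum_range_succ', hf] at h1
    exact add_right_cancel h1
  rw [← Finset.smul_sum, show (∑ i ∈ Finset.range e, c⁻¹ ^ i • T ((T ^ i) v)) =
    c • ∑ i ∈ Finset.range e, f (i + 1) by
      rw [Finset.smul_sum]
      refine Finset.sum_congr rfl fun i _ => ?_
      simp only [f, smul_smul, pow_succ' c⁻¹, ← mul_assoc, mul_inv_cancel₀ hc, one_mul, pow_succ' T,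
        Module.End.mul_apply], key]

theorem finrank_eigenspace_cast {T : Module.End k V} {e : ℕ} (hT : T ^ e = 1) (he : (e : k) ≠ 0)
    {c : k} (hc : c ≠ 0) (hce : c ^ e = 1) :
    (finrank k (T.eigenspace c) : k) =
      (e : k)⁻¹ * ∑ i ∈ Finset.range e, c⁻¹ ^ i * LinearMap.trace k V (T ^ i) := by
  have h : LinearMap.IsProj (T.eigenspace c) (eigProj T e c) :=
    ⟨fun v => Module.End.mem_eigenspace_iff.2 (eigProj_mem hT hc hce v),
      fun v hv => eigProj_of_mem he hc (Module.End.mem_eigenspace_iff.1 hv)⟩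
  rw [← h.trace]
  simp [eigProj, map_sum, map_smul]

theorem finrank_map_add_inf (F : V →ₗ[k] W) (S : Submodule k V) :
    finrank k (S.map F) + finrank k ↥(S ⊓ LinearMap.ker F) = finrank k S := by
  have h := (F.domRestrict S).finrank_range_add_finrank_ker
  rw [LinearMap.range_domRestrict, LinearMap.ker_domRestrict] at h
  rw [← h]
  congr 1
  refine (Submodule.comapSubtypeEquivOfLe (inf_le_left : S ⊓ LinearMap.ker F ≤ S)).finrank_eq.symm.trans ?_
  rw [Submodule.comap_inf, Submodule.comap_subtype_self, top_inf_eq]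

/-- Eigenspace dimensions add along an equivariant map. -/
theorem finrank_eigenspace_add {T : Module.End k V} {T' : Module.End k W} {e : ℕ} (hT : T ^ e = 1)
    (he : (e : k) ≠ 0) {c : k} (hc : c ≠ 0) (hce : c ^ e = 1) (F : V →ₗ[k] W)
    (hF : ∀ v, F (T v) = T' (F v)) :
    finrank k (T.eigenspace c) =
      finrank k ↥(T'.eigenspace c ⊓ LinearMap.range F) +
        finrank k ↥(T.eigenspace c ⊓ LinearMap.ker F) := by
  rw [← finrank_map_add_inf F (T.eigenspace c)]
  refine congrArg (fun S : Submodule k W => finrank k S + _) (le_antisymm ?_ ?_)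
  · rintro _ ⟨v, hv, rfl⟩
    refine ⟨Module.End.mem_eigenspace_iff.2 ?_, v, rfl⟩
    rw [← hF, Module.End.mem_eigenspace_iff.1 hv, map_smul]
  · rintro w ⟨hw, v, rfl⟩
    refine ⟨eigProj T e c v, Module.End.mem_eigenspace_iff.2 (eigProj_mem hT hc hce v), ?_⟩
    have hpow : ∀ i : ℕ, F ((T ^ i) v) = c ^ i • F v := by
      intro i
      induction i with
      | zero => simp
      | succ i ih =>
        rw [pow_succ' T, Module.End.mul_apply, hF, ih, map_smul,
          Module.End.mem_eigenspace_iff.1 hw, smul_smul, pow_succ]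
    simp only [eigProj, LinearMap.smul_apply, LinearMap.sum_apply, map_smul, map_sum, hpow,
      smul_smul, ← mul_pow, inv_mul_cancel₀ hc, one_pow, one_smul, Finset.sum_const,
      Finset.card_range]
    rw [← Nat.cast_smul_eq_nsmul k, smul_smul, inv_mul_cancel₀ he, one_smul]

end eigen

/-- Two chains of length `p` ending in independent vectors need dimension `2 p`. -/
theorem two_mul_le_finrank {k : Type*} [Field k] {V : Type*} [AddCommGroup V] [Module k V]
    [FiniteDimensional k V] (X : Module.End k V) {p : ℕ} (hX : X ^ p = 0) (w₁ w₂ : V)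
    (hind : LinearIndependent k ![(X ^ (p - 1)) w₁, (X ^ (p - 1)) w₂]) :
    2 * p ≤ finrank k V := by
  classical
  let b : Fin 2 × Fin p → V := fun q => (X ^ (q.2 : ℕ)) (![w₁, w₂] q.1)
  suffices h : LinearIndependent k b by
    have := h.fintype_card_le_finrank
    simpa using this
  rw [Fintype.linearIndependent_iff]
  intro g hg
  suffices h : ∀ n : ℕ, ∀ q : Fin 2 × Fin p, (q.2 : ℕ) = n → g q = 0 from fun q => h _ q rfl
  intro n
  induction n using Nat.strong_induction_on with
  | _ n ih =>
    intro q hq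
    have hn : n < p := hq ▸ q.2.2
    have happ := congrArg (X ^ (p - 1 - n)) hg
    rw [map_sum, map_zero] at happ
    have hterm : ∀ i : Fin 2 × Fin p, (X ^ (p - 1 - n)) (g i • b i) =
        if (i.2 : ℕ) = n then g i • (X ^ (p - 1)) (![w₁, w₂] i.1) else 0 := by
      intro i
      rw [map_smul, ← Module.End.mul_apply, ← pow_add]
      split_ifs with h
      · rw [h, Nat.sub_add_cancel (by omega : n ≤ p - 1)]
      · rcases lt_or_gt_of_ne h with h' | h'
        · rw [ih _ h' i rfl, zero_smul]
        · rw [show p - 1 - n + (i.2 : ℕ) = p + ((i.2 : ℕ) - n - 1) by omega, pow_add, hX, zero_mul,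
            LinearMap.zero_apply, smul_zero]
    rw [Finset.sum_congr rfl fun i _ => hterm i, Fintype.sum_prod_type] at happ
    have hsum : ∀ a : Fin 2, (∑ j : Fin p, if (j : ℕ) = n then
        g (a, j) • (X ^ (p - 1)) (![w₁, w₂] a) else 0) =
        g (a, ⟨n, hn⟩) • (X ^ (p - 1)) (![w₁, w₂] a) := by
      intro a
      rw [Finset.sum_eq_single ⟨n, hn⟩ (fun j _ hj => if_neg fun e => hj (Fin.ext e))
        (fun h => absurd (Finset.mem_univ _) h), if_pos rfl]
    simp only [hsum, Fin.sum_univ_two, Matrix.cons_val_zero, Matrix.cons_val_one] at happ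
    obtain ⟨h0, h1⟩ := LinearIndependent.pair_iff.1 hind _ _ happ
    obtain ⟨a, j⟩ := q
    rw [show j = ⟨n, hn⟩ from Fin.ext hq]
    fin_cases a <;> assumption

end Cfsg.Agent.Perm.UniqueP
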