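import Mathlib
import Cfsg.Agent.Lib.Perm.PrimeDegree
import Cfsg.Agent.Lib.Perm.UniqueP.Algebra

/-!
Coordinates for a transitive group of prime degree: a `p`-cycle and the complement of its
normalizer.
-/

set_option autoImplicit false
set_option linter.unusedSectionVars false

namespace Cfsg.Agent.Perm.UniqueP

open Subgroup

/-- A `p`-cycle `x`, generating a Sylow subgroup, and a generator `h` of a complement in its
normalizer fixing the point with coordinate `0`. -/
structure Data (G : Type*) [Group G] (α : Type*) [MulAction G α] (p : ℕ) where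
  P : Sylow p G
  x : G
  h : G
  n : ℕ
  coord : ZMod p ≃ α
  hxP : (P : Subgroup G) = zpowers x
  ordx : orderOf x = p
  conj_h : h * x * h⁻¹ = x ^ n
  x_coord : ∀ k, x • coord k = coord (k + 1)
  h_coord : h • coord 0 = coord 0
  hN : normalizer ((P : Subgroup G) : Set G) = zpowers x ⊔ zpowers h
  hdisj : zpowers x ⊓ zpowers h = ⊥

namespace Data

variable {G : Type*} [Group G] [Finite G] {α : Type*} [MulAction G α] [FaithfulSMul G α] {p : ℕ}
  [hp : Fact p.Prime] (D : Data G α p)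

theorem xpow_coord (i : ℕ) (k : ZMod p) : D.x ^ i • D.coord k = D.coord (k + i) := by
  induction i with
  | zero => simp
  | succ i ih => rw [pow_succ', mul_smul, ih, D.x_coord, Nat.cast_succ, add_assoc]

theorem x_pow_eq_iff {i j : ℕ} : D.x ^ i = D.x ^ j ↔ (i : ZMod p) = j := by
  rw [pow_eq_pow_iff_modEq, D.ordx, ZMod.natCast_eq_natCast_iff]

theorem x_pow_p : D.x ^ p = 1 := by
  exact orderOf_dvd_iff_pow_eq_one.1 (dvd_of_eq D.ordx)

theorem x_ne_one : D.x ≠ 1 := fun h => by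
  have := D.ordx
  rw [h, orderOf_one] at this
  exact hp.out.ne_one this.symm

/-- The centralizer of `x` is `⟨x⟩`. -/
theorem exists_pow_of_commute {g : G} (hg : g * D.x = D.x * g) : ∃ i : ℕ, g = D.x ^ i := by
  obtain ⟨c, hc0⟩ := D.coord.surjective (g • D.coord 0)
  refine ⟨c.val, FaithfulSMul.eq_of_smul_eq_smul (α := α) fun a => ?_⟩
  obtain ⟨k, rfl⟩ := D.coord.surjective a
  have hk : D.coord k = D.x ^ k.val • D.coord 0 := by
    rw [D.xpow_coord, zero_add, ZMod.natCast_zmod_val]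
  have hc : g * D.x ^ k.val = D.x ^ k.val * g := (Commute.pow_right hg _)
  rw [hk, ← mul_smul, hc, mul_smul, ← hc0, D.xpow_coord, D.xpow_coord, D.xpow_coord,
    ZMod.natCast_zmod_val, ZMod.natCast_zmod_val, zero_add, add_comm]

theorem hpow_conj_pow (j i : ℕ) :
    D.h ^ j * D.x ^ i * (D.h ^ j)⁻¹ = D.x ^ (D.n ^ j * i) := by
  induction j generalizing i with
  | zero => simp
  | succ j ih =>
    calc D.h ^ (j + 1) * D.x ^ i * (D.h ^ (j + 1))⁻¹
        = D.h * (D.h ^ j * D.x ^ i * (D.h ^ j)⁻¹) * D.h⁻¹ := by rw [pow_succ']; group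
      _ = (D.h * D.x * D.h⁻¹) ^ (D.n ^ j * i) := by rw [ih, conj_pow]
      _ = _ := by rw [D.conj_h, ← pow_mul]; congr 1; ring

theorem eq_one_of_commute {j : ℕ} (hj : D.h ^ j * D.x = D.x * D.h ^ j) : D.h ^ j = 1 := by
  obtain ⟨i, hi⟩ := D.exists_pow_of_commute hj
  have : D.h ^ j ∈ zpowers D.x ⊓ zpowers D.h :=
    ⟨hi ▸ pow_mem (mem_zpowers D.x) i, pow_mem (mem_zpowers D.h) j⟩
  rwa [D.hdisj, Subgroup.mem_bot] at this

theorem n_pow_eq_one_iff {j : ℕ} : (D.n : ZMod p) ^ j = 1 ↔ orderOf D.h ∣ j := by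
  rw [orderOf_dvd_iff_pow_eq_one, ← Nat.cast_pow, ← Nat.cast_one, ← D.x_pow_eq_iff, pow_one]
  have h1 := D.hpow_conj_pow j 1
  rw [pow_one, mul_one] at h1
  refine ⟨fun h => D.eq_one_of_commute ?_, fun h => ?_⟩
  · rw [← mul_inv_eq_iff_eq_mul, h1, h]
  · rw [← h1, h]; simp

theorem n_ne_zero : (D.n : ZMod p) ≠ 0 := fun h => by
  have h1 := D.n_pow_eq_one_iff.2 (dvd_refl (orderOf D.h))
  rw [h, zero_pow (orderOf_pos D.h).ne'] at h1
  exact zero_ne_one h1

theorem e_dvd : orderOf D.h ∣ p - 1 :=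
  D.n_pow_eq_one_iff.1 (ZMod.pow_card_sub_one_eq_one D.n_ne_zero)

theorem hpow_coord (j : ℕ) (k : ZMod p) :
    D.h ^ j • D.coord k = D.coord ((D.n : ZMod p) ^ j * k) := by
  have h0 : ∀ j : ℕ, D.h ^ j • D.coord 0 = D.coord 0 := by
    intro j
    induction j with
    | zero => simp
    | succ j ih => rw [pow_succ', mul_smul, ih, D.h_coord]
  have hk : D.coord k = D.x ^ k.val • D.coord 0 := by
    rw [D.xpow_coord, zero_add, ZMod.natCast_zmod_val]
  have : D.h ^ j * D.x ^ k.val = D.x ^ (D.n ^ j * k.val) * D.h ^ j := by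
    rw [← D.hpow_conj_pow]; group
  rw [hk, ← mul_smul, this, mul_smul, h0, D.xpow_coord, zero_add, Nat.cast_mul, Nat.cast_pow,
    ZMod.natCast_zmod_val]

theorem mem_normalizer_iff' {g : G} :
    g ∈ normalizer ((D.P : Subgroup G) : Set G) ↔
      ∃ i j : ℕ, g = D.x ^ i * D.h ^ j := by
  classical
  refine ⟨fun hg => ?_, ?_⟩
  · rw [D.hN] at hg
    have hle : zpowers D.h ≤ normalizer ((zpowers D.x : Subgroup G) : Set G) := by
      refine le_trans ?_ (le_of_eq (congrArg (fun S : Subgroup G => normalizer (S : Set G)) D.hxP))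
      rw [D.hN]
      exact le_sup_right
    rw [← SetLike.mem_coe, Subgroup.coe_mul_of_right_le_normalizer_left _ _ hle] at hg
    obtain ⟨a, ha, b, hb, rfl⟩ := Set.mem_mul.1 hg
    obtain ⟨i, -, rfl⟩ := Finset.mem_image.1 (mem_zpowers_iff_mem_range_orderOf.1 ha)
    obtain ⟨j, -, rfl⟩ := Finset.mem_image.1 (mem_zpowers_iff_mem_range_orderOf.1 hb)
    exact ⟨i, j, rfl⟩
  · rintro ⟨i, j, rfl⟩
    rw [D.hN]
    exact mul_mem (mem_sup_left (pow_mem (mem_zpowers _) i))
      (mem_sup_right (pow_mem (mem_zpowers _) j))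

theorem x_mem : D.x ∈ normalizer ((D.P : Subgroup G) : Set G) :=
  D.mem_normalizer_iff'.2 ⟨1, 0, by simp⟩

theorem h_mem : D.h ∈ normalizer ((D.P : Subgroup G) : Set G) :=
  D.mem_normalizer_iff'.2 ⟨0, 1, by simp⟩

/-- The image of `x ^ i * h ^ j` among the automorphisms of `⟨x⟩`. -/
theorem conj_x (i j : ℕ) :
    (D.x ^ i * D.h ^ j) * D.x * (D.x ^ i * D.h ^ j)⁻¹ = D.x ^ (D.n ^ j) := by
  have h1 := D.hpow_conj_pow j 1
  rw [pow_one, mul_one] at h1
  calc (D.x ^ i * D.h ^ j) * D.x * (D.x ^ i * D.h ^ j)⁻¹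
      = D.x ^ i * (D.h ^ j * D.x * (D.h ^ j)⁻¹) * (D.x ^ i)⁻¹ := by group
    _ = _ := by
      rw [h1, ← pow_add, add_comm, pow_add, mul_inv_cancel_right]

/-- Elements of the normalizer killed by `p` lie in `⟨x⟩`. -/
theorem exists_pow_of_mem {y : G} (hy : y ∈ normalizer ((D.P : Subgroup G) : Set G))
    (hyp : y ^ p = 1) : ∃ i : ℕ, y = D.x ^ i := by
  obtain ⟨i, j, rfl⟩ := D.mem_normalizer_iff'.1 hy
  have key : ∀ m : ℕ, ∃ i' : ℕ, (D.x ^ i * D.h ^ j) ^ m = D.x ^ i' * D.h ^ (j * m) := by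
    intro m
    induction m with
    | zero => exact ⟨0, by simp⟩
    | succ m ih =>
      obtain ⟨i', hi'⟩ := ih
      refine ⟨i' + D.n ^ (j * m) * i, ?_⟩
      rw [pow_succ, hi', pow_add, ← D.hpow_conj_pow (j * m) i, Nat.mul_succ, pow_add]
      group
  obtain ⟨i', hi'⟩ := key p
  rw [hyp] at hi'
  have h1 := D.eq_one_of_commute (j := j * p) (by
    rw [eq_inv_mul_of_mul_eq hi'.symm, mul_one]
    exact (Commute.refl D.x).pow_left i' |>.inv_left.eq)
  rw [← orderOf_dvd_iff_pow_eq_one] at h1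
  have hcop : Nat.Coprime (orderOf D.h) p := by
    refine Nat.Coprime.coprime_dvd_left D.e_dvd ((Nat.coprime_comm).1 ?_)
    refine (hp.out.coprime_iff_not_dvd).2 fun h => ?_
    have := Nat.le_of_dvd (Nat.sub_pos_of_lt hp.out.one_lt) h
    have := hp.out.pos
    omega
  exact ⟨i, by rw [orderOf_dvd_iff_pow_eq_one.1 (hcop.dvd_of_dvd_mul_right h1), mul_one]⟩

theorem freeCosets : FreeCosets p (normalizer ((D.P : Subgroup G) : Set G)) D.x where
  pow := D.x_pow_p
  mem := D.x_mem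
  free := by
    intro g hg i hi
    by_contra hnd
    obtain ⟨k, hk⟩ := D.exists_pow_of_mem hi (by
      rw [show g⁻¹ * D.x ^ i * g = g⁻¹ * D.x ^ i * g⁻¹⁻¹ by rw [inv_inv], conj_pow, ← pow_mul,
        mul_comm i, pow_mul, D.x_pow_p, one_pow]
      simp)
    have hk' : g * D.x ^ k * g⁻¹ = D.x ^ i := by rw [← hk]; group
    apply hg
    have hcop : Nat.Coprime i (orderOf D.x) := by
      rw [D.ordx]; exact (hp.out.coprime_iff_not_dvd.2 hnd).symm
    obtain ⟨m, hm⟩ := exists_pow_eq_self_of_coprime hcop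
    have hgx : g⁻¹ * D.x * g⁻¹⁻¹ ∈ zpowers D.x := by
      rw [show g⁻¹ * D.x * g⁻¹⁻¹ = g⁻¹ * (D.x ^ i) ^ m * g⁻¹⁻¹ by rw [hm], ← conj_pow, inv_inv, hk]
      exact pow_mem (pow_mem (mem_zpowers _) _) _
    refine inv_mem_iff.1 ?_
    rw [Subgroup.mem_normalizer_iff]
    have hle : ∀ z ∈ (D.P : Subgroup G), g⁻¹ * z * g⁻¹⁻¹ ∈ (D.P : Subgroup G) := by
      intro z hz
      rw [D.hxP] at hz ⊢
      obtain ⟨a, rfl⟩ := mem_zpowers_iff.1 hz
      rw [← conj_zpow]
      exact zpow_mem hgx a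
    have heq : (D.P : Subgroup G).map (MulAut.conj g⁻¹).toMonoidHom = (D.P : Subgroup G) := by
      refine Subgroup.eq_of_le_of_card_ge ?_ ?_
      · rintro _ ⟨z, hz, rfl⟩
        exact hle z hz
      · exact le_of_eq (Subgroup.card_map_of_injective (MulAut.conj g⁻¹).injective).symm
    intro z
    refine ⟨hle z, fun hz => ?_⟩
    obtain ⟨w, hw, hwz⟩ := (heq.symm ▸ hz :
      g⁻¹ * z * g⁻¹⁻¹ ∈ (D.P : Subgroup G).map (MulAut.conj g⁻¹).toMonoidHom)
    exact (MulAut.conj g⁻¹).injective hwz ▸ hw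

/-- The Sylow subgroup has order `p`. -/
theorem card_P : Nat.card (D.P : Subgroup G) = p := by rw [D.hxP, Nat.card_zpowers, D.ordx]

/-- Elements of order divisible by `p` are conjugate into `⟨x⟩`. -/
theorem exists_conj_pow {g : G} (hg : p ∣ orderOf g) :
    ∃ (c : G) (i : ℕ), c * g * c⁻¹ = D.x ^ i := by
  classical
  obtain ⟨y, hy⟩ : ∃ y, y = g ^ (orderOf g / p) := ⟨_, rfl⟩
  have hyo : orderOf y = p := by
    rw [hy]; exact orderOf_pow_orderOf_div (orderOf_pos g).ne' hg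
  obtain ⟨R, hR⟩ := (IsPGroup.of_card (n := 1) (show Nat.card (zpowers y) = p ^ 1 by
    rw [Nat.card_zpowers, hyo, pow_one])).exists_le_sylow
  obtain ⟨c, hc⟩ := MulAction.exists_smul_eq G R D.P
  have hcy : c * y * c⁻¹ ∈ zpowers D.x := by
    rw [← D.hxP, ← hc]
    exact ⟨y, hR (mem_zpowers y), rfl⟩
  obtain ⟨i, -, hi⟩ := Finset.mem_image.1 (mem_zpowers_iff_mem_range_orderOf.1 hcy)
  have hnd : ¬ p ∣ i := fun h => by
    rw [orderOf_dvd_iff_pow_eq_one.1 (show orderOf D.x ∣ i by rw [D.ordx]; exact h)] at hi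
    rw [conj_eq_one_iff.1 hi.symm, orderOf_one] at hyo
    exact hp.out.ne_one hyo.symm
  have hcop : Nat.Coprime i (orderOf D.x) := by
    rw [D.ordx]; exact (hp.out.coprime_iff_not_dvd.2 hnd).symm
  obtain ⟨m, hm⟩ := exists_pow_eq_self_of_coprime hcop
  refine ⟨c, D.exists_pow_of_commute ?_⟩
  rw [← hm]
  refine Commute.pow_right ?_ m
  rw [hi, hy, ← conj_pow]
  exact Commute.self_pow _ _

/-- Class functions summed over the normalizer. -/
theorem sum_normalizer [Fintype (normalizer ((D.P : Subgroup G) : Set G))] {A : Type*}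
    [AddCommMonoid A] (F : G → A) (hF : ∀ g, F (D.x * g * D.x⁻¹) = F g) :
    ∑ g : normalizer ((D.P : Subgroup G) : Set G), F g =
      (∑ i ∈ Finset.range p, F (D.x ^ i)) +
        p • ∑ j ∈ Finset.Ico 1 (orderOf D.h), F (D.h ^ j) := by
  classical
  have he := orderOf_pos D.h
  let f : Fin p × Fin (orderOf D.h) → normalizer ((D.P : Subgroup G) : Set G) :=
    fun q => ⟨D.x ^ (q.1 : ℕ) * D.h ^ (q.2 : ℕ), D.mem_normalizer_iff'.2 ⟨_, _, rfl⟩⟩
  have hf : Function.Bijective f := by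
    constructor
    · rintro ⟨a, b⟩ ⟨a', b'⟩ hab
      have h1 : D.x ^ (a : ℕ) * D.h ^ (b : ℕ) = D.x ^ (a' : ℕ) * D.h ^ (b' : ℕ) :=
        congrArg Subtype.val hab
      have h2 : (D.x ^ (a' : ℕ))⁻¹ * D.x ^ (a : ℕ) = D.h ^ (b' : ℕ) * (D.h ^ (b : ℕ))⁻¹ := by
        rw [eq_mul_inv_iff_mul_eq, mul_assoc, h1, inv_mul_cancel_left]
      have hm : (D.x ^ (a' : ℕ))⁻¹ * D.x ^ (a : ℕ) ∈ zpowers D.x ⊓ zpowers D.h :=
        ⟨mul_mem ((zpowers D.x).inv_mem (pow_mem (mem_zpowers D.x) _)) (pow_mem (mem_zpowers D.x) _),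
          h2 ▸ mul_mem (pow_mem (mem_zpowers D.h) _)
            ((zpowers D.h).inv_mem (pow_mem (mem_zpowers D.h) _))⟩
      rw [D.hdisj, Subgroup.mem_bot] at hm
      have ha := pow_injOn_Iio_orderOf (x := D.x) (D.ordx.symm ▸ a.2) (D.ordx.symm ▸ a'.2)
        (inv_mul_eq_one.1 hm).symm
      rw [h2, mul_inv_eq_one] at hm
      have hb := pow_injOn_Iio_orderOf (x := D.h) b.2 b'.2 hm.symm
      exact Prod.ext (Fin.ext ha) (Fin.ext hb)
    · rintro ⟨g, hg⟩
      obtain ⟨i, j, rfl⟩ := D.mem_normalizer_iff'.1 hg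
      refine ⟨(⟨i % p, Nat.mod_lt _ hp.out.pos⟩, ⟨j % orderOf D.h, Nat.mod_lt _ he⟩), ?_⟩
      exact Subtype.ext (by
        show D.x ^ (i % p) * D.h ^ (j % orderOf D.h) = _
        rw [pow_mod_orderOf, show D.x ^ (i % p) = D.x ^ i by rw [D.x_pow_eq_iff, ZMod.natCast_mod]])
  rw [← Fintype.sum_bijective f hf (fun q => F (D.x ^ (q.1 : ℕ) * D.h ^ (q.2 : ℕ)))
    (fun g => F g) fun _ => rfl, Fintype.sum_prod_type]
  have hFc : ∀ (c : ℕ) (g : G), F (D.x ^ c * g * (D.x ^ c)⁻¹) = F g := by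
    intro c
    induction c with
    | zero => simp
    | succ c ih =>
      intro g
      rw [← ih g, ← hF (D.x ^ c * g * (D.x ^ c)⁻¹), pow_succ']
      congr 1
      group
  have hrow : ∀ a : ℕ, ∀ b ∈ Finset.Ico 1 (orderOf D.h), F (D.x ^ a * D.h ^ b) = F (D.h ^ b) := by
    intro a b hb
    rw [Finset.mem_Ico] at hb
    have h1 : (1 : ZMod p) - (D.n : ZMod p) ^ b ≠ 0 := by
      rw [sub_ne_zero]
      intro h
      have := Nat.le_of_dvd (by omega) (D.n_pow_eq_one_iff.1 h.symm)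
      omega
    set c := ((a : ZMod p) / (1 - (D.n : ZMod p) ^ b)).val with hc
    have hx : D.x ^ c = D.x ^ (a + D.n ^ b * c) := by
      rw [D.x_pow_eq_iff, Nat.cast_add, Nat.cast_mul, Nat.cast_pow, hc, ZMod.natCast_zmod_val]
      field_simp
      ring
    rw [← hFc c (D.h ^ b)]
    congr 1
    rw [eq_mul_inv_iff_mul_eq]
    conv_rhs => rw [hx, pow_add, ← D.hpow_conj_pow b c]
    group
  have hinner : ∀ a : Fin p, ∑ b : Fin (orderOf D.h), F (D.x ^ (a : ℕ) * D.h ^ (b : ℕ)) =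
      F (D.x ^ (a : ℕ)) + ∑ b ∈ Finset.Ico 1 (orderOf D.h), F (D.h ^ b) := by
    intro a
    rw [Fin.sum_univ_eq_sum_range (fun j => F (D.x ^ (a : ℕ) * D.h ^ j)), Finset.range_eq_Ico,
      Finset.sum_eq_sum_Ico_succ_bot he, pow_zero, mul_one]
    exact congrArg _ (Finset.sum_congr rfl (hrow a))
  rw [Fintype.sum_congr _ _ hinner, Finset.sum_add_distrib, Finset.sum_const, Finset.card_univ,
    Fintype.card_fin, Fin.sum_univ_eq_sum_range (fun i => F (D.x ^ i))]

end Data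

/-- Coordinates adapted to a given complement. -/
theorem exists_data {α : Type*} [Fintype α] [DecidableEq α] {p : ℕ} [Fact p.Prime]
    (hα : Fintype.card α = p) (G : Subgroup (Equiv.Perm α)) [MulAction.IsPretransitive G α]
    (P : Sylow p G) (E : Subgroup G)
    (hPE : (P : Subgroup G) ⊔ E = normalizer ((P : Subgroup G) : Set G))
    (hPE' : (P : Subgroup G) ⊓ E = ⊥) :
    ∃ D : Data G α p, D.P = P ∧ zpowers D.h = E := by
  classical
  have hp : p.Prime := Fact.out
  obtain ⟨e₀, t, ht, hte⟩ := PrimeDegree.exists_coord (by rw [Nat.card_eq_fintype_card, hα]) G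
  haveI : Finite G := inferInstance
  -- the Sylow subgroup has order `p`
  have hfac : Nat.card G ∣ p.factorial := by
    have := Subgroup.card_subgroup_dvd_card G
    rwa [Nat.card_perm, Nat.card_eq_fintype_card (α := α), hα] at this
  obtain ⟨a, ha⟩ := IsPGroup.iff_card.1 P.2
  have hpd : p ∣ Nat.card (P : Subgroup G) :=
    P.dvd_card_of_dvd_card (ht ▸ orderOf_dvd_natCard t)
  have ha1 : a = 1 := by
    have h0 : a ≠ 0 := by
      rintro rfl
      rw [ha, pow_zero] at hpd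
      exact hp.ne_one (Nat.dvd_one.1 hpd)
    by_contra h1
    have h2 : p ^ 2 ∣ p.factorial :=
      ((pow_dvd_pow p (show 2 ≤ a by omega)).trans (ha ▸ Subgroup.card_subgroup_dvd_card _)).trans
        hfac
    have h3 : p * p ∣ p * (p - 1).factorial := by
      rwa [Nat.mul_factorial_pred hp.ne_zero, ← pow_two]
    have h4 := Nat.dvd_of_mul_dvd_mul_left hp.pos h3
    have := (hp.dvd_factorial).1 h4
    have := hp.pos
    omega
  rw [ha1, pow_one] at ha
  -- move the cycle into `P`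
  obtain ⟨R, hR⟩ := (IsPGroup.of_card (n := 1) (show Nat.card (zpowers t) = p ^ 1 by
    rw [Nat.card_zpowers, ht, pow_one])).exists_le_sylow
  obtain ⟨c, hc⟩ := MulAction.exists_smul_eq G R P
  set x := c * t * c⁻¹ with hx
  have hxo : orderOf x = p := by
    rw [hx, show c * t * c⁻¹ = MulAut.conj c t from rfl, MulEquiv.orderOf_eq, ht]
  have hxP : (P : Subgroup G) = zpowers x := by
    refine (Subgroup.eq_of_le_of_card_ge (zpowers_le.2 ?_) ?_).symm
    · rw [← hc]; exact ⟨t, hR (mem_zpowers t), rfl⟩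
    · rw [Nat.card_zpowers, hxo, ha]
  let e₁ : ZMod p ≃ α := e₀.trans (MulAction.toPerm c)
  have hxe : ∀ k, x • e₁ k = e₁ (k + 1) := fun k => by
    show (c * t * c⁻¹) • (c • e₀ k) = c • e₀ (k + 1)
    rw [mul_smul, inv_smul_smul, mul_smul, hte]
  have hxpow : ∀ (i : ℕ) k, x ^ i • e₁ k = e₁ (k + i) := by
    intro i
    induction i with
    | zero => simp
    | succ i ih => intro k; rw [pow_succ', mul_smul, ih, hxe, Nat.cast_succ, add_assoc]
  have hcent : ∀ g : G, g * x = x * g → g ∈ zpowers x := by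
    intro g hg
    obtain ⟨d, hd⟩ := e₁.surjective (g • e₁ 0)
    have : g = x ^ d.val := by
      refine FaithfulSMul.eq_of_smul_eq_smul (α := α) fun b => ?_
      obtain ⟨k, rfl⟩ := e₁.surjective b
      have hk : e₁ k = x ^ k.val • e₁ 0 := by
        rw [hxpow, zero_add, ZMod.natCast_zmod_val]
      rw [hk, ← mul_smul, (Commute.pow_right hg _).eq, mul_smul, ← hd, hxpow, hxpow, hxpow,
        ZMod.natCast_zmod_val, ZMod.natCast_zmod_val, zero_add, add_comm]
    rw [this]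
    exact pow_mem (mem_zpowers x) _
  -- the action of `E` on `P`
  have hEN : E ≤ normalizer ((P : Subgroup G) : Set G) := hPE ▸ le_sup_right
  have hconj : ∀ g : E, ∃ m : ℕ, (g : G) * x * (g : G)⁻¹ = x ^ m := fun g => by
    have h1 : (g : G) * x * (g : G)⁻¹ ∈ zpowers x := by
      rw [← hxP]
      exact (Subgroup.mem_normalizer_iff.1 (hEN g.2) x).1 (hxP ▸ mem_zpowers x)
    obtain ⟨m, -, hm⟩ := Finset.mem_image.1 (mem_zpowers_iff_mem_range_orderOf.1 h1)
    exact ⟨m, hm.symm⟩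
  choose m hm using hconj
  let θ : E →* ZMod p :=
    { toFun := fun g => (m g : ZMod p)
      map_one' := by
        have := hm 1
        rw [OneMemClass.coe_one, one_mul, inv_one, mul_one] at this
        conv_lhs at this => rw [← pow_one x]
        rw [pow_eq_pow_iff_modEq, hxo, ← ZMod.natCast_eq_natCast_iff, Nat.cast_one] at this
        exact this.symm
      map_mul' := fun g g' => by
        have h1 := hm (g * g')
        rw [Subgroup.coe_mul, show (g : G) * g' * x * ((g : G) * g')⁻¹ =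
          (g : G) * ((g' : G) * x * (g' : G)⁻¹) * (g : G)⁻¹ by group, hm g', ← conj_pow, hm g,
          ← pow_mul, pow_eq_pow_iff_modEq, hxo, ← ZMod.natCast_eq_natCast_iff, Nat.cast_mul] at h1
        exact h1.symm }
  have hθinj : Function.Injective θ.toHomUnits := by
    rw [← MonoidHom.ker_eq_bot_iff, Subgroup.eq_bot_iff_forall]
    intro g hg
    rw [MonoidHom.mem_ker, Units.ext_iff] at hg
    change (m g : ZMod p) = 1 at hg
    have h1 := hm g
    rw [← Nat.cast_one, ZMod.natCast_eq_natCast_iff, ← hxo, ← pow_eq_pow_iff_modEq, pow_one] at hg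
    rw [hg, mul_inv_eq_iff_eq_mul] at h1
    have h2 : (g : G) ∈ (P : Subgroup G) ⊓ E := ⟨hxP ▸ hcent _ h1, g.2⟩
    rw [hPE', Subgroup.mem_bot] at h2
    exact Subtype.ext h2
  haveI : IsCyclic E := isCyclic_of_injective θ.toHomUnits hθinj
  obtain ⟨g₀, hg₀⟩ := IsCyclic.exists_generator (α := E)
  set h : G := (g₀ : G) with hh
  have hE : zpowers h = E := by
    rw [hh]
    change zpowers (E.subtype g₀) = E
    rw [← MonoidHom.map_zpowers E.subtype g₀, (Subgroup.eq_top_iff' _).2 hg₀,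
      ← MonoidHom.range_eq_map, Subgroup.range_subtype]
  -- a point fixed by `h`
  obtain ⟨b, hb⟩ : ∃ b : ZMod p, h • e₁ b = e₁ b := by
    by_cases h1 : h = 1
    · exact ⟨0, by rw [h1, one_smul]⟩
    have hn1 : (m g₀ : ZMod p) ≠ 1 := fun e1 => h1 (by
      have : θ.toHomUnits g₀ = θ.toHomUnits 1 := by rw [map_one]; exact Units.ext e1
      rw [hh, hθinj this, OneMemClass.coe_one])
    obtain ⟨d, hd⟩ := e₁.surjective (h • e₁ 0)
    refine ⟨d / (1 - (m g₀ : ZMod p)), ?_⟩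
    set b := d / (1 - (m g₀ : ZMod p))
    have hb0 : e₁ b = x ^ b.val • e₁ 0 := by rw [hxpow, zero_add, ZMod.natCast_zmod_val]
    have hcm : h * x ^ b.val = x ^ (m g₀ * b.val) * h := by
      conv_rhs => rw [pow_mul, ← hm g₀, ← hh, conj_pow, inv_mul_cancel_right]
    rw [hb0, ← mul_smul, hcm, mul_smul, ← hd, hxpow, hxpow, zero_add, Nat.cast_mul,
      ZMod.natCast_zmod_val]
    congr 1
    have : (1 : ZMod p) - (m g₀ : ZMod p) ≠ 0 := sub_ne_zero.2 (Ne.symm hn1)
    simp only [b]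
    field_simp
    ring
  refine ⟨{ P := P, x := x, h := h, n := m g₀, coord := (Equiv.addRight b).trans e₁,
            hxP := hxP, ordx := hxo, conj_h := hm g₀,
            x_coord := fun k => by
              show x • e₁ (k + b) = e₁ (k + 1 + b)
              rw [hxe]; congr 1; ring,
            h_coord := by
              show h • e₁ (0 + b) = e₁ (0 + b)
              rw [zero_add]; exact hb,
            hN := by rw [← hPE, hxP, hE],
            hdisj := by rw [← hxP, hE]; exact hPE' }, rfl, hE⟩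

end Cfsg.Agent.Perm.UniqueP
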