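import Mathlib
import Cfsg.Agent.Lib.Characters.Kernel
import Cfsg.Agent.Lib.Characters.Integrality
import Cfsg.Agent.Lib.Components.CommonDivisor.Det
import Cfsg.Agent.Lib.Classical.OrthIso
import Cfsg.Agent.Lib.Perm.UniqueP.Setup
import Cfsg.Agent.Lib.Perm.PermModule

/-!
The character of degree `p` of a transitive group of degree `p` having just one such character:
the group is simple and the character is `1` on the nontrivial elements of the complement.
-/

set_option autoImplicit false
set_option linter.unusedSectionVars false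
set_option linter.style.haveILetI false

namespace Cfsg.Agent.Perm.UniqueP

open Subgroup Cfsg.Agent.Characters
open scoped ComplexConjugate commutatorElement

namespace Data

universe u v

variable {G : Type u} [Group G] [Finite G] {α : Type v} [Fintype α] [MulAction G α]
  [FaithfulSMul G α] [MulAction.IsPretransitive G α] {p : ℕ} [hp : Fact p.Prime] (D : Data G α p)

/-- The centralizer of a nontrivial power of `x`. -/
theorem centralizer_pow {i : ℕ} (hi : ¬ p ∣ i) :
    centralizer ({D.x ^ i} : Set G) = zpowers D.x := by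
  apply le_antisymm
  · intro g hg
    rw [mem_centralizer_singleton_iff] at hg
    have hcop : Nat.Coprime i (orderOf D.x) := by
      rw [D.ordx]; exact (hp.out.coprime_iff_not_dvd.2 hi).symm
    obtain ⟨m, hm⟩ := exists_pow_eq_self_of_coprime hcop
    obtain ⟨k, rfl⟩ := D.exists_pow_of_commute (g := g) (by
      rw [← hm]; exact (show Commute g (D.x ^ i) from hg).pow_right m)
    exact pow_mem (mem_zpowers D.x) k
  · rw [zpowers_le, mem_centralizer_singleton_iff]
    exact Commute.self_pow D.x i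

/-- `x ^ i * h ^ j` is conjugate to `h ^ j` under `⟨x⟩`. -/
theorem exists_conj_row (i j : ℕ) (hj : ¬ orderOf D.h ∣ j) :
    ∃ c : ℕ, D.x ^ c * D.h ^ j * (D.x ^ c)⁻¹ = D.x ^ i * D.h ^ j := by
  have h1 : (1 : ZMod p) - (D.n : ZMod p) ^ j ≠ 0 := by
    rw [sub_ne_zero]
    exact fun h => hj (D.n_pow_eq_one_iff.1 h.symm)
  set c := ((i : ZMod p) / (1 - (D.n : ZMod p) ^ j)).val with hc
  refine ⟨c, ?_⟩
  have hx : D.x ^ c = D.x ^ (i + D.n ^ j * c) := by
    rw [D.x_pow_eq_iff, Nat.cast_add, Nat.cast_mul, Nat.cast_pow, hc, ZMod.natCast_zmod_val]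
    field_simp
    ring
  rw [mul_inv_eq_iff_eq_mul]
  conv_lhs => rw [hx, pow_add, ← D.hpow_conj_pow j c]
  group

theorem index_P_ndvd : ¬ p ∣ (D.P : Subgroup G).index := D.P.not_dvd_index

/-- A normal subgroup other than `⊥` contains `x`. -/
theorem x_mem_of_normal (hα : Fintype.card α = p) (K : Subgroup G) [K.Normal] (hK : K ≠ ⊥) :
    D.x ∈ K := by
  have hprim : MulAction.IsPreprimitive G α :=
    MulAction.IsPreprimitive.of_prime_card (by rw [Nat.card_eq_fintype_card, hα]; exact hp.out)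
  have hfix : MulAction.fixedPoints K α ≠ Set.univ := by
    intro h
    refine hK ((Subgroup.eq_bot_iff_forall K).2 fun g hg => FaithfulSMul.eq_of_smul_eq_smul (α := α)
      fun a => ?_)
    have ha : a ∈ MulAction.fixedPoints K α := h ▸ Set.mem_univ a
    rw [one_smul]
    exact ha ⟨g, hg⟩
  haveI : MulAction.IsPretransitive K α :=
    MulAction.IsQuasiPreprimitive.isPretransitive_of_normal hfix
  have hdvd : p ∣ Nat.card K := by
    have h := (MulAction.stabilizer K (D.coord 0)).index_dvd_card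
    rwa [MulAction.index_stabilizer_of_transitive, Nat.card_eq_fintype_card, hα] at h
  obtain ⟨k, hk⟩ := exists_prime_orderOf_dvd_card' (G := K) p hdvd
  have hk' : orderOf (k : G) = p := by rw [orderOf_submonoid]; exact hk
  obtain ⟨c, i, hi⟩ := D.exists_conj_pow (g := (k : G)) (by rw [hk'])
  have hmem : D.x ^ i ∈ K := hi ▸ (inferInstance : K.Normal).conj_mem _ k.2 c
  have hnd : ¬ p ∣ i := fun h => by
    rw [orderOf_dvd_iff_pow_eq_one.1 (show orderOf D.x ∣ i by rw [D.ordx]; exact h),
      conj_eq_one_iff] at hi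
    rw [hi, orderOf_one] at hk'
    exact hp.out.ne_one hk'.symm
  have hcop : Nat.Coprime i (orderOf D.x) := by
    rw [D.ordx]; exact (hp.out.coprime_iff_not_dvd.2 hnd).symm
  obtain ⟨m, hm⟩ := exists_pow_eq_self_of_coprime hcop
  exact hm ▸ pow_mem hmem m

/-- The complement is nontrivial. -/
theorem two_le_e (hα : Fintype.card α = p) {χ : G → ℂ} (hχ : Cfsg.IsIrrCharacter G χ)
    (hχ1 : χ 1 = p) : 2 ≤ orderOf D.h := by
  by_contra he
  have he1 : orderOf D.h = 1 := by have := orderOf_pos D.h; omega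
  have hN : normalizer ((D.P : Subgroup G) : Set G) ≤ centralizer ((D.P : Subgroup G) : Set G) := by
    rw [D.hN, orderOf_eq_one_iff.1 he1, zpowers_one_eq_bot, sup_bot_eq, D.hxP]
    intro g hg
    rw [mem_centralizer_iff]
    intro w hw
    obtain ⟨i, rfl⟩ := mem_zpowers_iff.1 hg
    obtain ⟨j, rfl⟩ := mem_zpowers_iff.1 hw
    rw [← zpow_add, ← zpow_add, add_comm]
  set K := (MonoidHom.transferSylow D.P hN).ker with hK
  have hcompl := MonoidHom.ker_transferSylow_isComplement' D.P hN
  have hK0 : K = ⊥ := by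
    by_contra hne
    have hx := D.x_mem_of_normal hα K hne
    have h1 : D.x ∈ K ⊓ (D.P : Subgroup G) := ⟨hx, by rw [D.hxP]; exact mem_zpowers D.x⟩
    rw [hcompl.disjoint.eq_bot, Subgroup.mem_bot] at h1
    exact D.x_ne_one h1
  have hPtop : (D.P : Subgroup G) = ⊤ := isComplement'_bot_left.1 (hK0 ▸ hcompl)
  have hcomm : ∀ a b : G, a * b = b * a := fun a b => by
    have hall : ∀ g : G, g ∈ zpowers D.x := fun g => D.hxP ▸ hPtop ▸ Subgroup.mem_top g
    obtain ⟨i, rfl⟩ := mem_zpowers_iff.1 (hall a)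
    obtain ⟨j, rfl⟩ := mem_zpowers_iff.1 (hall b)
    rw [← zpow_add, ← zpow_add, add_comm]
  have := irr_degree_one_of_comm hcomm hχ
  rw [hχ1] at this
  exact hp.out.ne_one (by exact_mod_cast this)

variable {χ : G → ℂ}

/-- A character of degree `p` vanishes on the nontrivial elements of `⟨x⟩`. -/
theorem chi_x (hχ : Cfsg.IsIrrCharacter G χ) (hχ1 : χ 1 = p) {i : ℕ} (hi : ¬ p ∣ i) :
    χ (D.x ^ i) = 0 := by
  classical
  obtain ⟨n, ρ, hρ, rfl⟩ := hχ
  have hn : Module.finrank ℂ (Fin n → ℂ) = p := by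
    rw [Representation.char_one] at hχ1
    exact_mod_cast hχ1
  haveI := Fintype.ofFinite (Cfsg.IrrCharacter G)
  have hcop : Nat.Coprime (Module.finrank ℂ (Fin n → ℂ))
      (centralizer ({D.x ^ i} : Set G)).index := by
    rw [hn, D.centralizer_pow hi, ← D.hxP]
    exact hp.out.coprime_iff_not_dvd.2 D.index_P_ndvd
  refine (char_eq_zero_or_norm_eq_of_coprime ρ _ hcop).resolve_right fun hnorm => ?_
  rw [hn] at hnorm
  have hsum := second_orthogonality (D.x ^ i) (D.x ^ i)
  rw [if_pos (IsConj.refl _), D.centralizer_pow hi, Nat.card_zpowers, D.ordx] at hsum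
  simp only [Complex.mul_conj, ← Complex.ofReal_natCast, ← Complex.ofReal_sum,
    Complex.ofReal_inj] at hsum
  have hle := Finset.single_le_sum (f := fun ψ : Cfsg.IrrCharacter G =>
      Complex.normSq ((ψ : G → ℂ) (D.x ^ i))) (fun _ _ => Complex.normSq_nonneg _)
    (Finset.mem_univ (⟨ρ.character, n, ρ, hρ, rfl⟩ : Cfsg.IrrCharacter G))
  rw [hsum] at hle
  simp only [Complex.normSq_eq_norm_sq] at hle
  rw [hnorm] at hle
  have h2 : (2 : ℝ) ≤ p := by exact_mod_cast hp.out.two_le
  nlinarith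

/-- On the nontrivial powers of `h` a character of degree `p` is a linear character. -/
theorem exists_linear (hχ : Cfsg.IsIrrCharacter G χ) (hχ1 : χ 1 = p) :
    ∃ μ : zpowers D.h →* ℂ, ∀ w : zpowers D.h, w ≠ 1 → χ (w : G) = μ w := by
  classical
  have hx := fun (i : ℕ) (hi : ¬ p ∣ i) => D.chi_x hχ hχ1 hi
  obtain ⟨n, ρ, hρ, rfl⟩ := hχ
  let π : Module.End ℂ (Fin n → ℂ) := (p : ℂ)⁻¹ • ∑ i ∈ Finset.range p, ρ (D.x ^ i)
  have hpC : (p : ℂ) ≠ 0 := Nat.cast_ne_zero.2 hp.out.ne_zero
  have htr : LinearMap.trace ℂ _ π = 1 := by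
    simp only [π, map_smul, map_sum, smul_eq_mul]
    show (p : ℂ)⁻¹ * ∑ i ∈ Finset.range p, ρ.character (D.x ^ i) = 1
    rw [Finset.sum_eq_single_of_mem 0 (Finset.mem_range.2 hp.out.pos) fun i hi hi0 =>
      hx i fun hd => hi0 (Nat.eq_zero_of_dvd_of_lt hd (Finset.mem_range.1 hi)), pow_zero, hχ1,
      inv_mul_cancel₀ hpC]
  have hxπ : ρ D.x * π = π := by
    simp only [π, mul_smul_comm, Finset.mul_sum, ← map_mul, ← pow_succ']
    congr 1
    have h1 := Finset.sum_range_succ' (fun i => ρ (D.x ^ i)) p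
    rw [Finset.sum_range_succ, D.x_pow_p, pow_zero] at h1
    exact (add_right_cancel h1).symm
  have hxiπ : ∀ i : ℕ, ρ (D.x ^ i) * π = π := by
    intro i
    induction i with
    | zero => simp
    | succ i ih => rw [pow_succ, map_mul, mul_assoc, hxπ, ih]
  have hππ : π * π = π := by
    conv_lhs => arg 1; simp only [π]
    rw [smul_mul_assoc, Finset.sum_mul, Finset.sum_congr rfl fun i _ => hxiπ i, Finset.sum_const,
      Finset.card_range, ← Nat.cast_smul_eq_nsmul ℂ, smul_smul, inv_mul_cancel₀ hpC, one_smul]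
  have hproj : LinearMap.IsProj (LinearMap.range π) π :=
    ⟨fun v => ⟨v, rfl⟩, fun v hv => by
      obtain ⟨u, rfl⟩ := hv
      exact LinearMap.congr_fun hππ u⟩
  have hdim : Module.finrank ℂ (LinearMap.range π) = 1 := by
    have := hproj.trace
    rw [htr] at this
    exact_mod_cast this.symm
  obtain ⟨v, hv, hv0⟩ := Submodule.exists_mem_ne_zero_of_ne_bot (p := LinearMap.range π) (by
    intro hb; rw [hb, finrank_bot] at hdim; omega)
  have hspan : ∀ u ∈ LinearMap.range π, ∃ c : ℂ, c • v = u := fun u hu => by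
    obtain ⟨c, hc⟩ := (finrank_eq_one_iff_of_nonzero' (⟨v, hv⟩ : LinearMap.range π)
      (by simpa using hv0)).1 hdim ⟨u, hu⟩
    exact ⟨c, congrArg Subtype.val hc⟩
  have hvx : ∀ i : ℕ, ρ (D.x ^ i) v = v := fun i => by
    obtain ⟨u, rfl⟩ := hv
    exact LinearMap.congr_fun (hxiπ i) u
  have hπfix : ∀ u, (∀ i : ℕ, ρ (D.x ^ i) u = u) → π u = u := fun u hu => by
    simp only [π, LinearMap.smul_apply, LinearMap.sum_apply, hu, Finset.sum_const,
      Finset.card_range]
    rw [← Nat.cast_smul_eq_nsmul ℂ, smul_smul, inv_mul_cancel₀ hpC, one_smul]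
  -- `h` acts on the fixed line by a scalar
  have hline : ∀ w : zpowers D.h, ∃ c : ℂ, ρ (w : G) v = c • v := by
    rintro ⟨w, hw⟩
    obtain ⟨j, -, rfl⟩ := Finset.mem_image.1 (mem_zpowers_iff_mem_range_orderOf.1 hw)
    obtain ⟨c, hc⟩ := hspan (ρ (D.h ^ j) v) ⟨ρ (D.h ^ j) v, hπfix _ fun i => by
      obtain ⟨i', hi'⟩ : ∃ i' : ℕ, D.x ^ i * D.h ^ j = D.h ^ j * D.x ^ i' := by
        refine ⟨((i : ZMod p) / (D.n : ZMod p) ^ j).val, ?_⟩
        have h1 := D.hpow_conj_pow j ((i : ZMod p) / (D.n : ZMod p) ^ j).val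
        rw [mul_inv_eq_iff_eq_mul] at h1
        rw [h1]
        congr 1
        rw [D.x_pow_eq_iff, Nat.cast_mul, Nat.cast_pow, ZMod.natCast_zmod_val,
          mul_div_cancel₀ _ (pow_ne_zero _ D.n_ne_zero)]
      rw [← Module.End.mul_apply, ← map_mul, hi', map_mul, Module.End.mul_apply, hvx]⟩
    exact ⟨c, hc.symm⟩
  choose c hc using hline
  have hc1 : c 1 = 1 := by
    have := hc 1
    rw [OneMemClass.coe_one, map_one, Module.End.one_apply] at this
    exact (smul_left_injective ℂ hv0 ((one_smul ℂ v).trans this)).symm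
  have hcm : ∀ a b, c (a * b) = c a * c b := fun a b => by
    refine smul_left_injective ℂ hv0 ?_
    show c (a * b) • v = (c a * c b) • v
    rw [← hc, Subgroup.coe_mul, map_mul, Module.End.mul_apply, hc b, map_smul, hc a, smul_smul,
      mul_comm]
  refine ⟨{ toFun := c, map_one' := hc1, map_mul' := hcm }, fun w hw1 => ?_⟩
  obtain ⟨j, -, hj⟩ := Finset.mem_image.1 (mem_zpowers_iff_mem_range_orderOf.1 w.2)
  have hjd : ¬ orderOf D.h ∣ j := fun h => hw1 (Subtype.ext (by
    rw [← hj, orderOf_dvd_iff_pow_eq_one.1 h]; rfl))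
  have hwπ : ρ (w : G) * π = c w • π := LinearMap.ext fun u => by
    obtain ⟨a, ha⟩ := hspan (π u) ⟨u, rfl⟩
    show ρ (w : G) (π u) = c w • π u
    rw [← ha, map_smul, hc w, smul_comm]
  have h1 := congrArg (LinearMap.trace ℂ (Fin n → ℂ)) hwπ
  rw [map_smul, htr, smul_eq_mul, mul_one] at h1
  show ρ.character (w : G) = c w
  rw [← h1]
  simp only [π, mul_smul_comm, Finset.mul_sum, map_smul, map_sum, smul_eq_mul, ← map_mul]
  have hall : ∀ i ∈ Finset.range p, LinearMap.trace ℂ _ (ρ ((w : G) * D.x ^ i)) =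
      ρ.character (w : G) := by
    intro i _
    obtain ⟨d, hd⟩ := D.exists_conj_row (D.n ^ j * i) j hjd
    show ρ.character ((w : G) * D.x ^ i) = _
    rw [← hj, show D.h ^ j * D.x ^ i = D.x ^ (D.n ^ j * i) * D.h ^ j by
      rw [← D.hpow_conj_pow]; group, ← hd, Representation.char_conj]
  rw [← Finset.mul_sum, Finset.sum_congr rfl hall, Finset.sum_const, Finset.card_range,
    nsmul_eq_mul, ← mul_assoc,
    inv_mul_cancel₀ hpC, one_mul]

include D in
/-- With a single character of degree `p` the group is perfect. -/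
theorem perfect (hα : Fintype.card α = p) (hχ : Cfsg.IsIrrCharacter G χ) (hχ1 : χ 1 = p)
    (huniq : ∀ ψ : G → ℂ, Cfsg.IsIrrCharacter G ψ → ψ 1 = p → ψ = χ) : commutator G = ⊤ := by
  classical
  have he := D.two_le_e hα hχ hχ1
  obtain ⟨μ, hμ⟩ := D.exists_linear hχ hχ1
  have hlam : ∀ (lam : G →* ℂˣ) (g : G), lam g = 1 := by
    intro lam
    have heq := huniq _ (isIrrCharacter_mul_linear hχ lam) (by simp [hχ1])
    have hh : lam D.h = 1 := by
      set w : zpowers D.h := ⟨D.h, mem_zpowers D.h⟩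
      have hw : w ≠ 1 := fun e => by
        have : D.h = 1 := congrArg Subtype.val e
        rw [this, orderOf_one] at he
        omega
      have hne : χ D.h ≠ 0 := by
        rw [hμ w hw]
        have h1 : μ w * μ w⁻¹ = 1 := by rw [← map_mul, mul_inv_cancel, map_one]
        exact left_ne_zero_of_mul_eq_one h1
      have h2 := congrFun heq D.h
      change (lam D.h : ℂ) * χ D.h = χ D.h at h2
      exact Units.ext (by rw [Units.val_one]; exact mul_left_eq_self₀.1 h2 |>.resolve_right hne)
    have hx : lam D.x = 1 := by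
      have h1 := congrArg lam D.conj_h
      rw [map_mul, map_mul, map_inv, hh, one_mul, inv_one, mul_one, map_pow] at h1
      have hn : (D.n : ZMod p) ≠ 1 := fun h => by
        have := Nat.le_of_dvd one_pos ((D.n_pow_eq_one_iff (j := 1)).1 (by rw [pow_one]; exact h))
        omega
      have h2 : lam D.x ^ p = 1 := by rw [← map_pow, D.x_pow_p, map_one]
      by_contra hne
      apply hn
      have hord : orderOf (lam D.x) = p := orderOf_eq_prime h2 hne
      conv_lhs at h1 => rw [← pow_one (lam D.x)]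
      rw [pow_eq_pow_iff_modEq, hord, ← ZMod.natCast_eq_natCast_iff, Nat.cast_one] at h1
      exact h1.symm
    have hPle : (D.P : Subgroup G) ≤ lam.ker := by
      rw [D.hxP, zpowers_le]; exact hx
    have hN : normalizer ((D.P : Subgroup G) : Set G) ≤ lam.ker := by
      rw [D.hN, sup_le_iff, zpowers_le, zpowers_le]; exact ⟨hx, hh⟩
    intro g
    have htop := Sylow.normalizer_sup_eq_top' D.P hPle
    have h3 : (⊤ : Subgroup G) ≤ lam.ker := htop.ge.trans (sup_le hN le_rfl)
    exact MonoidHom.mem_ker.1 (h3 (Subgroup.mem_top g))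
  haveI : Subsingleton (G →* ℂˣ) :=
    ⟨fun a b => MonoidHom.ext fun g => by rw [hlam a, hlam b]⟩
  have hc := card_linear_hom (G := G)
  rw [Nat.card_of_subsingleton (1 : G →* ℂˣ)] at hc
  exact Subgroup.index_eq_one.1 hc.symm

include D in
/-- With a single character of degree `p` the group is simple. -/
theorem isSimpleGroup (hα : Fintype.card α = p) (hχ : Cfsg.IsIrrCharacter G χ) (hχ1 : χ 1 = p)
    (huniq : ∀ ψ : G → ℂ, Cfsg.IsIrrCharacter G ψ → ψ 1 = p → ψ = χ) : IsSimpleGroup G := by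
  classical
  haveI : Nontrivial G := ⟨D.x, 1, D.x_ne_one⟩
  refine ⟨fun K hK => or_iff_not_imp_left.2 fun hne => ?_⟩
  have hx := D.x_mem_of_normal hα K hne
  have htop : normalizer ((D.P : Subgroup G) : Set G) ⊔ K = ⊤ :=
    Sylow.normalizer_sup_eq_top' D.P (by rw [D.hxP, zpowers_le]; exact hx)
  have hKh : zpowers D.h ⊔ K = ⊤ := by
    rw [← htop, D.hN]
    refine le_antisymm (sup_le_sup_right le_sup_right K) (sup_le (sup_le ?_ le_sup_left) le_sup_right)
    rw [zpowers_le]
    exact mem_sup_right hx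
  rw [eq_top_iff, ← D.perfect hα hχ hχ1 huniq, commutator_def, commutator_le]
  intro a _ b _
  rw [← QuotientGroup.eq_one_iff, ← QuotientGroup.mk'_apply, map_commutatorElement,
    commutatorElement_eq_one_iff_mul_comm]
  have hgen : ∀ g : G, QuotientGroup.mk' K g ∈ zpowers (QuotientGroup.mk' K D.h) := by
    intro g
    have h1 : QuotientGroup.mk' K g ∈ (zpowers D.h ⊔ K).map (QuotientGroup.mk' K) :=
      mem_map_of_mem _ (hKh ▸ Subgroup.mem_top g)
    rwa [Subgroup.map_sup, MonoidHom.map_zpowers, QuotientGroup.map_mk'_self, sup_bot_eq] at h1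
  obtain ⟨i, hi⟩ := mem_zpowers_iff.1 (hgen a)
  obtain ⟨j, hj⟩ := mem_zpowers_iff.1 (hgen b)
  rw [← hi, ← hj, ← zpow_add, ← zpow_add, add_comm]

theorem not_isMulCommutative (hχ : Cfsg.IsIrrCharacter G χ) (hχ1 : χ 1 = p) :
    ¬ IsMulCommutative G := by
  intro h
  have := irr_degree_one_of_comm (fun a b => mul_comm' a b) hχ
  rw [hχ1] at this
  exact hp.out.ne_one (by exact_mod_cast this)

theorem det_permRep [DecidableEq α] (g : G) :
    LinearMap.det (Cfsg.permRep ℂ G α g) =
      ((Equiv.Perm.sign (MulAction.toPermHom G α g⁻¹) : ℤ) : ℂ) := by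
  rw [← LinearMap.det_toMatrix',
    show LinearMap.toMatrix' (Cfsg.permRep ℂ G α g) =
      (MulAction.toPermHom G α g⁻¹).permMatrix ℂ by
      ext i j
      simp [LinearMap.toMatrix'_apply, Cfsg.permRep, Equiv.Perm.permMatrix, Pi.single_apply,
        PEquiv.toMatrix_apply, eq_comm],
    Matrix.det_permutation]

/-- A character of degree `p`, the only one, is `1` on the nontrivial powers of `h`. -/
theorem chi_h (hα : Fintype.card α = p) (hχ : Cfsg.IsIrrCharacter G χ) (hχ1 : χ 1 = p)
    (huniq : ∀ ψ : G → ℂ, Cfsg.IsIrrCharacter G ψ → ψ 1 = p → ψ = χ) {j : ℕ}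
    (hj : ¬ orderOf D.h ∣ j) : χ (D.h ^ j) = 1 := by
  classical
  have hperf := D.perfect hα hχ hχ1 huniq
  obtain ⟨μ, hμ⟩ := D.exists_linear hχ hχ1
  let E := zpowers D.h
  -- the permutation character on `E`
  let π : Representation ℂ E (α → ℂ) := (Cfsg.permRep ℂ G α).comp E.subtype
  have hπ : ∀ w : E, w ≠ 1 → π.character w = 1 := by
    intro w hw
    show (Cfsg.permRep ℂ G α).character (w : G) = 1
    rw [Cfsg.Agent.Perm.PermModule.character_permRep]
    obtain ⟨i, -, hi⟩ := Finset.mem_image.1 (mem_zpowers_iff_mem_range_orderOf.1 w.2)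
    have hid : ¬ orderOf D.h ∣ i := fun h => hw (Subtype.ext (by
      rw [← hi, orderOf_dvd_iff_pow_eq_one.1 h]; rfl))
    have hfix : MulAction.fixedBy α (w : G) = {D.coord 0} := by
      ext a
      obtain ⟨k, rfl⟩ := D.coord.surjective a
      rw [MulAction.mem_fixedBy, Set.mem_singleton_iff, ← hi, D.hpow_coord,
        D.coord.injective.eq_iff, D.coord.injective.eq_iff]
      refine ⟨fun h => ?_, fun h => by rw [h, mul_zero]⟩
      by_contra hk
      exact hid (D.n_pow_eq_one_iff.1 (mul_right_cancel₀ hk (h.trans (one_mul k).symm)))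
    rw [Cfsg.Agent.Perm.PermModule.permChar, hfix]
    simp
  let θ : E → ℂ := fun w => χ (w : G)
  have hθ : Cfsg.IsCharacter E θ := isCharacter_restrict E (isCharacter_of_isIrr hχ)
  have heq : θ + (fun _ => 1) = π.character + ⇑μ := by
    funext w
    simp only [Pi.add_apply]
    by_cases hw : w = 1
    · subst hw
      rw [map_one, Representation.char_one, Module.finrank_fintype_fun_eq_card, hα]
      exact congrArg (· + 1) hχ1
    · rw [hπ w hw]
      show χ (w : G) + 1 = _
      rw [hμ w hw, add_comm]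
  set w₀ : E := ⟨D.h, mem_zpowers D.h⟩ with hw₀
  have hd := congrArg (fun f => Cfsg.detChar f w₀) heq
  simp only [Components.CommonDivisor.detChar_add hθ isCharacter_one,
    Components.CommonDivisor.detChar_add (isCharacter_character π)
      (isCharacter_of_isIrr (isIrrCharacter_monoidHom μ))] at hd
  have hone : Cfsg.detChar (fun _ : E => (1 : ℂ)) w₀ = 1 := by
    rw [show (fun _ : E => (1 : ℂ)) = (linRep (1 : E →* ℂ)).character by
      rw [linRep_character]; rfl, Components.CommonDivisor.detChar_rep']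
    simp [linRep]
  have hμd : Cfsg.detChar (⇑μ) w₀ = μ w₀ := by
    have h := Components.CommonDivisor.detChar_rep' (linRep μ) w₀
    rw [linRep_character] at h
    rw [h, ← LinearMap.det_toMatrix (Module.Basis.singleton Unit ℂ), Matrix.det_unique]
    simp [linRep, LinearMap.toMatrix_apply]
  have hπd : Cfsg.detChar π.character w₀ = 1 := by
    rw [Components.CommonDivisor.detChar_rep']
    show LinearMap.det (Cfsg.permRep ℂ G α D.h) = 1
    have hs : Equiv.Perm.sign (MulAction.toPermHom G α D.h⁻¹) = 1 := DFunLike.congr_fun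
      (Classical.OrthIso.hom_eq_one_of_perfect hperf mul_comm
        (Equiv.Perm.sign.comp (MulAction.toPermHom G α))) D.h⁻¹
    rw [det_permRep, hs]
    simp
  have hθd : Cfsg.detChar θ w₀ = 1 := by
    rw [← CharTheory.ExtendChar.detChar_restrict E (isCharacter_of_isIrr hχ) (fun _ => rfl) w₀]
    obtain ⟨f, hf⟩ := CharTheory.ExtendChar.exists_hom
      (CharTheory.ExtendChar.detChar_isLinear (isCharacter_of_isIrr hχ)).1
      (CharTheory.ExtendChar.detChar_isLinear (isCharacter_of_isIrr hχ)).2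
    rw [← hf, Classical.OrthIso.hom_eq_one_of_perfect hperf mul_comm f]
    simp
  rw [hone, hμd, hπd, hθd, one_mul, one_mul] at hd
  have hwj : (⟨D.h ^ j, pow_mem (mem_zpowers D.h) j⟩ : E) = w₀ ^ j := Subtype.ext (by simp [hw₀])
  rw [show D.h ^ j = ((⟨D.h ^ j, pow_mem (mem_zpowers D.h) j⟩ : E) : G) from rfl, hμ, hwj,
    map_pow, ← hd, one_pow]
  intro e
  exact hj (orderOf_dvd_iff_pow_eq_one.2 (congrArg Subtype.val e))

end Data

end Cfsg.Agent.Perm.UniqueP
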