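import Mathlib
import Cfsg.Agent.Lib.Characters.SplittingField
import Cfsg.Agent.Lib.Characters.Counting
import Cfsg.Agent.Lib.Characters.Induction
import Cfsg.Agent.Lib.Perm.UniqueP.Char

/-!
An irreducible character occurring once in a realizable character is realizable; application to
the character of degree `p + 1`.
-/

set_option autoImplicit false
set_option linter.unusedSectionVars false
set_option linter.style.haveILetI false

namespace Cfsg.Agent.Perm.UniqueP

open Subgroup Cfsg.Agent.Characters Cfsg.Agent.CharTheory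
open scoped ComplexConjugate

universe u v

variable {G : Type u} [Group G]

/-- Twisted convolution of distinct irreducible characters vanishes. -/
theorem sum_shift_eq_zero [Fintype G] {χ ψ : G → ℂ} (hχ : Cfsg.IsIrrCharacter G χ)
    (hψ : Cfsg.IsIrrCharacter G ψ) (hne : χ ≠ ψ) (g : G) :
    ∑ y : G, χ (g * y) * conj (ψ y) = 0 := by
  have hψc := isCharacter_of_isIrr hψ
  have h3 := classInner_isIrr_ne hχ hψ hne
  obtain ⟨m, σ, hσ, rfl⟩ := hχ
  have hf : Cfsg.IsClassFunction G (fun y => conj (ψ y)) := fun a b => by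
    simp [char_isClassFunction hψc a b]
  obtain ⟨s, hs⟩ := schur_scalar σ (∑ y : G, conj (ψ y) • σ y) (sum_smul_comm σ hf)
  have h1 := congrArg (LinearMap.trace ℂ _) hs
  rw [trace_sum_smul, map_smul, LinearMap.trace_id, smul_eq_mul] at h1
  rw [classInner_def, mul_eq_zero, inv_eq_zero] at h3
  have h2 : ∑ y : G, conj (ψ y) * σ.character y = 0 := by
    rw [← h3.resolve_left natCard_ne_zero]
    exact Finset.sum_congr rfl fun y _ => mul_comm _ _
  rw [h2] at h1
  have hs0 : s = 0 := (mul_eq_zero.1 h1.symm).resolve_right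
    (Nat.cast_ne_zero.2 (finrank_pos_of_isIrreducible σ).ne')
  have key := congrArg (fun L => LinearMap.trace ℂ (Fin m → ℂ) (σ g * L)) hs
  simp only [hs0, zero_smul, mul_zero, map_zero, Finset.mul_sum, map_sum, mul_smul_comm, map_smul,
    smul_eq_mul] at key
  rw [← key]
  refine Finset.sum_congr rfl fun y _ => ?_
  rw [← map_mul, mul_comm]
  rfl

set_option maxHeartbeats 1000000 in
/-- An irreducible character of multiplicity one in a realizable character is realizable. -/
theorem real_of_mult_one [Fintype G] {K : IntermediateField ℚ ℂ} {ψ : G → ℂ}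
    (hψ : Cfsg.IsIrrCharacter G ψ) (hψK : ∀ g, ψ g ∈ K) {a : G → ℂ}
    (ha : SplittingField.Real K a) (h1 : Cfsg.classInner a ψ = 1) :
    SplittingField.Real K ψ := by
  classical
  haveI := Fintype.ofFinite (Cfsg.IrrCharacter G)
  have hψc := isCharacter_of_isIrr hψ
  obtain ⟨d, hd, hψ1⟩ := irr_one_pos hψ
  obtain ⟨n, τ, hτ⟩ := ha
  have hac : Cfsg.IsCharacter G a := SplittingField.real_isCharacter ⟨n, τ, hτ⟩
  have hG : (Nat.card G : ℂ) ≠ 0 := natCard_ne_zero
  have hGK : (Nat.card G : K) ≠ 0 := Nat.cast_ne_zero.2 Nat.card_pos.ne'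
  have hdC : (d : ℂ) ≠ 0 := Nat.cast_ne_zero.2 hd.ne'
  let f : G → K := fun g => (d : K) / (Nat.card G : K) * ⟨ψ g⁻¹, hψK g⁻¹⟩
  have hfc : ∀ g, ((f g : K) : ℂ) = (d : ℂ) / (Nat.card G : ℂ) * ψ g⁻¹ := fun g => by
    simp [f]
  let P : Module.End K (Fin n → K) := ∑ g, f g • τ g
  have hPP : P * P = P := by
    calc P * P = ∑ g, ∑ g', (f g * f g') • τ (g * g') := by
          show (∑ g, f g • τ g) * (∑ g, f g • τ g) = _
          rw [Finset.sum_mul]
          refine Finset.sum_congr rfl fun g _ => ?_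
          rw [Finset.mul_sum]
          exact Finset.sum_congr rfl fun g' _ => by rw [smul_mul_smul_comm, ← map_mul]
      _ = ∑ g, ∑ c, (f g * f (g⁻¹ * c)) • τ c := by
          refine Finset.sum_congr rfl fun g _ => ?_
          exact Fintype.sum_equiv (Equiv.mulLeft g) _ _ fun g' => by simp
      _ = ∑ c, (∑ g, f g * f (g⁻¹ * c)) • τ c := by
          rw [Finset.sum_comm]
          exact Finset.sum_congr rfl fun c _ => (Finset.sum_smul ..).symm
      _ = P := by
          refine Finset.sum_congr rfl fun c _ => congrArg (· • τ c) (Subtype.ext ?_)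
          push_cast
          simp only [hfc, mul_inv_rev, inv_inv]
          have hconv := sum_mul_conj_shift hψ c⁻¹
          rw [hψ1] at hconv
          have e : ∑ g, (d : ℂ) / (Nat.card G : ℂ) * ψ g⁻¹ * ((d : ℂ) / (Nat.card G : ℂ) *
              ψ (c⁻¹ * g)) = ((d : ℂ) / (Nat.card G : ℂ)) ^ 2 *
              ∑ g, ψ (c⁻¹ * g) * conj (ψ g) := by
            rw [Finset.mul_sum]
            refine Finset.sum_congr rfl fun g _ => ?_
            rw [← char_inv hψc]
            ring
          rw [e, hconv]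
          field_simp
  have hcomm : ∀ (g : G) (w : Fin n → K), τ g (P w) = P (τ g w) := by
    intro g w
    simp only [P, LinearMap.sum_apply, LinearMap.smul_apply, map_sum, map_smul]
    refine Fintype.sum_equiv (MulAut.conj g).toEquiv _ _ fun y => ?_
    have hfg : f (g * y * g⁻¹) = f y := Subtype.ext (by
      rw [hfc, hfc, ← char_isClassFunction hψc y⁻¹ g]; group)
    simp only [MulEquiv.toEquiv_eq_coe, MulEquiv.coe_toEquiv, MulAut.conj_apply, hfg]
    rw [← Module.End.mul_apply, ← Module.End.mul_apply, ← map_mul, ← map_mul]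
    simp [mul_assoc]
  let V := LinearMap.range P
  have hinv : ∀ (g : G), ∀ w ∈ V, τ g w ∈ V := by
    rintro g _ ⟨w, rfl⟩
    exact ⟨τ g w, (hcomm g w).symm⟩
  let σ : Representation K G V :=
    { toFun := fun g => (τ g).restrict (hinv g)
      map_one' := LinearMap.ext fun w => Subtype.ext (by simp)
      map_mul' := fun g g' => LinearMap.ext fun w => Subtype.ext (by simp) }
  obtain ⟨k, σ', hσ'⟩ := SplittingField.real_of_rep σ
  refine ⟨k, σ', fun g => ?_⟩
  rw [hσ' g]
  have htr : σ.character g = LinearMap.trace K _ (τ g ∘ₗ P) := by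
    let P' : (Fin n → K) →ₗ[K] V := P.rangeRestrict
    have h2 : τ g ∘ₗ P = (V.subtype ∘ₗ σ g) ∘ₗ P' := rfl
    have h3 : P' ∘ₗ (V.subtype ∘ₗ σ g) = σ g := by
      refine LinearMap.ext fun w => Subtype.ext ?_
      obtain ⟨u, hu⟩ := (σ g w).2
      show P ((σ g w : V) : Fin n → K) = ((σ g w : V) : Fin n → K)
      rw [← hu]
      exact LinearMap.congr_fun hPP u
    rw [h2, LinearMap.trace_comp_comm', h3, Representation.character]
  show ((σ.character g : K) : ℂ) = ψ g
  rw [htr, show τ g ∘ₗ P = ∑ y, f y • τ (g * y) by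
    rw [← Module.End.mul_eq_comp]
    show τ g * (∑ y, f y • τ y) = _
    rw [Finset.mul_sum]
    exact Finset.sum_congr rfl fun y _ => by rw [mul_smul_comm, ← map_mul]]
  simp only [map_sum, map_smul, smul_eq_mul]
  push_cast
  rw [Finset.sum_congr rfl (g := fun y =>
      (d : ℂ) / (Nat.card G : ℂ) * (a (g * y) * conj (ψ y))) fun y _ => by
    rw [hfc, ← char_inv hψc, ← hτ]
    show _ * ((LinearMap.trace K _ (τ (g * y)) : K) : ℂ) = _
    rw [show LinearMap.trace K _ (τ (g * y)) = τ.character (g * y) from rfl]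
    ring,
    ← Finset.mul_sum]
  have hexp := classFun_eq_sum (char_isClassFunction hac)
  have hsum : ∑ y, a (g * y) * conj (ψ y) = (Nat.card G : ℂ) * ψ g / (d : ℂ) := by
    conv_lhs => rw [hexp]
    simp only [Finset.sum_apply, Pi.smul_apply, smul_eq_mul, Finset.sum_mul, mul_assoc]
    rw [Finset.sum_comm, Finset.sum_eq_single ⟨ψ, hψ⟩]
    · rw [← Finset.mul_sum]
      show Cfsg.classInner a ψ * ∑ y, ψ (g * y) * conj (ψ y) = _
      rw [h1, one_mul, sum_mul_conj_shift hψ g, hψ1]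
    · intro φ _ hφ
      rw [← Finset.mul_sum, sum_shift_eq_zero φ.2 hψ (fun e => hφ (Subtype.ext e)), mul_zero]
    · simp
  rw [hsum]
  field_simp

variable [Finite G] {α : Type v} [Fintype α] [MulAction G α] [FaithfulSMul G α]
  [MulAction.IsPretransitive G α] {p : ℕ} [hp : Fact p.Prime]

/-- The character of degree `p + 1` is realizable over the field of roots of unity of order prime
to `p`. -/
theorem Data.real_exceptional [Fintype G] (D : Data G α p) (he : 3 ≤ orderOf D.h) {ψ : G → ℂ}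
    (hψ : Cfsg.IsIrrCharacter G ψ) (hψ1 : ψ 1 = (p : ℂ) + 1)
    (hψx : ∀ i : ℕ, ¬ p ∣ i → ψ (D.x ^ i) = 1) {ζ : ℂ} (hζ : IsPrimitiveRoot ζ (orderOf D.h))
    (hψh : ∀ j : ℕ, ¬ orderOf D.h ∣ j → ψ (D.h ^ j) = ζ ^ j + (ζ ^ j)⁻¹) {m : ℕ}
    (hm : m = (D.P : Subgroup G).index) {η : ℂ} (hη : IsPrimitiveRoot η m) :
    SplittingField.Real (IntermediateField.adjoin ℚ ({η} : Set ℂ)) ψ := by
  classical
  set K := IntermediateField.adjoin ℚ ({η} : Set ℂ) with hK
  have hm0 : m ≠ 0 := hm ▸ Subgroup.index_ne_zero_of_finite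
  haveI : NeZero m := ⟨hm0⟩
  have hroot : ∀ z : ℂ, z ^ m = 1 → z ∈ K := by
    intro z hz
    obtain ⟨i, -, rfl⟩ := hη.eq_pow_of_pow_eq_one hz
    exact pow_mem (IntermediateField.mem_adjoin_simple_self ℚ η) i
  have hcardG : p * m = Nat.card G := by
    have h := (D.P : Subgroup G).card_mul_index
    rwa [D.card_P, ← hm] at h
  have hem : orderOf D.h ∣ m := by
    have h1 : orderOf D.h ∣ p * m := hcardG ▸ orderOf_dvd_natCard D.h
    refine (Nat.Coprime.dvd_of_dvd_mul_left ?_ h1)
    refine Nat.Coprime.coprime_dvd_left D.e_dvd (Nat.coprime_comm.1 ?_)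
    refine hp.out.coprime_iff_not_dvd.2 fun h => ?_
    have := Nat.le_of_dvd (Nat.sub_pos_of_lt hp.out.one_lt) h
    have := hp.out.pos
    omega
  have hζm : ζ ^ m = 1 := (hζ.pow_eq_one_iff_dvd m).2 hem
  have hψK : ∀ g, ψ g ∈ K := by
    intro g
    by_cases hg : p ∣ orderOf g
    · obtain ⟨c, i, hi⟩ := D.exists_conj_pow hg
      have hne : ¬ p ∣ i := fun h => by
        rw [orderOf_dvd_iff_pow_eq_one.1 (show orderOf D.x ∣ i by rw [D.ordx]; exact h),
          conj_eq_one_iff] at hi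
        rw [hi, orderOf_one] at hg
        exact hp.out.ne_one (Nat.dvd_one.1 hg)
      rw [← char_isClassFunction (isCharacter_of_isIrr hψ) g c, hi, hψx i hne]
      exact one_mem K
    · have hgm : g ^ m = 1 := by
        refine orderOf_dvd_iff_pow_eq_one.1 (Nat.Coprime.dvd_of_dvd_mul_left ?_
          (hcardG ▸ orderOf_dvd_natCard g))
        exact Nat.coprime_comm.1 (hp.out.coprime_iff_not_dvd.2 hg)
      obtain ⟨n, ρ, hρ, rfl⟩ := hψ
      obtain ⟨w, hw, hwk⟩ := exists_rootsOfUnity_sum ρ g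
      have h1 := hwk 1
      simp only [pow_one] at h1
      rw [h1]
      refine sum_mem fun i _ => hroot _ ?_
      obtain ⟨d, hd⟩ := orderOf_dvd_of_pow_eq_one hgm
      rw [hd, pow_mul, hw, one_pow]
  set N := normalizer ((D.P : Subgroup G) : Set G) with hN
  have hNform : ∀ g : N, ∃ j i : ℕ, (g : G) = D.x ^ i * D.h ^ j := fun g => by
    obtain ⟨i, j, h⟩ := D.mem_normalizer_iff'.1 g.2
    exact ⟨j, i, h⟩
  choose jf hjf using hNform
  let ζu : ℂˣ := (hζ.isUnit (by omega)).unit
  have hordn : orderOf (D.n : ZMod p) = orderOf D.h :=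
    Nat.dvd_antisymm (orderOf_dvd_iff_pow_eq_one.2 (D.n_pow_eq_one_iff.2 dvd_rfl))
      (D.n_pow_eq_one_iff.1 (pow_orderOf_eq_one _))
  have hwd : ∀ (g : N) (i j : ℕ), (g : G) = D.x ^ i * D.h ^ j → ζu ^ jf g = ζu ^ j := by
    intro g i j hg
    obtain ⟨i', hi'⟩ := hjf g
    have h1 := D.conj_x i j
    rw [← hg, hi', D.conj_x i' (jf g), D.x_pow_eq_iff, Nat.cast_pow, Nat.cast_pow,
      (orderOf_pos_iff.1 (hordn.symm ▸ orderOf_pos D.h)).pow_eq_pow_iff_modEq, hordn] at h1
    rw [pow_eq_pow_iff_modEq]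
    refine h1.of_dvd (orderOf_dvd_iff_pow_eq_one.2 (Units.ext ?_))
    exact hζ.pow_eq_one
  let lam : N →* ℂˣ :=
    { toFun := fun g => ζu ^ jf g
      map_one' := by rw [hwd 1 0 0 (by simp), pow_zero]
      map_mul' := fun g g' => by
        obtain ⟨i, hi⟩ := hjf g
        obtain ⟨i', hi'⟩ := hjf g'
        rw [hwd (g * g') (i + D.n ^ jf g * i') (jf g + jf g') ?_, pow_add]
        rw [Subgroup.coe_mul, hi, hi', pow_add, pow_add, ← D.hpow_conj_pow (jf g) i']
        group }
  have hlam : ∀ (i j : ℕ) (hg : D.x ^ i * D.h ^ j ∈ N), (lam ⟨_, hg⟩ : ℂ) = ζ ^ j := by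
    intro i j hg
    show ((ζu ^ jf ⟨_, hg⟩ : ℂˣ) : ℂ) = _
    rw [hwd ⟨_, hg⟩ i j rfl, Units.val_pow_eq_pow_val]
    rfl
  refine real_of_mult_one hψ hψK (SplittingField.real_indFun_linear N lam fun g => ?_) ?_
  · refine hroot _ ?_
    show ((ζu ^ jf g : ℂˣ) : ℂ) ^ m = 1
    rw [Units.val_pow_eq_pow_val, ← pow_mul, mul_comm, pow_mul]
    show (ζ ^ m) ^ jf g = 1
    rw [hζm, one_pow]
  haveI := Fintype.ofFinite N
  rw [frobenius_reciprocity N _ (char_isClassFunction (isCharacter_of_isIrr hψ)), classInner_def]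
  let F : G → ℂ := fun g => if hg : g ∈ N then (lam ⟨g, hg⟩ : ℂ) * conj (ψ g) else 0
  have hFx : ∀ g, F (D.x * g * D.x⁻¹) = F g := by
    intro g
    have hiff : D.x * g * D.x⁻¹ ∈ N ↔ g ∈ N := by
      rw [N.mul_mem_cancel_right (inv_mem D.x_mem), N.mul_mem_cancel_left D.x_mem]
    by_cases hg : g ∈ N
    · simp only [F, dif_pos hg, dif_pos (hiff.2 hg)]
      rw [char_isClassFunction (isCharacter_of_isIrr hψ) g D.x,
        show (⟨D.x * g * D.x⁻¹, hiff.2 hg⟩ : N) = ⟨D.x, D.x_mem⟩ * ⟨g, hg⟩ * ⟨D.x, D.x_mem⟩⁻¹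
          from rfl, map_mul, map_mul, map_inv, mul_comm (lam _) (lam ⟨g, hg⟩),
        mul_inv_cancel_right]
    · simp only [F, dif_neg hg, dif_neg (fun h => hg (hiff.1 h))]
  have hFh : ∀ i j : ℕ, F (D.x ^ i * D.h ^ j) = ζ ^ j * conj (ψ (D.x ^ i * D.h ^ j)) := fun i j => by
    have hg : D.x ^ i * D.h ^ j ∈ N := D.mem_normalizer_iff'.2 ⟨i, j, rfl⟩
    simp only [F, dif_pos hg, hlam i j hg]
  have hsum := D.sum_normalizer F hFx
  rw [show (∑ g : N, (lam g : ℂ) * conj (ψ (g : G))) = ∑ g : N, F g from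
    Finset.sum_congr rfl fun g _ => by simp only [F, dif_pos g.2], hsum]
  have hcN : (Nat.card N : ℂ) = (p : ℂ) * orderOf D.h := by
    have h1 := D.sum_normalizer (fun _ => (1 : ℕ)) (fun _ => rfl)
    simp only [Finset.sum_const, Finset.card_univ, Finset.card_range, smul_eq_mul, mul_one,
      Nat.card_Ico, Fintype.card_eq_nat_card] at h1
    rw [h1, Nat.cast_add, Nat.cast_mul, Nat.cast_sub (by omega)]
    ring
  have hP : ∑ i ∈ Finset.range p, F (D.x ^ i) = 2 * (p : ℂ) := by
    have hval : ∀ i ∈ Finset.range p, F (D.x ^ i) = 1 + if i = 0 then (p : ℂ) else 0 := by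
      intro i hi
      have h := hFh i 0
      rw [pow_zero, mul_one, pow_zero, one_mul] at h
      rw [h]
      split_ifs with h0
      · subst h0
        rw [pow_zero, hψ1, map_add, map_one, map_natCast]
        ring
      · rw [hψx i fun hd => h0 (Nat.eq_zero_of_dvd_of_lt hd (Finset.mem_range.1 hi)), map_one,
          add_zero]
    rw [Finset.sum_congr rfl hval, Finset.sum_add_distrib, Finset.sum_ite_eq',
      if_pos (Finset.mem_range.2 hp.out.pos), Finset.sum_const, Finset.card_range, nsmul_eq_mul]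
    ring
  have hE : ∑ j ∈ Finset.Ico 1 (orderOf D.h), F (D.h ^ j) = (orderOf D.h : ℂ) - 2 := by
    have hval : ∀ j ∈ Finset.Ico 1 (orderOf D.h), F (D.h ^ j) = 1 + (ζ ^ 2) ^ j := by
      intro j hj
      rw [Finset.mem_Ico] at hj
      have h := hFh 0 j
      rw [pow_zero, one_mul] at h
      rw [h, hψh j fun hd => by have := Nat.le_of_dvd (by omega) hd; omega, map_add, map_inv₀,
        map_pow, ← Complex.inv_eq_conj (Complex.norm_eq_one_of_pow_eq_one hζ.pow_eq_one
          (by omega)), inv_pow, inv_inv, mul_add, mul_inv_cancel₀ (pow_ne_zero _ (hζ.ne_zero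
          (by omega))), ← pow_mul, two_mul, pow_add]
    have hgeom : ∑ j ∈ Finset.range (orderOf D.h), (ζ ^ 2) ^ j = 0 := by
      have h2 : ζ ^ 2 ≠ 1 := hζ.pow_ne_one_of_pos_of_lt two_ne_zero (by omega)
      rw [geom_sum_eq h2, ← pow_mul, mul_comm, pow_mul, hζ.pow_eq_one, one_pow, sub_self, zero_div]
    rw [Finset.range_eq_Ico, Finset.sum_eq_sum_Ico_succ_bot (by omega), pow_zero] at hgeom
    rw [Finset.sum_congr rfl hval, Finset.sum_add_distrib, Finset.sum_const, Nat.card_Ico,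
      nsmul_eq_mul, Nat.cast_sub (by omega), eq_neg_of_add_eq_zero_right hgeom]
    push_cast
    ring
  rw [hP, hE, hcN, nsmul_eq_mul]
  have he0 : (orderOf D.h : ℂ) ≠ 0 := Nat.cast_ne_zero.2 (by omega)
  have hp0 : (p : ℂ) ≠ 0 := Nat.cast_ne_zero.2 hp.out.ne_zero
  field_simp
  ring

end Cfsg.Agent.Perm.UniqueP
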