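import Mathlib
import Cfsg.Prelude.Def_Classical
import Cfsg.Agent.Lib.Perm.UniqueP.Algebra
import Cfsg.Agent.Lib.Classical.OrthIso

/-!
A three-dimensional representation in characteristic `p` of a simple group in which the normalizer
of a subgroup of order `p` is a Frobenius group: it preserves a nondegenerate quadratic form.
-/

set_option autoImplicit false
set_option linter.unusedSectionVars false
set_option linter.style.haveILetI false

namespace Cfsg.Agent.Perm.UniqueP

open Module Cfsg.Agent.Classical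

section two

variable {G : Type*} [Group G] [Finite G] [IsSimpleGroup G]
variable {k : Type*} [Field k] {V : Type*} [AddCommGroup V] [Module k V]

/-- A perfect simple group of even order has no faithful representation of dimension two in
characteristic other than two. -/
theorem eq_one_of_finrank_two (hperf : commutator G = ⊤) (hna : ∃ a b : G, a * b ≠ b * a)
    (t : G) (ht : orderOf t = 2) (h2 : (2 : k) ≠ 0) (ρ : Representation k G V)
    (hV : finrank k V = 2) (g : G) : ρ g = 1 := by
  classical
  haveI : FiniteDimensional k V := FiniteDimensional.of_finrank_pos (by omega)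
  rcases (inferInstance : (MonoidHom.ker ρ).Normal).eq_bot_or_eq_top with hker | hker
  swap
  · exact MonoidHom.mem_ker.1 (hker ▸ Subgroup.mem_top g)
  exfalso
  have hinj : ∀ a b : G, ρ a = ρ b → a = b := by
    intro a b hab
    have h : a⁻¹ * b ∈ MonoidHom.ker ρ := by
      rw [MonoidHom.mem_ker, map_mul, ← hab, ← map_mul, inv_mul_cancel, map_one]
    rw [hker, Subgroup.mem_bot] at h
    exact (inv_mul_eq_one.1 h)
  let b := Module.finBasisOfFinrankEq k V hV
  let f : G →* Matrix (Fin 2) (Fin 2) k :=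
    ((LinearMap.toMatrixAlgEquiv b).toMulEquiv.toMonoidHom).comp ρ
  have hfinj : Function.Injective f := fun a c h => hinj a c ((LinearMap.toMatrixAlgEquiv b).injective h)
  have hdet : (f t).det = 1 := by
    let d : G →* kˣ := ((Matrix.detMonoidHom).comp f).toHomUnits
    have : d = 1 := OrthIso.hom_eq_one_of_perfect hperf (fun a c => mul_comm a c) d
    exact congrArg Units.val (DFunLike.congr_fun this t)
  have hsq : f t * f t = 1 := by
    rw [← map_mul, ← sq, show t ^ 2 = 1 from ht ▸ pow_orderOf_eq_one t, map_one]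
  have hadj : f t = (f t).adjugate := by
    have h1 := Matrix.mul_adjugate (f t)
    rw [hdet, one_smul] at h1
    calc f t = f t * (f t * (f t).adjugate) := by rw [h1, mul_one]
      _ = (f t).adjugate := by rw [← mul_assoc, hsq, one_mul]
  have e01 := congrFun (congrFun hadj 0) 1
  have e10 := congrFun (congrFun hadj 1) 0
  have e00 := congrFun (congrFun hadj 0) 0
  simp [Matrix.adjugate_fin_two] at e01 e10 e00
  have h01 : f t 0 1 = 0 := by
    have : (2 : k) * f t 0 1 = 0 := by linear_combination e01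
    exact (mul_eq_zero.1 this).resolve_left h2
  have h10 : f t 1 0 = 0 := by
    have : (2 : k) * f t 1 0 = 0 := by linear_combination e10
    exact (mul_eq_zero.1 this).resolve_left h2
  have hcomm : ∀ c : G, t * c = c * t := fun c => hfinj (by
    rw [map_mul, map_mul]
    ext i j
    fin_cases i <;> fin_cases j <;>
      simp [Matrix.mul_apply, Fin.sum_univ_two, h01, h10, ← e00, mul_comm])
  have hz : t ∈ Subgroup.center G := Subgroup.mem_center_iff.2 fun c => (hcomm c).symm
  rcases (inferInstance : (Subgroup.center G).Normal).eq_bot_or_eq_top with hc | hc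
  · rw [hc, Subgroup.mem_bot] at hz
    rw [hz, orderOf_one] at ht
    omega
  · obtain ⟨a, c, hac⟩ := hna
    exact hac ((Subgroup.mem_center_iff.1 (hc ▸ Subgroup.mem_top a) c).symm)

end two

section three

variable {G : Type*} [Group G] [Finite G] {p : ℕ} [Fact p.Prime]
variable {k : Type*} [Field k] [CharP k p] {V : Type*} [AddCommGroup V] [Module k V]
  [FiniteDimensional k V]

/-- `exp (c L)` for `L ^ 3 = 0`. -/
noncomputable def expQ (L : Module.End k V) (c : k) : Module.End k V :=
  1 + c • L + (c ^ 2 * 2⁻¹) • L ^ 2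

theorem exists_log (hp : 5 ≤ p) (hV : finrank k V = 3) (ρ : Representation k G V) (x : G)
    (hx : x ^ p = 1) :
    ∃ L : Module.End k V, L ^ 3 = 0 ∧ (∀ m : ℕ, ρ (x ^ m) = expQ L (m : k)) ∧
      L = (ρ x - 1) - (2⁻¹ : k) • (ρ x - 1) ^ 2 := by
  haveI : Nontrivial V := Module.nontrivial_of_finrank_pos (R := k) (by omega)
  haveI : CharP (Module.End k V) p :=
    charP_of_injective_algebraMap (FaithfulSMul.algebraMap_injective k (Module.End k V)) p
  have h2 : (2 : k) ≠ 0 := by
    intro h
    have h' : ((2 : ℕ) : k) = 0 := by exact_mod_cast h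
    have := Nat.le_of_dvd two_pos ((CharP.cast_eq_zero_iff k p 2).1 h')
    omega
  set X : Module.End k V := ρ x - 1 with hXdef
  have hXp : X ^ p = 0 := by
    rw [hXdef, sub_pow_char_of_commute p (Commute.one_right _), ← map_pow, hx, map_one, one_pow,
      sub_self]
  have hX3 : X ^ 3 = 0 := by
    rw [← LinearMap.ker_eq_top, ← hV,
      ← Module.End.ker_pow_eq_ker_pow_finrank_of_le (show finrank k V ≤ p by omega), hXp,
      LinearMap.ker_zero]
  have hX4 : X ^ 4 = 0 := by rw [pow_succ, hX3, zero_mul]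
  set L : Module.End k V := X - (2⁻¹ : k) • X ^ 2 with hL
  have hL2 : L ^ 2 = X ^ 2 := by
    rw [hL]
    simp only [pow_succ, pow_zero, one_mul, mul_sub, sub_mul, smul_mul_assoc, mul_smul_comm] at hX3 hX4 ⊢
    simp [← mul_assoc, hX3, hX4]
  have hL3 : L ^ 3 = 0 := by
    rw [pow_succ, hL2, hL]
    simp only [pow_succ, pow_zero, one_mul, mul_sub, mul_smul_comm] at hX3 hX4 ⊢
    simp [← mul_assoc, hX3, hX4]
  refine ⟨L, hL3, fun m => ?_, rfl⟩
  have hmul : ∀ c d : k, expQ L c * expQ L d = expQ L (c + d) := by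
    intro c d
    have hLL2 : L * L ^ 2 = 0 := by rw [← pow_succ', hL3]
    have hL2L : L ^ 2 * L = 0 := by rw [← pow_succ, hL3]
    have hL22 : L ^ 2 * L ^ 2 = 0 := by rw [pow_two L, mul_assoc, ← pow_two, hLL2, mul_zero]
    simp only [expQ, mul_add, add_mul, one_mul, mul_one, smul_mul_assoc, mul_smul_comm, smul_smul,
      ← pow_two L, hLL2, hL2L, hL22, smul_zero, add_zero]
    match_scalars <;> field_simp <;> ring
  have h1 : ρ x = expQ L 1 := by
    rw [expQ, hL2, hL, one_pow, one_mul, one_smul, add_assoc, sub_add_cancel, hXdef,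
      add_sub_cancel]
  induction m with
  | zero => simp [expQ]
  | succ m ih => rw [pow_succ, map_mul, ih, h1, hmul, Nat.cast_succ]

variable (hp : 7 ≤ p)

include hp in
theorem sum_quadratic_zero (A B C : k) :
    ∑ i ∈ Finset.range p, (A + (i : k) * B + (i : k) ^ 2 * C) = 0 := by
  have h := fun j (hj : j < p - 1) => sum_range_pow_eq_zero (p := p) k hj
  simp only [Finset.sum_add_distrib, ← Finset.sum_mul]
  have h0 := h 0 (by omega)
  simp only [pow_zero] at h0
  have h1 := h 1 (by omega)
  simp only [pow_one] at h1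
  rw [h1, h 2 (by omega), show (∑ _i ∈ Finset.range p, A) = (∑ _i ∈ Finset.range p, (1 : k)) * A by
    simp, h0]
  ring

include hp in
theorem sum_quartic_zero (A₀ A₁ A₂ A₃ A₄ : k) :
    ∑ i ∈ Finset.range p, (A₀ + (i : k) * A₁ + (i : k) ^ 2 * A₂ + (i : k) ^ 3 * A₃ +
      (i : k) ^ 4 * A₄) = 0 := by
  have h := fun j (hj : j < p - 1) => sum_range_pow_eq_zero (p := p) k hj
  simp only [Finset.sum_add_distrib, ← Finset.sum_mul]
  have h0 := h 0 (by omega)
  simp only [pow_zero] at h0
  have h1 := h 1 (by omega)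
  simp only [pow_one] at h1
  rw [h1, h 2 (by omega), h 3 (by omega), h 4 (by omega),
    show (∑ _i ∈ Finset.range p, A₀) = (∑ _i ∈ Finset.range p, (1 : k)) * A₀ by simp, h0]
  ring

variable [IsSimpleGroup G]

include hp in
/-- The representation preserves the form `c₁² + c₀ c₂`. -/
theorem exists_isometry_hom (hperf : commutator G = ⊤) (hna : ∃ a b : G, a * b ≠ b * a) (t : G)
    (ht : orderOf t = 2) (hV : finrank k V = 3) (ρ : Representation k G V) (N : Subgroup G)
    (x h : G) (hx : FreeCosets p N x) (hN : N ≤ Subgroup.closure {x, h}) (n : ℕ)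
    (hrel : h * x * h⁻¹ = x ^ n) {a : k} (ha : (n : k) = a) (ha0 : a ≠ 0) (ha1 : a ≠ 1)
    (ha2 : a * a ≠ 1) (u₁ ua ub : V) (hu₁ : ρ h u₁ = u₁) (hua : ρ h ua = a • ua)
    (hub : ρ h ub = a⁻¹ • ub) (hu₁0 : u₁ ≠ 0) (hua0 : ua ≠ 0) (hub0 : ub ≠ 0) :
    ∃ φ : G →* Cfsg.isometryGroup k (Cfsg.quadFormOdd 1 k), Function.Injective φ := by
  classical
  have h2 : (2 : k) ≠ 0 := by
    intro h0
    have h' : ((2 : ℕ) : k) = 0 := by exact_mod_cast h0
    have := Nat.le_of_dvd two_pos ((CharP.cast_eq_zero_iff k p 2).1 h')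
    omega
  obtain ⟨L, hL3, hpow, hLdef⟩ := exists_log (by omega) hV ρ x hx.pow
  have hx1 : ρ x = expQ L 1 := by simpa using hpow 1
  have hinv : ∀ i : ℕ, ρ (x ^ i)⁻¹ = expQ L (-(i : k)) := by
    intro i
    have hp1 : 1 ≤ p := by omega
    have e : (x ^ i)⁻¹ = x ^ ((p - 1) * i) := by
      refine inv_eq_of_mul_eq_one_right ?_
      rw [← pow_add, show i + (p - 1) * i = p * i by
        rw [add_comm, ← Nat.succ_mul, Nat.succ_eq_add_one, Nat.sub_add_cancel hp1], pow_mul, hx.pow, one_pow]
    rw [e, hpow, Nat.cast_mul, Nat.cast_sub hp1, CharP.cast_eq_zero, Nat.cast_one, zero_sub,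
      neg_one_mul]
  -- `h` scales `L`
  have hLh : ∀ v, ρ h (L v) = a • L (ρ h v) := by
    have e : ρ h * ρ x = expQ L a * ρ h := by
      rw [← map_mul, show h * x = (x ^ n) * h by rw [← hrel]; group, map_mul, hpow, ha]
    have hL4 : L ^ 4 = 0 := by rw [pow_succ, hL3, zero_mul]
    have e1 : ρ h * (ρ x - 1) = (a • L + (a ^ 2 * 2⁻¹) • L ^ 2) * ρ h := by
      rw [mul_sub, e, mul_one, expQ, add_mul, add_mul, add_mul, one_mul]
      abel
    have e2 : ρ h * (ρ x - 1) ^ 2 = (a ^ 2 • L ^ 2) * ρ h := by
      rw [pow_two (ρ x - 1), ← mul_assoc, e1, mul_assoc, e1, ← mul_assoc]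
      congr 1
      have hLL2 : L * L ^ 2 = 0 := by rw [← pow_succ', hL3]
      have hL2L : L ^ 2 * L = 0 := by rw [← pow_succ, hL3]
      have hL22 : L ^ 2 * L ^ 2 = 0 := by rw [← pow_add]; exact hL4
      simp only [pow_two (a • L + _), mul_add, add_mul, smul_mul_assoc, mul_smul_comm, smul_smul,
        ← pow_two L, hLL2, hL2L, hL22, smul_zero, add_zero, ← pow_two a]
    have e3 : ρ h * L = a • (L * ρ h) := by
      conv_lhs => rw [hLdef, mul_sub, mul_smul_comm, e1, e2]
      rw [add_mul, smul_mul_assoc, smul_mul_assoc, smul_mul_assoc, smul_smul, mul_comm (2⁻¹ : k),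
        add_sub_cancel_right]
    exact fun v => LinearMap.congr_fun e3 v
  have hLeig : ∀ (v : V) (c : k), ρ h v = c • v → ρ h (L v) = (a * c) • L v := fun v c hv => by
    rw [hLh, hv, map_smul, smul_smul]
  have hai : a ≠ a⁻¹ := fun e => ha2 (by nth_rewrite 2 [e]; exact mul_inv_cancel₀ ha0)
  have hi1 : a⁻¹ ≠ 1 := fun e => ha1 (inv_eq_one.1 e)
  let lam : Fin 3 → k := ![a, 1, a⁻¹]
  have hlam : Function.Injective lam := by
    intro i j hij
    fin_cases i <;> fin_cases j <;> simp [lam] at hij ⊢ <;>
      first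
        | exact ha1 hij | exact ha1 hij.symm | exact hai hij | exact hai hij.symm
        | exact hi1 hij | exact hi1 hij.symm
  -- eigenvectors give a basis
  have mkBasis : ∀ w : Fin 3 → V, (∀ i, w i ≠ 0) → (∀ i, ρ h (w i) = lam i • w i) →
      ∃ b : Basis (Fin 3) k V, ∀ i, b i = w i := by
    intro w hw0 hw
    have hind := Module.End.eigenvectors_linearIndependent' (ρ h) lam hlam w fun i =>
      ⟨Module.End.mem_eigenspace_iff.2 (hw i), hw0 i⟩
    exact ⟨basisOfLinearIndependentOfCardEqFinrank hind (by simp [hV]),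
      fun i => by rw [coe_basisOfLinearIndependentOfCardEqFinrank]⟩
  obtain ⟨b, hb⟩ := mkBasis ![ua, u₁, ub]
    (fun i => by fin_cases i <;> simp [hua0, hu₁0, hub0])
    (fun i => by fin_cases i <;> simp [lam, hua, hub, hu₁])
  have hb0 : b 0 = ua := by rw [hb]; rfl
  have hb1 : b 1 = u₁ := by rw [hb]; rfl
  have hb2 : b 2 = ub := by rw [hb]; rfl
  have hbe : ∀ i, ρ h (b i) = lam i • b i := fun i => by
    rw [hb]; fin_cases i <;> simp [lam, hua, hub, hu₁]
  have hrepr : ∀ v i, b.repr (ρ h v) i = lam i * b.repr v i := by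
    intro v i
    conv_lhs => rw [← b.sum_repr v, map_sum]
    simp [map_smul, hbe, smul_smul, Finsupp.single_apply, mul_comm]
  have hcoord : ∀ (v : V) (c : k), ρ h v = c • v → ∀ i, lam i ≠ c → b.repr v i = 0 := by
    intro v c hv i hi
    have := hrepr v i
    rw [hv, map_smul, Finsupp.smul_apply, smul_eq_mul] at this
    have h' : (lam i - c) * b.repr v i = 0 := by rw [sub_mul, this, sub_self]
    exact (mul_eq_zero.1 h').resolve_left (sub_ne_zero.2 hi)
  -- no fixed vector, no fixed functional
  have hG_h : h ∈ Subgroup.closure ({x, h} : Set G) := Subgroup.subset_closure (by simp)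
  have hLu₁ : L u₁ ≠ 0 := by
    intro h0
    have hfixx : ρ x u₁ = u₁ := by simp [hx1, expQ, pow_two, h0]
    have hfix : ∀ m ∈ N, ρ m u₁ = u₁ := by
      suffices hc : ∀ m ∈ Subgroup.closure ({x, h} : Set G), ρ m u₁ = u₁ from
        fun m hm => hc m (hN hm)
      intro m hm
      induction hm using Subgroup.closure_induction with
      | mem y hy => rcases hy with rfl | rfl <;> assumption
      | one => simp
      | mul y z _ _ hy hz => rw [map_mul, Module.End.mul_apply, hz, hy]
      | inv y _ hy => conv_lhs => rw [← hy, ← Module.End.mul_apply, ← map_mul, inv_mul_cancel,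
          map_one, Module.End.one_apply]
    have hGfix := fixed_of_orbit_sums hx ρ u₁ hfix fun g _ => by
      apply b.repr.injective
      rw [map_sum, map_zero]
      ext j
      rw [Finsupp.finsetSum_apply, Finsupp.zero_apply]
      refine Eq.trans ?_ (sum_quadratic_zero (p := p) hp (b.repr (ρ g u₁) j)
        (b.repr (L (ρ g u₁)) j) (2⁻¹ * b.repr ((L ^ 2) (ρ g u₁)) j))
      refine Finset.sum_congr rfl fun i _ => ?_
      simp [hpow, expQ, mul_assoc]
    set U := Submodule.span k {u₁} with hU
    have hUinv : ∀ g, U ≤ U.comap (ρ g) := fun g => by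
      rw [hU, Submodule.span_le]
      rintro y rfl
      rw [SetLike.mem_coe, Submodule.mem_comap, hGfix g]
      exact Submodule.subset_span rfl
    let σ : Representation k G (V ⧸ U) :=
      { toFun := fun g => U.mapQ U (ρ g) (hUinv g)
        map_one' := Submodule.linearMap_qext _ (LinearMap.ext fun v => by simp)
        map_mul' := fun g g' => Submodule.linearMap_qext _ (LinearMap.ext fun v => by simp) }
    have hdim : finrank k (V ⧸ U) = 2 := by
      have := U.finrank_quotient_add_finrank
      rw [hU, finrank_span_singleton hu₁0, hV, ← hU] at this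
      omega
    have h1 := LinearMap.congr_fun (eq_one_of_finrank_two hperf hna t ht h2 σ hdim h)
      (Submodule.Quotient.mk ua)
    change (Submodule.Quotient.mk (ρ h ua) : V ⧸ U) = Submodule.Quotient.mk ua at h1
    rw [Submodule.Quotient.eq, hua, hU, Submodule.mem_span_singleton] at h1
    obtain ⟨c, hc⟩ := h1
    have h3 := congrArg (fun v => b.repr v 0) hc
    simp [← hb0, ← hb1, Finsupp.single_apply] at h3
    exact ha1 (sub_eq_zero.1 h3.symm)
  have hLub : L ub ≠ 0 := by
    intro h0
    set ψ : V →ₗ[k] k := b.coord 1 with hψ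
    have hψL : ∀ v, ψ (L v) = 0 := by
      intro v
      suffices ψ.comp L = 0 from LinearMap.congr_fun this v
      refine b.ext fun i => ?_
      simp only [LinearMap.comp_apply, LinearMap.zero_apply, hψ, Basis.coord_apply]
      fin_cases i
      · exact hcoord _ _ (hLeig _ _ (hbe 0)) 1 (by simpa [lam] using ha2.symm)
      · exact hcoord _ _ (hLeig _ _ (hbe 1)) 1 (by simpa [lam] using ha1.symm)
      · rw [show b (⟨2, by omega⟩ : Fin 3) = ub from hb2, h0, map_zero]
        rfl
    have hψx : ∀ v, ψ (ρ x v) = ψ v := fun v => by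
      simp [hx1, expQ, pow_two, hψL]
    have hψh : ∀ v, ψ (ρ h v) = ψ v := fun v => by
      simp [hψ, hrepr, lam]
    have hfix : ∀ m ∈ N, ∀ v, ψ (ρ m v) = ψ v := by
      suffices hc : ∀ m ∈ Subgroup.closure ({x, h} : Set G), ∀ v, ψ (ρ m v) = ψ v from
        fun m hm => hc m (hN hm)
      intro m hm
      induction hm using Subgroup.closure_induction with
      | mem y hy => rcases hy with rfl | rfl <;> assumption
      | one => simp
      | mul y z _ _ hy hz => intro v; rw [map_mul, Module.End.mul_apply, hy, hz]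
      | inv y _ hy =>
        intro v
        conv_rhs => rw [show v = ρ y (ρ y⁻¹ v) by
          rw [← Module.End.mul_apply, ← map_mul, mul_inv_cancel, map_one, Module.End.one_apply], hy]
    have hGfix := fixed_of_orbit_sums hx ρ.dual ψ
      (fun m hm => LinearMap.ext fun v => by
        rw [Representation.dual_apply, Module.Dual.transpose_apply, LinearMap.comp_apply]
        exact hfix _ (inv_mem hm) v)
      fun g _ => by
        refine LinearMap.ext fun v => ?_
        rw [LinearMap.sum_apply, LinearMap.zero_apply]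
        refine Eq.trans ?_ (sum_quadratic_zero (p := p) hp (ψ (ρ g⁻¹ v))
          (-ψ (ρ g⁻¹ (L v))) (2⁻¹ * ψ (ρ g⁻¹ ((L ^ 2) v))))
        refine Finset.sum_congr rfl fun i _ => ?_
        rw [Representation.dual_apply, Module.Dual.transpose_apply, LinearMap.comp_apply,
          _root_.mul_inv_rev, map_mul, Module.End.mul_apply, hinv]
        simp [expQ, mul_assoc]
    have hUinv : ∀ g, ∀ v ∈ LinearMap.ker ψ, ρ g v ∈ LinearMap.ker ψ := by
      intro g v hv
      rw [LinearMap.mem_ker] at hv ⊢
      have := LinearMap.congr_fun (hGfix g⁻¹) v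
      rw [Representation.dual_apply, Module.Dual.transpose_apply, LinearMap.comp_apply,
        inv_inv] at this
      rw [this, hv]
    let σ : Representation k G (LinearMap.ker ψ) :=
      { toFun := fun g => (ρ g).restrict (hUinv g)
        map_one' := LinearMap.ext fun v => Subtype.ext (by simp)
        map_mul' := fun g g' => LinearMap.ext fun v => Subtype.ext (by simp) }
    have hdim : finrank k (LinearMap.ker ψ) = 2 := by
      have := ψ.finrank_range_add_finrank_ker
      rw [hV, LinearMap.range_eq_top.2 (fun c => ⟨c • u₁, by simp [hψ, ← hb1]⟩), finrank_top,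
        Module.finrank_self] at this
      omega
    have hker : ua ∈ LinearMap.ker ψ := by
      simp [hψ, ← hb0]
    have h1 := congrArg Subtype.val (LinearMap.congr_fun
      (eq_one_of_finrank_two hperf hna t ht h2 σ hdim h) ⟨ua, hker⟩)
    change ρ h ua = ua at h1
    rw [hua] at h1
    exact ha1 (smul_left_injective k hua0 (h1.trans (one_smul k ua).symm))
  -- the adapted basis
  have he1 : ρ h (L ub) = L ub := by
    rw [hLeig _ _ hub, mul_inv_cancel₀ ha0, one_smul]
  have he0 : ρ h (L (L ub)) = a • L (L ub) := by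
    rw [hLeig _ 1 (by rw [one_smul]; exact he1), mul_one]
  have hLLub : L (L ub) ≠ 0 := by
    intro h0
    have hc0 := hcoord _ 1 (by rw [one_smul]; exact he1) 0 (by simpa [lam] using ha1)
    have hc2 := hcoord _ 1 (by rw [one_smul]; exact he1) 2 (by simpa [lam] using hi1)
    have e : L ub = b.repr (L ub) 1 • u₁ := by
      have e3 := (b.sum_repr (L ub)).symm
      rw [Fin.sum_univ_three, hc0, hc2, hb1, zero_smul, zero_smul, zero_add, add_zero] at e3
      exact e3
    rw [e, map_smul, smul_eq_zero] at h0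
    rcases h0 with h0 | h0
    · exact hLub (by rw [e, h0, zero_smul])
    · exact hLu₁ h0
  obtain ⟨c, hc⟩ := mkBasis ![L (L ub), L ub, ub]
    (fun i => by fin_cases i <;> simp [hLLub, hLub, hub0])
    (fun i => by fin_cases i <;> simp [lam, he0, he1, hub])
  have hcL : ∀ v, c.repr (L v) 0 = c.repr v 1 ∧ c.repr (L v) 1 = c.repr v 2 ∧
      c.repr (L v) 2 = 0 := by
    intro v
    have e : L v = c.repr v 1 • c 0 + c.repr v 2 • c 1 := by
      conv_lhs => rw [← c.sum_repr v]
      have h3 : L (L (L ub)) = 0 := by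
        have := LinearMap.congr_fun hL3 ub
        simpa [pow_succ] using this
      simp [Fin.sum_univ_three, map_add, map_smul, hc, h3]
    rw [e]
    simp [Finsupp.single_apply]
  have hch : ∀ v i, c.repr (ρ h v) i = lam i * c.repr v i := by
    intro v i
    conv_lhs => rw [← c.sum_repr v, map_sum]
    have hce : ∀ i, ρ h (c i) = lam i • c i := fun i => by
      rw [hc]; fin_cases i <;> simp [lam, he0, he1, hub]
    simp [map_smul, hce, smul_smul, Finsupp.single_apply, mul_comm]
  let Q₀ : V → k := fun v => c.repr v 1 ^ 2 - 2 * (c.repr v 0 * c.repr v 2)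
  have hQe : ∀ (s : k) v, Q₀ (expQ L s v) = Q₀ v := by
    intro s v
    obtain ⟨l0, l1, l2⟩ := hcL v
    obtain ⟨m0, m1, m2⟩ := hcL (L v)
    simp [Q₀, expQ, pow_two, l0, l1, l2, m0, m1, m2]
    field_simp
    ring
  have hQh : ∀ v, Q₀ (ρ h v) = Q₀ v := fun v => by
    simp [Q₀, hch, lam]
    left
    field_simp
  let σ : Representation k G (V → k) :=
    { toFun := fun g =>
        { toFun := fun f v => f (ρ g⁻¹ v)
          map_add' := fun _ _ => rfl
          map_smul' := fun _ _ => rfl }
      map_one' := by ext f v; simp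
      map_mul' := fun g g' => by ext f v; simp [map_mul] }
  have hfix : ∀ m ∈ N, ∀ v, Q₀ (ρ m v) = Q₀ v := by
    suffices hc : ∀ m ∈ Subgroup.closure ({x, h} : Set G), ∀ v, Q₀ (ρ m v) = Q₀ v from
      fun m hm => hc m (hN hm)
    intro m hm
    induction hm using Subgroup.closure_induction with
    | mem y hy =>
      rcases hy with rfl | rfl
      · intro v; rw [hx1]; exact hQe 1 v
      · exact hQh
    | one => simp
    | mul y z _ _ hy hz => intro v; rw [map_mul, Module.End.mul_apply, hy, hz]
    | inv y _ hy =>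
      intro v
      conv_rhs => rw [show v = ρ y (ρ y⁻¹ v) by
        rw [← Module.End.mul_apply, ← map_mul, mul_inv_cancel, map_one, Module.End.one_apply], hy]
  have hGQ : ∀ g v, Q₀ (ρ g v) = Q₀ v := by
    have key := fixed_of_orbit_sums hx σ Q₀ (fun m hm => funext fun v => hfix _ (inv_mem hm) v)
      fun g _ => funext fun v => by
        rw [Finset.sum_apply, Pi.zero_apply]
        set A := fun j => c.repr (ρ g⁻¹ v) j
        set B := fun j => -c.repr (ρ g⁻¹ (L v)) j
        set C := fun j => 2⁻¹ * c.repr (ρ g⁻¹ ((L ^ 2) v)) j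
        refine Eq.trans ?_ (sum_quartic_zero (p := p) hp (A 1 ^ 2 - 2 * (A 0 * A 2))
          (2 * A 1 * B 1 - 2 * (A 0 * B 2 + B 0 * A 2))
          (B 1 ^ 2 + 2 * A 1 * C 1 - 2 * (A 0 * C 2 + B 0 * B 2 + C 0 * A 2))
          (2 * B 1 * C 1 - 2 * (B 0 * C 2 + C 0 * B 2)) (C 1 ^ 2 - 2 * (C 0 * C 2)))
        refine Finset.sum_congr rfl fun i _ => ?_
        show Q₀ (ρ (x ^ i * g)⁻¹ v) = _
        rw [_root_.mul_inv_rev, map_mul, Module.End.mul_apply, hinv]
        simp [Q₀, A, B, C, expQ]
        ring
    intro g v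
    have := congrFun (key g⁻¹) v
    change Q₀ (ρ g⁻¹⁻¹ v) = Q₀ v at this
    rwa [inv_inv] at this
  -- standard coordinates
  let E : V ≃ₗ[k] (Unit ⊕ (Fin 1 ⊕ Fin 1) → k) :=
    { toFun := fun v => Sum.elim (fun _ => c.repr v 1)
        (Sum.elim (fun _ => -2 * c.repr v 0) (fun _ => c.repr v 2))
      map_add' := fun v w => by funext i; rcases i with i | i | i <;> simp <;> ring
      map_smul' := fun s v => by funext i; rcases i with i | i | i <;> simp <;> ring
      invFun := fun y => (-2⁻¹ * y (.inr (.inl 0))) • c 0 + y (.inl ()) • c 1 +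
        y (.inr (.inr 0)) • c 2
      left_inv := fun v => by
        have e3 := c.sum_repr v
        rw [Fin.sum_univ_three] at e3
        simp [h2]
        exact e3
      right_inv := fun y => by
        funext i
        rcases i with i | i | i <;> fin_cases i <;> simp [Finsupp.single_apply, h2] }
  let ρ' : G →* Module.End k (Unit ⊕ (Fin 1 ⊕ Fin 1) → k) :=
    ((E.conjAlgEquiv k).toMulEquiv.toMonoidHom).comp ρ
  have hρ' : ∀ g y, ρ' g y = E (ρ g (E.symm y)) := fun g y => rfl
  have hE : ∀ v, OrthForms.oddQ k 1 (E v) = Q₀ v := fun v => by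
    rw [OrthForms.oddQ_eq]
    simp [Cfsg.quadFormOdd, E, Q₀]
    ring
  have hQ' : ∀ g y, OrthForms.oddQ k 1 (ρ' g y) = OrthForms.oddQ k 1 y := fun g y => by
    conv_rhs => rw [← E.apply_symm_apply y]
    rw [hρ', hE, hE, hGQ]
  rw [← OrthForms.oddQ_eq]
  refine ⟨OrthIso.repHom (OrthForms.oddQ k 1) ρ' hQ', ?_⟩
  rw [← MonoidHom.ker_eq_bot_iff]
  refine (inferInstance : (MonoidHom.ker _).Normal).eq_bot_or_eq_top.resolve_right fun htop => ?_
  have h1 := (OrthIso.repHom_eq_one (OrthForms.oddQ k 1) ρ' hQ').1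
    (MonoidHom.mem_ker.1 (htop ▸ Subgroup.mem_top h)) (E ua)
  rw [hρ', E.symm_apply_apply] at h1
  have h3 := E.injective h1
  rw [hua] at h3
  exact ha1 (smul_left_injective k hua0 (h3.trans (one_smul k ua).symm))

end three

end Cfsg.Agent.Perm.UniqueP
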