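import Mathlib
import Cfsg.Prelude.Def_Perm
import Cfsg.Agent.S0674
import Cfsg.Agent.Lib.Perm.UniqueP.Three
import Cfsg.Agent.Lib.Perm.UniqueP.Setup

/-!
From a representation with a split vector of weight `n⁻¹` to a three-dimensional one: the kernel
of the map to the heart of the permutation module.
-/

set_option autoImplicit false
set_option linter.unusedSectionVars false
set_option linter.style.haveILetI false

namespace Cfsg.Agent.Perm.UniqueP

open Subgroup Module

variable {α : Type*} [Fintype α] [DecidableEq α] {p : ℕ} [hp : Fact p.Prime]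
  {G : Subgroup (Equiv.Perm α)} [MulAction.IsPretransitive G α]

variable {k : Type*} [Field k]

theorem sum_pow_eq_ite {e : ℕ} {z : k} (hz : z ^ e = 1) [Decidable (z = 1)] :
    ∑ i ∈ Finset.range e, z ^ i = if z = 1 then (e : k) else 0 := by
  split_ifs with h
  · simp [h]
  · rw [geom_sum_eq h, hz, sub_self, zero_div]

set_option maxHeartbeats 1000000 in
/-- The three-dimensional orthogonal representation. -/
theorem Data.exists_hom_isometry (D : Data G α p) (hα : Fintype.card α = p) (hp7 : 7 ≤ p)
    (he : 3 ≤ orderOf D.h) [IsSimpleGroup G] (hperf : commutator G = ⊤)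
    (hna : ∃ a b : G, a * b ≠ b * a) (t : G) (ht : orderOf t = 2) [Fintype k] [CharP k p]
    (σ : Representation k G (Fin (p + 1) → k)) (v : Fin (p + 1) → k)
    (φ : (Fin (p + 1) → k) →ₗ[k] k) (hvx : σ D.x v = v) (hvh : σ D.h v = (D.n : k)⁻¹ • v)
    (hφx : ∀ w, φ (σ D.x w) = φ w) (hφh : ∀ w, φ (σ D.h w) = (D.n : k)⁻¹ * φ w) (hφv : φ v = 1)
    (htr : ∀ j : ℕ, ¬ orderOf D.h ∣ j →
      LinearMap.trace k _ (σ (D.h ^ j)) = (D.n : k) ^ j + ((D.n : k) ^ j)⁻¹) :
    ∃ f : G →* Cfsg.isometryGroup k (Cfsg.quadFormOdd 1 k), Function.Injective f := by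
  classical
  set e := orderOf D.h with he_def
  set a : k := (D.n : k) with ha_def
  have hpe : ¬ p ∣ e := fun h => by
    have := Nat.le_of_dvd (by omega) h
    have := Nat.le_of_dvd (by omega) D.e_dvd
    omega
  have hek : (e : k) ≠ 0 := fun h => hpe ((CharP.cast_eq_zero_iff k p e).1 h)
  have hanat : ∀ j : ℕ, a ^ j = ((ZMod.castHom dvd_rfl k) ((D.n : ZMod p) ^ j)) := fun j => by
    rw [map_pow, map_natCast]
  have hae : a ^ e = 1 := by rw [hanat, D.n_pow_eq_one_iff.2 dvd_rfl, map_one]
  have haord : ∀ j : ℕ, a ^ j = 1 → e ∣ j := fun j hj => by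
    refine D.n_pow_eq_one_iff.1 ((ZMod.castHom dvd_rfl k).injective ?_)
    rw [← hanat, hj, map_one]
  have ha0 : a ≠ 0 := fun h => by rw [h, zero_pow (by omega)] at hae; exact zero_ne_one hae
  have ha1 : a ≠ 1 := fun h => by
    have := Nat.le_of_dvd one_pos (haord 1 (by rw [pow_one, h]))
    omega
  have ha2 : a * a ≠ 1 := fun h => by
    have := Nat.le_of_dvd two_pos (haord 2 (by rw [pow_two, h]))
    omega
  -- the permutation module and its quotient by the constants
  set P := Cfsg.permRep k G α with hP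
  set C := (Cfsg.permConstants k G α).toSubmodule with hC
  let Q : Representation k G ((α → k) ⧸ C) :=
    { toFun := fun g => C.mapQ C (P g) fun w hw =>
        (Cfsg.permConstants k G α).apply_mem_toSubmodule g hw
      map_one' := Submodule.linearMap_qext _ (LinearMap.ext fun w => by simp)
      map_mul' := fun g g' => Submodule.linearMap_qext _ (LinearMap.ext fun w => by simp) }
  have hQ : ∀ g w, Q g (Submodule.Quotient.mk w) = Submodule.Quotient.mk (P g w) := fun g w => rfl
  have hPapp : ∀ g (w : α → k) z, P g w z = w (g⁻¹ • z) := fun g w z => rfl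
  have hCmem : ∀ c : k, (fun _ : α => c) ∈ C := fun c => by
    refine Submodule.mem_span_singleton.2 ⟨c, funext fun _ => ?_⟩
    simp
  let f1 : α → k := fun z => ((D.coord.symm z).val : k)
  have hf1 : ∀ j : ZMod p, f1 (D.coord j) = (ZMod.castHom dvd_rfl k) j := fun j => by
    show ((D.coord.symm (D.coord j)).val : k) = _
    rw [Equiv.symm_apply_apply, ZMod.castHom_apply, ZMod.natCast_val]
  have hf1h : P D.h f1 = a⁻¹ • f1 := by
    funext z
    obtain ⟨j, rfl⟩ := D.coord.surjective z
    rw [hPapp, Pi.smul_apply, hf1, smul_eq_mul]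
    have hinv : D.h⁻¹ • D.coord j = D.coord ((D.n : ZMod p)⁻¹ * j) := by
      rw [inv_smul_eq_iff]
      have := D.hpow_coord 1 ((D.n : ZMod p)⁻¹ * j)
      rw [pow_one, pow_one, mul_inv_cancel_left₀ D.n_ne_zero] at this
      exact this.symm
    rw [hinv, hf1, map_mul, map_inv₀, map_natCast]
  have hf1x : P D.x f1 - f1 ∈ C := by
    have : P D.x f1 - f1 = fun _ => (-1 : k) := funext fun z => by
      obtain ⟨j, rfl⟩ := D.coord.surjective z
      have hinv : D.x⁻¹ • D.coord j = D.coord (j - 1) := by
        rw [inv_smul_eq_iff, D.x_coord, sub_add_cancel]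
      rw [Pi.sub_apply, hPapp, hinv, hf1, hf1, map_sub, map_one]
      ring
    rw [this]; exact hCmem _
  set f1T : (α → k) ⧸ C := Submodule.Quotient.mk f1 with hf1T
  have hQx : Q D.x f1T = f1T := by rw [hf1T, hQ, Submodule.Quotient.eq]; exact hf1x
  have hQh : Q D.h f1T = a⁻¹ • f1T := by rw [hf1T, hQ, hf1h, Submodule.Quotient.mk_smul]
  have hf1C : f1 ∉ C := by
    intro h
    obtain ⟨c, hc⟩ := Submodule.mem_span_singleton.1 h
    have h0 := congrFun hc (D.coord 0)
    have h1 := congrFun hc (D.coord 1)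
    simp only [Pi.smul_apply, smul_eq_mul, mul_one, hf1, map_zero, map_one] at h0 h1
    exact one_ne_zero (h1.symm.trans h0)
  -- norms vanish on the quotient
  have hNP : ∀ w : (α → k) ⧸ C, ∑ i ∈ Finset.range p, Q (D.x ^ i) w = 0 := by
    intro w
    obtain ⟨w, rfl⟩ := Submodule.Quotient.mk_surjective _ w
    show ∑ i ∈ Finset.range p, C.mkQ (P (D.x ^ i) w) = 0
    rw [← map_sum, Submodule.mkQ_apply, Submodule.Quotient.mk_eq_zero]
    convert hCmem (∑ z, w z) using 1
    funext z
    obtain ⟨j, rfl⟩ := D.coord.surjective z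
    rw [Finset.sum_apply]
    simp only [hPapp]
    refine Finset.sum_bij (fun i _ => (D.x ^ i)⁻¹ • D.coord j) (fun i _ => Finset.mem_univ _)
      (fun i hi i' hi' h => ?_) (fun b _ => ?_) (fun i _ => rfl)
    · have h2 : ∀ l : ℕ, (D.x ^ l)⁻¹ • D.coord j = D.coord (j - l) := fun l => by
        rw [inv_smul_eq_iff, D.xpow_coord, sub_add_cancel]
      rw [h2, h2, D.coord.injective.eq_iff, sub_right_inj, ZMod.natCast_eq_natCast_iff] at h
      exact h.eq_of_lt_of_lt (Finset.mem_range.1 hi) (Finset.mem_range.1 hi')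
    · obtain ⟨l, rfl⟩ := D.coord.surjective b
      refine ⟨(j - l).val, Finset.mem_range.2 (ZMod.val_lt _), ?_⟩
      rw [inv_smul_eq_iff, D.xpow_coord, ZMod.natCast_zmod_val]
      congr 1
      ring
  -- the equivariant map
  let u₀ : (Fin (p + 1) → k) →ₗ[k] (α → k) ⧸ C := φ.smulRight f1T
  have hu₀ : ∀ n ∈ normalizer ((D.P : Subgroup G) : Set G),
      Representation.linHom σ Q n u₀ = u₀ := by
    have hfx : Representation.linHom σ Q D.x u₀ = u₀ := by
      refine LinearMap.ext fun w => ?_
      rw [Representation.linHom_apply]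
      show Q D.x (φ (σ D.x⁻¹ w) • f1T) = φ w • f1T
      rw [map_smul, hQx, ← hφx (σ D.x⁻¹ w), ← Module.End.mul_apply, ← map_mul, mul_inv_cancel,
        map_one, Module.End.one_apply]
    have hfh : Representation.linHom σ Q D.h u₀ = u₀ := by
      refine LinearMap.ext fun w => ?_
      rw [Representation.linHom_apply]
      show Q D.h (φ (σ D.h⁻¹ w) • f1T) = φ w • f1T
      rw [map_smul, hQh, smul_smul, mul_comm, ← hφh, ← Module.End.mul_apply, ← map_mul,
        mul_inv_cancel, map_one, Module.End.one_apply]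
    intro n hn
    obtain ⟨i, j, rfl⟩ := D.mem_normalizer_iff'.1 hn
    have hpow : ∀ (g : G), Representation.linHom σ Q g u₀ = u₀ → ∀ l : ℕ,
        Representation.linHom σ Q (g ^ l) u₀ = u₀ := by
      intro g hg l
      induction l with
      | zero => rw [pow_zero, map_one, Module.End.one_apply]
      | succ l ih => rw [pow_succ, map_mul, Module.End.mul_apply, hg, ih]
    rw [map_mul, Module.End.mul_apply, hpow _ hfh, hpow _ hfx]
  obtain ⟨F, hF, hFv⟩ := exists_fixed D.freeCosets (Representation.linHom σ Q) u₀ hu₀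
    (LinearMap.applyₗ v) fun g _ => by
      simp only [LinearMap.applyₗ_apply_apply, Representation.linHom_apply, LinearMap.comp_apply]
      have hvxi : ∀ i : ℕ, σ (D.x ^ i)⁻¹ v = v := by
        intro i
        have h1 : ∀ l : ℕ, σ (D.x ^ l) v = v := by
          intro l
          induction l with
          | zero => simp
          | succ l ih => rw [pow_succ, map_mul, Module.End.mul_apply, hvx, ih]
        conv_lhs => rw [← h1 i, ← Module.End.mul_apply, ← map_mul, inv_mul_cancel, map_one,
          Module.End.one_apply]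
      rw [Finset.sum_congr rfl (g := fun i => φ (σ g⁻¹ v) • Q (D.x ^ i) (Q g f1T)) fun i _ => ?_,
        ← Finset.smul_sum, hNP, smul_zero]
      show Q (D.x ^ i * g) (φ (σ (D.x ^ i * g)⁻¹ v) • f1T) = _
      rw [_root_.mul_inv_rev, map_mul σ, Module.End.mul_apply, hvxi, map_smul, map_mul Q,
        Module.End.mul_apply]
  have hFeq : ∀ g w, F (σ g w) = Q g (F w) := by
    intro g w
    have := LinearMap.congr_fun (hF g) (σ g w)
    rw [Representation.linHom_apply] at this
    simp only [LinearMap.comp_apply] at this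
    rw [← this, ← Module.End.mul_apply (σ g⁻¹), ← map_mul, inv_mul_cancel, map_one,
      Module.End.one_apply]
  have hFv' : F v = f1T := by
    simp only [LinearMap.applyₗ_apply_apply] at hFv
    rw [hFv]
    show φ v • f1T = f1T
    rw [hφv, one_smul]
  -- the sum functional
  let s : (α → k) →ₗ[k] k := ∑ z, LinearMap.proj z
  have hs : ∀ w, s w = ∑ z, w z := fun w => by simp [s, LinearMap.sum_apply]
  have hCs : C ≤ LinearMap.ker s := by
    intro w hw
    obtain ⟨c, rfl⟩ := Submodule.mem_span_singleton.1 hw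
    simp [hs, hα]
  let sb := C.liftQ s hCs
  have hsb : ∀ w, sb (Submodule.Quotient.mk w) = ∑ z, w z := fun w => hs w
  have hcardC : finrank k C = 1 :=
    finrank_span_singleton (fun h0 => one_ne_zero (congrFun h0 (D.coord 0)))
  have hdimT : finrank k ((α → k) ⧸ C) = p - 1 := by
    have := C.finrank_quotient_add_finrank
    rw [hcardC, Module.finrank_fintype_fun_eq_card, hα] at this
    omega
  have hsb_range : LinearMap.range sb = ⊤ := LinearMap.range_eq_top.2 fun c =>
    ⟨Submodule.Quotient.mk (Pi.single (D.coord 0) c), by simp [hsb]⟩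
  have hdimker : finrank k (LinearMap.ker sb) = p - 2 := by
    have := sb.finrank_range_add_finrank_ker
    rw [hsb_range, finrank_top, Module.finrank_self, hdimT] at this
    omega
  -- the heart is irreducible
  have hnsol : ¬ Group.IsSolvable G := by
    intro hs
    have h1 := IsSolvable.commutator_lt_top_of_nontrivial (G := G)
    exact h1.ne hperf
  have hkerle : LinearMap.ker sb ≤ LinearMap.range F := by
    let W : Subrepresentation P :=
      { toSubmodule := (LinearMap.range F).comap C.mkQ ⊓ (Cfsg.permSumZero k G α).toSubmodule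
        apply_mem_toSubmodule := fun g w hw => ⟨by
          obtain ⟨⟨u, hu⟩, -⟩ := hw
          refine ⟨σ g u, ?_⟩
          rw [hFeq, hu]
          rfl, (Cfsg.permSumZero k G α).apply_mem_toSubmodule g hw.2⟩ }
    have hCle : C ≤ W.toSubmodule := by
      intro w hw
      refine ⟨?_, ?_⟩
      · show C.mkQ w ∈ LinearMap.range F
        rw [Submodule.mkQ_apply, (Submodule.Quotient.mk_eq_zero C).2 hw]
        exact zero_mem _
      · show ∑ z, w z = 0
        rw [← hs]; exact hCs hw
    have hf1W : f1 ∈ W.toSubmodule := by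
      refine ⟨⟨v, hFv'⟩, ?_⟩
      show ∑ z, f1 z = 0
      rw [← Fintype.sum_equiv D.coord (fun j => f1 (D.coord j)) f1 fun _ => rfl]
      simp only [hf1, ← map_sum]
      have h0 := FiniteField.sum_pow_lt_card_sub_one (ZMod p) 1 (by rw [ZMod.card]; omega)
      simp only [pow_one] at h0
      rw [← map_sum (ZMod.castHom dvd_rfl k), h0, map_zero]
    rcases S0674.result hα G hnsol W hCle inf_le_right with h | h
    · rw [h] at hf1W
      exact absurd hf1W hf1C
    · intro w hw
      obtain ⟨w, rfl⟩ := Submodule.Quotient.mk_surjective _ w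
      have : w ∈ W.toSubmodule := by
        rw [h]
        show ∑ z, w z = 0
        rw [← hsb]; exact hw
      exact this.1
  -- dimensions of eigenspaces
  have hPe : P D.h ^ e = 1 := by rw [← map_pow, he_def, pow_orderOf_eq_one, map_one]
  have hQe : Q D.h ^ e = 1 := by rw [← map_pow, he_def, pow_orderOf_eq_one, map_one]
  have hσe : σ D.h ^ e = 1 := by rw [← map_pow, he_def, pow_orderOf_eq_one, map_one]
  have dimU : ∀ β : k, β ≠ 0 → β ^ e = 1 → (finrank k (Module.End.eigenspace (σ D.h) β) : k) =
      (if β⁻¹ * a = 1 then 1 else 0) + (if β⁻¹ * a⁻¹ = 1 then 1 else 0) - (e : k)⁻¹ := by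
    intro β hβ hβe
    rw [finrank_eigenspace_cast hσe hek hβ hβe]
    have hterm : ∀ i ∈ Finset.range e, β⁻¹ ^ i * LinearMap.trace k _ (σ D.h ^ i) =
        (β⁻¹ * a) ^ i + (β⁻¹ * a⁻¹) ^ i - if i = 0 then 1 else 0 := by
      intro i hi
      rw [Finset.mem_range] at hi
      split_ifs with h0
      · subst h0
        simp [CharP.cast_eq_zero k p]
      · rw [← map_pow, htr i fun h => h0 (Nat.eq_zero_of_dvd_of_lt h hi), mul_pow, mul_pow, inv_pow,
          inv_pow]
        ring
    rw [Finset.sum_congr rfl hterm, Finset.sum_sub_distrib, Finset.sum_add_distrib,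
      sum_pow_eq_ite (by rw [mul_pow, inv_pow, hβe, hae, inv_one, one_mul]),
      sum_pow_eq_ite (by rw [mul_pow, inv_pow, inv_pow, hβe, hae, inv_one, one_mul]),
      Finset.sum_ite_eq', if_pos (Finset.mem_range.2 (by omega))]
    split_ifs <;> field_simp <;> ring
  have dimP : ∀ β : k, β ≠ 0 → β ^ e = 1 → (finrank k (Module.End.eigenspace (P D.h) β) : k) =
      (if β⁻¹ = 1 then 1 else 0) - (e : k)⁻¹ := by
    intro β hβ hβe
    rw [finrank_eigenspace_cast hPe hek hβ hβe]
    have hterm : ∀ i ∈ Finset.range e, β⁻¹ ^ i * LinearMap.trace k _ (P D.h ^ i) =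
        β⁻¹ ^ i - if i = 0 then 1 else 0 := by
      intro i hi
      rw [Finset.mem_range] at hi
      split_ifs with h0
      · subst h0
        rw [pow_zero, pow_zero, one_mul, LinearMap.trace_one, Module.finrank_fintype_fun_eq_card,
          hα, CharP.cast_eq_zero, sub_self]
      · rw [sub_zero]
        refine mul_eq_left₀ (pow_ne_zero _ (inv_ne_zero hβ)) |>.2 ?_
        rw [← map_pow, LinearMap.trace_eq_matrix_trace k (Pi.basisFun k α), Matrix.trace]
        simp only [Matrix.diag, LinearMap.toMatrix_apply, Pi.basisFun_apply, Pi.basisFun_repr,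
          hPapp, Pi.single_apply]
        rw [Finset.sum_eq_single (D.coord 0)]
        · rw [if_pos]
          rw [inv_smul_eq_iff, D.hpow_coord, mul_zero]
        · intro z _ hz
          rw [if_neg]
          intro hz'
          obtain ⟨l, rfl⟩ := D.coord.surjective z
          rw [inv_smul_eq_iff, D.hpow_coord, D.coord.injective.eq_iff] at hz'
          have hl : l ≠ 0 := fun hl => hz (congrArg D.coord hl)
          exact h0 (Nat.eq_zero_of_dvd_of_lt (D.n_pow_eq_one_iff.1
            (mul_right_cancel₀ hl (hz'.symm.trans (one_mul l).symm))) hi)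
        · simp
    rw [Finset.sum_congr rfl hterm, Finset.sum_sub_distrib,
      sum_pow_eq_ite (by rw [inv_pow, hβe, inv_one]), Finset.sum_ite_eq',
      if_pos (Finset.mem_range.2 (by omega))]
    split_ifs <;> field_simp <;> ring
  have dimT : ∀ β : k, β ≠ 0 → β ^ e = 1 →
      (finrank k (Module.End.eigenspace (Q D.h) β) : k) = -(e : k)⁻¹ := by
    intro β hβ hβe
    have h := finrank_eigenspace_add hPe hek hβ hβe C.mkQ (T' := Q D.h) fun w => rfl
    rw [Submodule.range_mkQ, inf_top_eq, Submodule.ker_mkQ] at h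
    have hC1 : finrank k ↥(Module.End.eigenspace (P D.h) β ⊓ C) = if β⁻¹ = 1 then 1 else 0 := by
      have hfix : ∀ w ∈ C, P D.h w = w := fun w hw => by
        obtain ⟨c, rfl⟩ := Submodule.mem_span_singleton.1 hw
        rfl
      split_ifs with hb
      · rw [inf_eq_right.2 fun w hw => Module.End.mem_eigenspace_iff.2 (by
          rw [hfix w hw, inv_eq_one.1 hb, one_smul]), hcardC]
      · rw [show Module.End.eigenspace (P D.h) β ⊓ C = ⊥ from (Submodule.eq_bot_iff _).2 fun w hw => by
          have h1 := Module.End.mem_eigenspace_iff.1 hw.1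
          rw [hfix w hw.2] at h1
          have h2 : (β - 1) • w = 0 := by rw [sub_smul, one_smul, ← h1, sub_self]
          exact (smul_eq_zero.1 h2).resolve_left (sub_ne_zero.2 fun hh => hb (inv_eq_one.2 hh)),
          finrank_bot]
    have h' := dimP β hβ hβe
    rw [h, Nat.cast_add, hC1] at h'
    split_ifs at h' <;> · push_cast at h'; linear_combination h'
  have dimS : ∀ β : k, β ≠ 0 → β ^ e = 1 →
      (finrank k ↥(Module.End.eigenspace (Q D.h) β ⊓ LinearMap.ker sb) : k) =
        -(e : k)⁻¹ - if β⁻¹ = 1 then 1 else 0 := by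
    intro β hβ hβe
    have hsh : ∀ w, sb (Q D.h w) = sb w := by
      intro w
      obtain ⟨w, rfl⟩ := Submodule.Quotient.mk_surjective _ w
      rw [hQ, hsb, hsb]
      exact Fintype.sum_equiv (MulAction.toPerm D.h⁻¹) _ _ fun z => rfl
    have h := finrank_eigenspace_add hQe hek hβ hβe sb (T' := (1 : Module.End k k)) hsh
    rw [hsb_range, inf_top_eq] at h
    have h1 : finrank k ((1 : Module.End k k).eigenspace β) = if β⁻¹ = 1 then 1 else 0 := by
      split_ifs with hb
      · rw [show (1 : Module.End k k).eigenspace β = ⊤ from eq_top_iff.2 fun w _ =>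
          Module.End.mem_eigenspace_iff.2 (by rw [inv_eq_one.1 hb, one_smul]; rfl),
          finrank_top, Module.finrank_self]
      · rw [show (1 : Module.End k k).eigenspace β = ⊥ from (Submodule.eq_bot_iff _).2 fun w hw => by
          have h1 := Module.End.mem_eigenspace_iff.1 hw
          rw [Module.End.one_apply, smul_eq_mul] at h1
          have h2 : (β - 1) * w = 0 := by rw [sub_mul, one_mul, ← h1, sub_self]
          exact (mul_eq_zero.1 h2).resolve_left (sub_ne_zero.2 fun hh => hb (inv_eq_one.2 hh)),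
          finrank_bot]
    have h' := dimT β hβ hβe
    rw [h, Nat.cast_add, h1] at h'
    split_ifs at h' ⊢ <;> · push_cast at h'; linear_combination h'
  have hkerF : ∀ β : k, β ≠ 0 → β ^ e = 1 →
      (finrank k (Module.End.eigenspace (σ D.h) β) : k) =
        (finrank k ↥(Module.End.eigenspace (Q D.h) β ⊓ LinearMap.range F) : k) +
          (finrank k ↥(Module.End.eigenspace (σ D.h) β ⊓ LinearMap.ker F) : k) := by
    intro β hβ hβe
    rw [finrank_eigenspace_add hσe hek hβ hβe F (fun w => hFeq D.h w), Nat.cast_add]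
  have hinvK : ∀ g, ∀ w ∈ LinearMap.ker F, σ g w ∈ LinearMap.ker F := fun g w hw => by
    rw [LinearMap.mem_ker] at hw ⊢
    rw [hFeq, hw, map_zero]
  let ρ : Representation k G (LinearMap.ker F) :=
    { toFun := fun g => (σ g).restrict (hinvK g)
      map_one' := LinearMap.ext fun w => Subtype.ext (by simp)
      map_mul' := fun g g' => LinearMap.ext fun w => Subtype.ext (by simp) }
  have hvec : ∀ β : k, (finrank k ↥(Module.End.eigenspace (σ D.h) β ⊓ LinearMap.ker F) : k) = 1 →
      ∃ w : LinearMap.ker F, w ≠ 0 ∧ ρ D.h w = β • w := by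
    intro β h
    have hne : Module.End.eigenspace (σ D.h) β ⊓ LinearMap.ker F ≠ ⊥ := fun hb => by
      rw [hb, finrank_bot, Nat.cast_zero] at h
      exact zero_ne_one h
    obtain ⟨w, hw, hw0⟩ := Submodule.exists_mem_ne_zero_of_ne_bot hne
    exact ⟨⟨w, hw.2⟩, fun h0 => hw0 (congrArg Subtype.val h0),
      Subtype.ext (Module.End.mem_eigenspace_iff.1 hw.1)⟩
  have hai : a⁻¹ ^ e = 1 := by rw [inv_pow, hae, inv_one]
  have haa : a⁻¹ * a⁻¹ ≠ 1 := fun h => ha2 (by
    rw [← mul_inv, inv_eq_one] at h; exact h)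
  have hchar2 : (2 : k) ≠ 0 := by
    intro h0
    have h' : ((2 : ℕ) : k) = 0 := by exact_mod_cast h0
    have := Nat.le_of_dvd two_pos ((CharP.cast_eq_zero_iff k p 2).1 h')
    omega
  have hdimK : finrank k (LinearMap.range F) + finrank k (LinearMap.ker F) = p + 1 := by
    rw [F.finrank_range_add_finrank_ker, Module.finrank_fintype_fun_eq_card, Fintype.card_fin]
  rcases hkerle.eq_or_lt with hrange | hrange
  swap
  · -- a surjection leaves a two-dimensional kernel
    exfalso
    have h1 := Submodule.finrank_lt_finrank_of_lt hrange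
    have h2 := Submodule.finrank_le (LinearMap.range F)
    have hTop : LinearMap.range F = ⊤ :=
      Submodule.eq_top_of_finrank_eq (by omega)
    have hd2 : finrank k (LinearMap.ker F) = 2 := by omega
    have hb := hkerF a ha0 hae
    rw [hTop, inf_top_eq, dimT a ha0 hae, dimU a ha0 hae, if_pos (inv_mul_cancel₀ ha0),
      if_neg haa] at hb
    obtain ⟨w, hw0, hw⟩ := hvec a (by linear_combination -hb)
    have h3 := LinearMap.congr_fun (eq_one_of_finrank_two hperf hna t ht hchar2 ρ hd2 D.h) w
    rw [hw, Module.End.one_apply] at h3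
    exact ha1 (smul_left_injective k hw0 (h3.trans (one_smul k w).symm))
  have hd3 : finrank k (LinearMap.ker F) = 3 := by rw [← hrange] at hdimK; omega
  have hker : ∀ β : k, β ≠ 0 → β ^ e = 1 →
      (finrank k ↥(Module.End.eigenspace (σ D.h) β ⊓ LinearMap.ker F) : k) =
        (if β⁻¹ * a = 1 then 1 else 0) + (if β⁻¹ * a⁻¹ = 1 then 1 else 0) +
          if β⁻¹ = 1 then 1 else 0 := by
    intro β hβ hβe
    have h := hkerF β hβ hβe
    rw [← hrange, dimS β hβ hβe, dimU β hβ hβe] at h
    linear_combination -h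
  obtain ⟨u₁, hu₁0, hu₁⟩ := hvec 1 (by
    rw [hker 1 one_ne_zero (one_pow e), if_neg (by simpa using ha1),
      if_neg (by simpa [inv_eq_one] using ha1), if_pos inv_one]
    ring)
  obtain ⟨ua, hua0, hua⟩ := hvec a (by
    rw [hker a ha0 hae, if_pos (inv_mul_cancel₀ ha0), if_neg haa,
      if_neg (by simpa [inv_eq_one] using ha1)]
    ring)
  obtain ⟨ub, hub0, hub⟩ := hvec a⁻¹ (by
    rw [hker a⁻¹ (inv_ne_zero ha0) hai, inv_inv, if_neg ha2, if_pos (mul_inv_cancel₀ ha0),
      if_neg ha1]
    ring)
  rw [one_smul] at hu₁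
  refine exists_isometry_hom hp7 hperf hna t ht hd3 ρ (normalizer ((D.P : Subgroup G) : Set G))
    D.x D.h D.freeCosets ?_ D.n D.conj_h (a := a) rfl ha0 ha1 ha2 u₁ ua ub hu₁ hua hub hu₁0 hua0
    hub0
  intro g hg
  obtain ⟨i, j, rfl⟩ := D.mem_normalizer_iff'.1 hg
  exact mul_mem (pow_mem (Subgroup.subset_closure (by simp)) i)
    (pow_mem (Subgroup.subset_closure (by simp)) j)

end Cfsg.Agent.Perm.UniqueP
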