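import Mathlib
import Cfsg.Agent.Lib.SmallSimple.Basic
import Cfsg.Agent.Lib.Transfer.Fusion
import Cfsg.Agent.Lib.Transfer.Frobenius

/-!
In a simple group, a cyclic trivial intersection subgroup of index two in its normalizer is
inverted by that normalizer.
-/

set_option autoImplicit false
set_option linter.unusedSectionVars false

namespace Cfsg.Agent.Perm.UniqueP

open Subgroup
open scoped commutatorElement

variable {G : Type*} [Group G] [Finite G]

/-- A `q`-subgroup whose normalizer lies in a subgroup of which it is a Sylow subgroup is a Sylow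
subgroup. -/
theorem exists_sylow_eq {q : ℕ} [Fact q.Prime] (N T : Subgroup G) {a : ℕ}
    (hcard : Nat.card T = q ^ a) (hmax : ¬ q ^ (a + 1) ∣ Nat.card N)
    (hnorm : ∀ g : G, g ∈ normalizer (T : Set G) → g ∈ N) :
    ∃ R : Sylow q G, (R : Subgroup G) = T := by
  obtain ⟨R, hR⟩ := (IsPGroup.of_card hcard).exists_le_sylow
  refine ⟨R, le_antisymm ?_ hR⟩
  by_contra hlt
  have hlt' : T < (R : Subgroup G) := lt_of_le_not_ge hR hlt
  have h1 := Cfsg.Agent.Transfer.Frobenius.lt_inf_normalizer R.2 hlt'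
  set U := (R : Subgroup G) ⊓ normalizer (T : Set G) with hU
  have hUN : U ≤ N := fun g hg => hnorm g (mem_inf.1 hg).2
  obtain ⟨b, hb⟩ := IsPGroup.iff_card.1 (R.2.to_le (inf_le_left : U ≤ (R : Subgroup G)))
  have hab : a < b := by
    by_contra hba
    push Not at hba
    refine h1.ne (Subgroup.eq_of_le_of_card_ge h1.le ?_)
    rw [hb, hcard]
    exact Nat.pow_le_pow_right (Fact.out : q.Prime).pos hba
  exact hmax ((pow_dvd_pow q hab).trans (hb ▸ Subgroup.card_dvd_of_le hUN))

/-- In a simple group, a trivial intersection cyclic subgroup of index two in its normalizer is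
inverted by an element of the normalizer. -/
theorem exists_inverting [IsSimpleGroup G] (hG : ¬ IsMulCommutative G)
    (hperf : commutator G = ⊤) (h : G)
    (hNE : Nat.card (normalizer ((zpowers h : Subgroup G) : Set G)) = 2 * orderOf h)
    (hTI : ∀ g : G, g ∉ normalizer ((zpowers h : Subgroup G) : Set G) →
      zpowers h ⊓ (zpowers h).map (MulAut.conj g).toMonoidHom = ⊥) :
    ∃ t : G, t ∈ normalizer ((zpowers h : Subgroup G) : Set G) ∧ t ∉ zpowers h ∧
      t * h * t⁻¹ = h⁻¹ := by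
  classical
  set E := zpowers h with hEdef
  set N := normalizer (E : Set G) with hNdef
  have hE : Nat.card E = orderOf h := Nat.card_zpowers h
  have he : 0 < orderOf h := orderOf_pos h
  have hEN : E ≤ N := le_normalizer
  have hconj : ∀ g : G, ∀ w : G, w ∈ E → w ≠ 1 → g * w * g⁻¹ ∈ E → g ∈ N := by
    intro g w hw hw1 hgw
    by_contra hg
    have h2 : g * w * g⁻¹ ∈ E ⊓ E.map (MulAut.conj g).toMonoidHom :=
      ⟨hgw, w, hw, rfl⟩
    rw [hTI g hg, Subgroup.mem_bot, conj_eq_one_iff] at h2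
    exact hw1 h2
  have hidx : (E.subgroupOf N).index = 2 := by
    have h1 := (E.subgroupOf N).card_mul_index
    rw [Nat.card_congr (subgroupOfEquivOfLe hEN).toEquiv, hE, hNE, mul_comm 2] at h1
    exact Nat.eq_of_mul_eq_mul_left he h1
  have hsq : ∀ g ∈ N, g * g ∈ E := fun g hg => by
    have := mul_self_mem_of_index_two hidx ⟨g, hg⟩
    rwa [mem_subgroupOf] at this
  have hcl : ∀ a b : G, a ∈ N → b ∈ N → (a * b ∈ E ↔ (a ∈ E ↔ b ∈ E)) := fun a b ha hb => by
    have := mul_mem_iff_of_index_two hidx (a := ⟨a, ha⟩) (b := ⟨b, hb⟩)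
    rwa [mem_subgroupOf, mem_subgroupOf, mem_subgroupOf] at this
  obtain ⟨t, htN, htE⟩ : ∃ t ∈ N, t ∉ E := by
    by_contra hall
    push Not at hall
    have := Subgroup.card_dvd_of_le (fun g hg => hall g hg : N ≤ E)
    rw [hE, hNE] at this
    have := Nat.le_of_dvd he this
    omega
  have hcommE : ∀ a b : G, a ∈ E → b ∈ E → a * b = b * a := by
    intro a b ha hb
    obtain ⟨i, rfl⟩ := mem_zpowers_iff.1 ha
    obtain ⟨j, rfl⟩ := mem_zpowers_iff.1 hb
    rw [← zpow_add, ← zpow_add, add_comm]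
  have hthE : t * h * t⁻¹ ∈ E := (mem_normalizer_iff.1 htN h).1 (mem_zpowers h)
  obtain ⟨n, hn⟩ : ∃ n : ℕ, h ^ n = t * h * t⁻¹ := by
    rw [hEdef, mem_zpowers_iff_mem_range_orderOf, Finset.mem_image] at hthE
    obtain ⟨n, -, hn⟩ := hthE
    exact ⟨n, hn⟩
  have hout : ∀ g ∈ N, g ∉ E → ∀ w ∈ E, g * w * g⁻¹ = w ^ n := by
    intro g hg hgE w hw
    obtain ⟨i, rfl⟩ := mem_zpowers_iff.1 hw
    have ha : g * t⁻¹ ∈ E := by
      rw [hcl g t⁻¹ hg (inv_mem htN), inv_mem_iff]
      exact iff_of_false hgE htE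
    have key : t * h ^ i * t⁻¹ = (h ^ i) ^ n := by
      rw [← conj_zpow, ← hn, ← zpow_natCast, ← zpow_natCast, ← zpow_mul, ← zpow_mul, mul_comm]
    calc g * h ^ i * g⁻¹ = (g * t⁻¹) * (t * h ^ i * t⁻¹) * (g * t⁻¹)⁻¹ := by group
      _ = (h ^ i) ^ n := by
        rw [key, hcommE _ _ ha (pow_mem hw n), mul_inv_cancel_right]
  have hnn : n * n ≡ 1 [MOD orderOf h] := by
    rw [← pow_eq_pow_iff_modEq, pow_one, pow_mul, hn, conj_pow, hn]
    calc t * (t * h * t⁻¹) * t⁻¹ = (t * t) * h * (t * t)⁻¹ := by group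
      _ = h := by rw [hcommE _ _ (hsq t htN) (mem_zpowers h), mul_inv_cancel_right]
  refine ⟨t, htN, htE, ?_⟩
  suffices hdvd : orderOf h ∣ n + 1 by
    rw [← hn, eq_inv_iff_mul_eq_one, ← pow_succ]
    exact orderOf_dvd_iff_pow_eq_one.1 hdvd
  rw [Nat.dvd_iff_prime_pow_dvd_dvd]
  intro q k hq hqk
  haveI : Fact q.Prime := ⟨hq⟩
  set m := (orderOf h).factorization q with hm
  refine (pow_dvd_pow q ((hq.pow_dvd_iff_le_factorization he.ne').1 hqk)).trans ?_
  rw [← hm]
  rcases Nat.eq_zero_or_pos m with hm0 | hm0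
  · rw [hm0, pow_zero]; exact one_dvd _
  -- the `q`-part of `E`
  have hqm : q ^ m ∣ orderOf h := Nat.ordProj_dvd _ _
  set y := h ^ (orderOf h / q ^ m) with hy
  have hyE : y ∈ E := npow_mem_zpowers h _
  have hordy : orderOf y = q ^ m := orderOf_pow_orderOf_div he.ne' hqm
  have hnm : n * n ≡ 1 [MOD q ^ m] := hnn.of_dvd hqm
  have hmax : ¬ q ^ (m + 1) ∣ orderOf h := fun hdiv => by
    have := (hq.pow_dvd_iff_le_factorization he.ne').1 hdiv
    omega
  by_cases hq2 : q = 2
  · subst hq2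
    have hnodd : ¬ 2 ∣ n := fun hdiv => by
      have h1 : n * n ≡ 1 [MOD 2] := hnm.of_dvd (dvd_pow_self 2 hm0.ne')
      obtain ⟨c, rfl⟩ := hdiv
      simp [Nat.ModEq, Nat.mul_mod] at h1
    rcases Nat.lt_or_ge m 2 with hm2 | hm2
    · rw [show m = 1 by omega, pow_one]
      omega
    -- a Sylow two-subgroup of `N` is one of `G`
    obtain ⟨T⟩ : Nonempty (Sylow 2 ↥N) := inferInstance
    have hTcard : Nat.card ((T : Subgroup ↥N).map N.subtype) = 2 ^ (m + 1) := by
      rw [Subgroup.card_map_of_injective N.subtype_injective, T.card_eq_multiplicity, hNE,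
        Nat.factorization_mul two_ne_zero he.ne', Finsupp.add_apply, ← hm,
        Nat.Prime.factorization_self Nat.prime_two, add_comm]
    set T' := (T : Subgroup ↥N).map N.subtype with hT'
    have hT'N : T' ≤ N := map_subtype_le _
    have hmaxN : ¬ 2 ^ (m + 1 + 1) ∣ Nat.card N := by
      rw [hNE, pow_succ' 2 (m + 1), Nat.mul_dvd_mul_iff_left two_pos]
      exact hmax
    have hYN : zpowers y ≤ N := zpowers_le.2 (hEN hyE)
    have hnorm : ∀ g : G, g ∈ normalizer (T' : Set G) → g ∈ N := by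
      intro g hg
      obtain ⟨s, hs, hs2⟩ : ∃ s ∈ T', s * s ≠ 1 := by
        by_contra hall
        push Not at hall
        obtain ⟨c, hc⟩ := IsPGroup.exists_le_sylow (P := (zpowers y).subgroupOf N) (p := 2)
          (IsPGroup.of_card (n := m) (by
            rw [Nat.card_congr (subgroupOfEquivOfLe hYN).toEquiv, Nat.card_zpowers, hordy]))
        obtain ⟨u, hu⟩ := MulAction.exists_smul_eq ↥N c T
        have hyc : (⟨y, hEN hyE⟩ : ↥N) ∈ (c : Subgroup ↥N) := hc (by
          rw [mem_subgroupOf]; exact mem_zpowers y)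
        have hmem : u * ⟨y, hEN hyE⟩ * u⁻¹ ∈ (T : Subgroup ↥N) := by
          rw [← hu]
          exact ⟨_, hyc, rfl⟩
        have h2 := hall _ (mem_map_of_mem N.subtype hmem)
        simp only [Subgroup.subtype_apply, Subgroup.coe_mul, Subgroup.coe_inv] at h2
        rw [← pow_two, conj_pow, conj_eq_one_iff] at h2
        have h3 := orderOf_dvd_iff_pow_eq_one.2 h2
        rw [hordy] at h3
        have h4 := Nat.le_of_dvd two_pos h3
        have h5 : 2 ^ 2 ≤ 2 ^ m := Nat.pow_le_pow_right two_pos hm2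
        omega
      refine hconj g (s * s) (hsq s (hT'N hs)) hs2 ?_
      rw [← conj_mul]
      exact hsq _ (hT'N ((mem_normalizer_iff.1 hg s).1 hs))
    obtain ⟨R, hR⟩ := exists_sylow_eq N T' hTcard hmaxN hnorm
    have hRN : (R : Subgroup G) ≤ N := hR ▸ hT'N
    have hRcard : Nat.card (R : Subgroup G) = 2 ^ (m + 1) := by rw [hR, hTcard]
    have hyR : y ∈ (R : Subgroup G) := by
      -- `y` lies in every Sylow two-subgroup of `N`
      have hYnormal : ((zpowers y).subgroupOf N).Normal := by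
        refine ⟨fun c hc d => ?_⟩
        rw [mem_subgroupOf] at hc ⊢
        obtain ⟨l, hl⟩ := mem_zpowers_iff.1 hc
        rw [Subgroup.coe_mul, Subgroup.coe_mul, Subgroup.coe_inv, ← hl]
        by_cases hdE : (d : G) ∈ E
        · rw [hcommE _ _ hdE (zpow_mem hyE l), mul_inv_cancel_right]
          exact zpow_mem (mem_zpowers y) l
        · rw [hout _ d.2 hdE _ (zpow_mem hyE l)]
          exact pow_mem (zpow_mem (mem_zpowers y) l) n
      have hle : (zpowers y).subgroupOf N ≤ (T : Subgroup ↥N) :=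
        (IsPGroup.of_card (n := m) (by
          rw [Nat.card_congr (subgroupOfEquivOfLe hYN).toEquiv, Nat.card_zpowers,
            hordy])).le_sylow_of_normal T
      rw [hR, hT']
      exact mem_map_of_mem N.subtype (hle (show (⟨y, hEN hyE⟩ : ↥N) ∈ _ by
        rw [mem_subgroupOf]; exact mem_zpowers y))
    -- the fusion subgroup
    set F : Subgroup G := closure ({s | s ∈ (R : Subgroup G) ∧ s * s = 1} ∪
      {c | ∃ a ∈ (R : Subgroup G), ∃ b ∈ (R : Subgroup G), c = ⁅a, b⁆}) with hF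
    have hfus : commutator G ⊓ (R : Subgroup G) ≤ F := by
      refine Cfsg.Agent.Transfer.Fusion.focal_le_of_fusion R fun x hx g hgx => ⟨g, rfl, ?_⟩
      rw [show ⁅x, g⁆ = x * (g * x * g⁻¹)⁻¹ by rw [commutatorElement_def]; group]
      by_cases hx2 : x * x = 1
      · refine mul_mem (subset_closure (Or.inl ⟨hx, hx2⟩))
          (inv_mem (subset_closure (Or.inl ⟨hgx, ?_⟩)))
        rw [conj_mul, hx2, mul_one, mul_inv_cancel]
      have hgN : g ∈ N := hconj g (x * x) (hsq x (hRN hx)) hx2 (by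
        rw [← conj_mul]; exact hsq _ (hRN hgx))
      set w := x * (g * x * g⁻¹)⁻¹ with hw
      have hwR : w ∈ (R : Subgroup G) := mul_mem hx (inv_mem hgx)
      obtain ⟨v, hv⟩ : ∃ v, (orderOf h / 2 ^ m) * v ≡ 1 [MOD 2 ^ (m + 1)] := by
        have hcop : Nat.Coprime (orderOf h / 2 ^ m) (2 ^ (m + 1)) :=
          ((Nat.coprime_ordCompl Nat.prime_two he.ne').symm).pow_right _
        obtain ⟨v, -, hv⟩ := Nat.exists_mul_mod_eq_one_of_coprime hcop
          (Nat.one_lt_two_pow (by omega))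
        exact ⟨v, by rw [Nat.ModEq, hv, Nat.one_mod_eq_one.2 (Nat.one_lt_two_pow (by omega)).ne']⟩
      have hord : orderOf w ∣ 2 ^ (m + 1) := by
        rw [← hRcard]; exact Subgroup.orderOf_dvd_natCard _ hwR
      have hw1 : w ^ ((orderOf h / 2 ^ m) * v) = w := by
        conv_rhs => rw [← pow_one w]
        exact pow_eq_pow_iff_modEq.2 (hv.of_dvd hord)
      -- reduce the conjugating element to `R`
      obtain ⟨s, hsR, a, ha, hga⟩ : ∃ s ∈ (R : Subgroup G), ∃ a ∈ E, g = s * a := by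
        by_cases hgE : g ∈ E
        · exact ⟨1, one_mem _, g, hgE, (one_mul g).symm⟩
        obtain ⟨s, hsR, hsE⟩ : ∃ s ∈ (R : Subgroup G), s ∉ E := by
          by_contra hall
          push Not at hall
          have := Subgroup.card_dvd_of_le (fun g hg => hall g hg : (R : Subgroup G) ≤ E)
          rw [hRcard, hE] at this
          exact hmax this
        refine ⟨s, hsR, s⁻¹ * g, ?_, (mul_inv_cancel_left s g).symm⟩
        rw [hcl s⁻¹ g (inv_mem (hRN hsR)) hgN, inv_mem_iff]
        exact iff_of_false hsE hgE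
      set b := x * (a * x⁻¹ * a⁻¹) with hb
      have hwb : w = b * ⁅a * x * a⁻¹, s⁆ := by
        rw [hw, hb, hga, commutatorElement_def]; group
      have haxR : a * x * a⁻¹ ∈ (R : Subgroup G) := by
        have := mul_mem (mul_mem (inv_mem hsR) hgx) hsR
        rw [hga] at this
        convert this using 1
        group
      have hbE : b = (x * a * x⁻¹) * a⁻¹ := by rw [hb]; group
      have hbE' : x * a * x⁻¹ ∈ E := (mem_normalizer_iff.1 (hRN hx) a).1 ha
      rw [hwb]
      refine mul_mem ?_ (subset_closure (Or.inr ⟨_, haxR, _, hsR, rfl⟩))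
      have hbR : b ∈ (R : Subgroup G) := by
        rw [hb, show a * x⁻¹ * a⁻¹ = (a * x * a⁻¹)⁻¹ by group]
        exact mul_mem hx (inv_mem haxR)
      set i := (orderOf h / 2 ^ m) * v with hi
      have hai : a ^ i ∈ (R : Subgroup G) := by
        have hordai : a ^ i ∈ zpowers y := by
          obtain ⟨l, rfl⟩ := mem_zpowers_iff.1 ha
          refine ⟨l * v, ?_⟩
          show (h ^ (orderOf h / 2 ^ m)) ^ (l * (v : ℤ)) = (h ^ l) ^ i
          rw [← zpow_natCast, ← zpow_natCast, ← zpow_mul, ← zpow_mul, hi, Nat.cast_mul]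
          congr 1
          ring
        exact zpowers_le.2 hyR hordai
      have hbi : b ^ i = ⁅x, a ^ i⁆ := by
        rw [hbE, (show Commute (x * a * x⁻¹) a⁻¹ from hcommE _ _ hbE' (inv_mem ha)).mul_pow,
          conj_pow, inv_pow, commutatorElement_def]
      have hbb : b ^ i = b := by
        conv_rhs => rw [← pow_one b]
        refine pow_eq_pow_iff_modEq.2 (hv.of_dvd ?_)
        rw [← hRcard]; exact Subgroup.orderOf_dvd_natCard _ hbR
      rw [← hbb, hbi]
      exact subset_closure (Or.inr ⟨x, hx, _, hai, rfl⟩)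
    rw [hperf, top_inf_eq] at hfus
    have hcomE : ∀ a ∈ (R : Subgroup G), ∀ b ∈ (R : Subgroup G), ⁅a, b⁆ ∈ E := by
      intro a ha b hb
      rw [commutatorElement_def, hcl _ _ (mul_mem (mul_mem (hRN ha) (hRN hb)) (inv_mem (hRN ha)))
        (inv_mem (hRN hb)), hcl _ _ (mul_mem (hRN ha) (hRN hb)) (inv_mem (hRN ha)),
        hcl _ _ (hRN ha) (hRN hb), inv_mem_iff, inv_mem_iff]
      tauto
    obtain ⟨t₀, ht₀R, ht₀, ht₀E⟩ : ∃ s ∈ (R : Subgroup G), s * s = 1 ∧ s ∉ E := by
      by_contra hall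
      push Not at hall
      have hRE : (R : Subgroup G) ≤ E := hfus.trans ((closure_le _).2 (by
        rintro s (⟨hs, hs2⟩ | ⟨a, ha, b, hb, rfl⟩)
        · exact hall s hs hs2
        · exact hcomE a ha b hb))
      have := Subgroup.card_dvd_of_le hRE
      rw [hRcard, hE] at this
      exact hmax this
    have hty : ∀ l : ℤ, t₀ * y ^ l = y ^ ((n : ℤ) * l) * t₀ := by
      intro l
      rw [← mul_inv_eq_iff_eq_mul, hout t₀ (hRN ht₀R) ht₀E _ (zpow_mem hyE l), ← zpow_natCast,
        ← zpow_mul, mul_comm]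
    have hRE : ∀ s ∈ (R : Subgroup G), s ∈ E → ∃ l : ℤ, s = y ^ l := by
      intro s hs hsE
      obtain ⟨l, rfl⟩ := mem_zpowers_iff.1 hsE
      have h1 : orderOf (h ^ l) ∣ Nat.gcd (2 ^ (m + 1)) (orderOf h) := by
        refine Nat.dvd_gcd ?_ ?_
        · rw [← hRcard]; exact Subgroup.orderOf_dvd_natCard _ hs
        · rw [← hE]; exact Subgroup.orderOf_dvd_natCard _ hsE
      obtain ⟨c, hc, hgcd⟩ := (Nat.dvd_prime_pow Nat.prime_two).1
        (Nat.gcd_dvd_left (2 ^ (m + 1)) (orderOf h))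
      have hcm : c ≤ m := by
        by_contra hcm
        exact hmax ((pow_dvd_pow 2 (show m + 1 ≤ c by omega)).trans
          (hgcd ▸ Nat.gcd_dvd_right _ _))
      have h2 : (h ^ l) ^ (2 ^ m : ℕ) = 1 :=
        orderOf_dvd_iff_pow_eq_one.1 ((hgcd ▸ h1).trans (pow_dvd_pow 2 hcm))
      rw [← zpow_natCast, ← zpow_mul, ← orderOf_dvd_iff_zpow_eq_one] at h2
      obtain ⟨o, ho⟩ := id hqm
      have h3 : ((o : ℕ) : ℤ) ∣ l := by
        rw [ho, Nat.cast_mul, mul_comm l] at h2
        exact Int.dvd_of_mul_dvd_mul_left (by positivity) h2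
      obtain ⟨d, rfl⟩ := h3
      refine ⟨d, ?_⟩
      rw [hy, ho, Nat.mul_div_cancel_left _ (by positivity), ← zpow_natCast, ← zpow_mul]
    have hRform : ∀ s ∈ (R : Subgroup G), ∃ l : ℤ, s = y ^ l ∨ s = y ^ l * t₀ := by
      intro s hs
      by_cases hsE : s ∈ E
      · exact (hRE s hs hsE).imp fun _ => Or.inl
      · refine (hRE (s * t₀) (mul_mem hs ht₀R) ?_).imp fun l hl => Or.inr ?_
        · rw [hcl _ _ (hRN hs) (hRN ht₀R)]
          exact iff_of_false hsE ht₀E
        · rw [← hl, mul_assoc, ht₀, mul_one]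
    have hzy : ∀ l : ℤ, y ^ l = 1 → ((2 : ℤ) ^ m) ∣ l := by
      intro l hl
      rw [← orderOf_dvd_iff_zpow_eq_one, hordy, Nat.cast_pow, Nat.cast_two] at hl
      exact hl
    have h2dvd : (2 : ℤ) ∣ (2 : ℤ) ^ m := dvd_pow_self 2 (by omega)
    by_contra hnd
    let M : Subgroup G :=
      { carrier := {s | ∃ l : ℤ, 2 ∣ l ∧ (s = y ^ l ∨ s = y ^ l * t₀)}
        one_mem' := ⟨0, dvd_zero 2, Or.inl (zpow_zero y).symm⟩
        mul_mem' := by
          rintro a b ⟨l, hl, rfl | rfl⟩ ⟨l', hl', rfl | rfl⟩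
          · exact ⟨l + l', dvd_add hl hl', Or.inl (zpow_add y l l').symm⟩
          · exact ⟨l + l', dvd_add hl hl', Or.inr (by rw [zpow_add, mul_assoc])⟩
          · exact ⟨l + n * l', dvd_add hl (hl'.mul_left _), Or.inr (by
              rw [mul_assoc, hty, zpow_add, mul_assoc])⟩
          · exact ⟨l + n * l', dvd_add hl (hl'.mul_left _), Or.inl (by
              rw [mul_assoc, ← mul_assoc t₀, hty, mul_assoc _ t₀, ht₀, mul_one, zpow_add])⟩
        inv_mem' := by
          rintro a ⟨l, hl, rfl | rfl⟩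
          · exact ⟨-l, hl.neg_right, Or.inl (zpow_neg y l).symm⟩
          · exact ⟨n * -l, hl.neg_right.mul_left _, Or.inr (by
              rw [← hty, mul_inv_rev, zpow_neg, inv_eq_of_mul_eq_one_right ht₀])⟩ }
    have hnd' : ¬ (2 : ℤ) ^ m ∣ (n : ℤ) + 1 := fun h' => hnd (by exact_mod_cast h')
    have hn1 : (2 : ℤ) ∣ (n : ℤ) - 1 := by omega
    have hyM : y ∈ M := by
      refine (hfus.trans ((closure_le _).2 ?_)) hyR
      rintro s (⟨hs, hs2⟩ | ⟨a, ha, b, hb, rfl⟩)
      · obtain ⟨l, rfl | rfl⟩ := hRform s hs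
        · rw [← zpow_add] at hs2
          obtain ⟨c, hc⟩ := (pow_dvd_pow (2 : ℤ) hm2).trans (hzy _ hs2)
          exact ⟨l, ⟨c, by omega⟩, Or.inl rfl⟩
        · rw [mul_assoc, ← mul_assoc t₀, hty, mul_assoc _ t₀, ht₀, mul_one, ← zpow_add,
            show l + (n : ℤ) * l = l * ((n : ℤ) + 1) by ring] at hs2
          refine ⟨l, ?_, Or.inr rfl⟩
          by_contra hl
          exact hnd' (Prime.pow_dvd_of_dvd_mul_left Int.prime_two m hl (hzy _ hs2))
      · obtain ⟨l, rfl | rfl⟩ := hRform a ha <;> obtain ⟨l', rfl | rfl⟩ := hRform b hb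
        · exact ⟨0, dvd_zero 2, Or.inl (by
            rw [zpow_zero, commutatorElement_eq_one_iff_mul_comm, ← zpow_add, ← zpow_add,
              add_comm])⟩
        · refine ⟨-((n : ℤ) - 1) * l, (hn1.neg_right).mul_right _, Or.inl ?_⟩
          rw [commutatorElement_def, mul_inv_rev, inv_eq_of_mul_eq_one_right ht₀, ← zpow_neg,
            ← zpow_neg]
          calc y ^ l * (y ^ l' * t₀) * y ^ (-l) * (t₀ * y ^ (-l'))
              = y ^ l * y ^ l' * (t₀ * y ^ (-l)) * t₀ * y ^ (-l') := by group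
            _ = y ^ l * y ^ l' * y ^ ((n : ℤ) * -l) * (t₀ * t₀) * y ^ (-l') := by
              rw [hty]; group
            _ = _ := by rw [ht₀, mul_one, ← zpow_add, ← zpow_add, ← zpow_add]; congr 1; ring
        · refine ⟨((n : ℤ) - 1) * l', hn1.mul_right _, Or.inl ?_⟩
          rw [commutatorElement_def, mul_inv_rev, inv_eq_of_mul_eq_one_right ht₀, ← zpow_neg,
            ← zpow_neg]
          calc y ^ l * t₀ * y ^ l' * (t₀ * y ^ (-l)) * y ^ (-l')
              = y ^ l * (t₀ * y ^ l') * t₀ * y ^ (-l) * y ^ (-l') := by group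
            _ = y ^ l * y ^ ((n : ℤ) * l') * (t₀ * t₀) * y ^ (-l) * y ^ (-l') := by
              rw [hty]; group
            _ = _ := by rw [ht₀, mul_one, ← zpow_add, ← zpow_add, ← zpow_add]; congr 1; ring
        · refine ⟨((n : ℤ) - 1) * (l' - l), hn1.mul_right _, Or.inl ?_⟩
          rw [commutatorElement_def, mul_inv_rev, mul_inv_rev, inv_eq_of_mul_eq_one_right ht₀,
            ← zpow_neg, ← zpow_neg]
          calc y ^ l * t₀ * (y ^ l' * t₀) * (t₀ * y ^ (-l)) * (t₀ * y ^ (-l'))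
              = y ^ l * (t₀ * y ^ l') * (t₀ * t₀) * y ^ (-l) * (t₀ * y ^ (-l')) := by group
            _ = y ^ l * y ^ ((n : ℤ) * l') * (t₀ * y ^ (-l)) * (t₀ * y ^ (-l')) := by
              rw [hty l', ht₀]; group
            _ = y ^ l * y ^ ((n : ℤ) * l') * (y ^ ((n : ℤ) * -l) * t₀) * (t₀ * y ^ (-l')) := by
              rw [hty (-l)]
            _ = y ^ l * y ^ ((n : ℤ) * l') * y ^ ((n : ℤ) * -l) * (t₀ * t₀) * y ^ (-l') := by
              group
            _ = _ := by rw [ht₀, mul_one, ← zpow_add, ← zpow_add, ← zpow_add]; congr 1; ring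
    obtain ⟨l, ⟨c, rfl⟩, h1 | h1⟩ := hyM
    · have h2 : y ^ (2 * c - 1) = 1 := by rw [zpow_sub, zpow_one, ← h1, mul_inv_cancel]
      obtain ⟨d, hd⟩ := h2dvd.trans (hzy _ h2)
      omega
    · refine ht₀E ?_
      rw [eq_inv_mul_of_mul_eq h1.symm]
      exact mul_mem (inv_mem (zpow_mem hyE _)) hyE
  · -- odd primes: a fixed `q`-part contradicts Burnside's transfer theorem
    by_contra hnd
    have h1 : ((q : ℤ) ^ m) ∣ ((n : ℤ) + 1) * ((n : ℤ) - 1) := by
      rw [show ((n : ℤ) + 1) * ((n : ℤ) - 1) = ((n * n : ℕ) : ℤ) - (1 : ℕ) by push_cast; ring,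
        ← Nat.cast_pow]
      exact hnm.symm.dvd
    have hqp : Prime (q : ℤ) := Nat.prime_iff_prime_int.1 hq
    have h2 : ((q : ℤ) ^ m) ∣ ((n : ℤ) - 1) := by
      refine hqp.pow_dvd_of_dvd_mul_left m (fun hdiv => hnd ?_) h1
      have h3 : ¬ (q : ℤ) ∣ ((n : ℤ) - 1) := fun h' => by
        have h4 := dvd_sub hdiv h'
        rw [show ((n : ℤ) + 1) - ((n : ℤ) - 1) = ((2 : ℕ) : ℤ) by push_cast; ring,
          Int.natCast_dvd_natCast, Nat.prime_dvd_prime_iff_eq hq Nat.prime_two] at h4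
        exact hq2 h4
      have h5 := hqp.pow_dvd_of_dvd_mul_right m h3 h1
      exact_mod_cast h5
    have hcent : ∀ g ∈ N, g * y * g⁻¹ = y := by
      intro g hg
      by_cases hgE : g ∈ E
      · rw [hcommE _ _ hgE hyE, mul_inv_cancel_right]
      · rw [hout g hg hgE y hyE]
        conv_rhs => rw [← pow_one y]
        rw [pow_eq_pow_iff_modEq, hordy, Nat.ModEq.comm, Nat.modEq_iff_dvd]
        exact_mod_cast h2
    have hnorm : ∀ g : G, g ∈ normalizer ((zpowers y : Subgroup G) : Set G) → g ∈ N := fun g hg =>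
      hconj g y hyE (fun h0 => by
        rw [h0, orderOf_one] at hordy
        exact (Nat.one_lt_pow hm0.ne' hq.one_lt).ne hordy)
        (zpowers_le.2 hyE ((mem_normalizer_iff.1 hg y).1 (mem_zpowers y)))
    have hmaxN : ¬ q ^ (m + 1) ∣ Nat.card N := by
      rw [hNE]
      intro hdiv
      exact hmax (((Nat.coprime_primes hq Nat.prime_two).2 hq2).pow_left _ |>.dvd_of_dvd_mul_left
        hdiv)
    obtain ⟨R, hR⟩ := exists_sylow_eq N (zpowers y) (by rw [Nat.card_zpowers, hordy]) hmaxN hnorm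
    have hqG : q ∣ Nat.card G :=
      ((dvd_pow_self q hm0.ne').trans (hordy ▸ dvd_rfl)).trans (orderOf_dvd_natCard y)
    refine Cfsg.Agent.SmallSimple.Basic.not_normalizer_le_centralizer hG hqG R ?_
    rw [hR]
    intro g hg
    rw [mem_centralizer_iff]
    intro w hw
    obtain ⟨l, rfl⟩ := mem_zpowers_iff.1 hw
    have := hcent g (hnorm g hg)
    have h6 : g * y ^ l * g⁻¹ = y ^ l := by rw [← conj_zpow, this]
    exact (mul_inv_eq_iff_eq_mul.1 h6).symm

end Cfsg.Agent.Perm.UniqueP
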