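import Mathlib
import Cfsg.Agent.Lib.Characters.Induction
import Cfsg.Agent.Lib.Perm.UniqueP.Char

/-!
The irreducible character of degree `p + 1` coming from a linear character of the complement.
-/

set_option autoImplicit false
set_option linter.unusedSectionVars false
set_option linter.style.haveILetI false

namespace Cfsg.Agent.Perm.UniqueP

open Subgroup Cfsg.Agent.Characters
open scoped ComplexConjugate

universe u v

variable {G : Type u} [Group G] [Finite G] {α : Type v} [Fintype α] [MulAction G α]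
  [FaithfulSMul G α] [MulAction.IsPretransitive G α] {p : ℕ} [hp : Fact p.Prime]

/-- The character `1 + χ - θ` for `θ` induced from `1 - a` on the complement. -/
theorem Data.exceptional (D : Data G α p) {χ : G → ℂ} (hχ : Cfsg.IsIrrCharacter G χ)
    (hχ1 : χ 1 = p) (hχh : ∀ j : ℕ, ¬ orderOf D.h ∣ j → χ (D.h ^ j) = 1)
    (he : 3 ≤ orderOf D.h)
    (hNE : Nat.card (normalizer ((zpowers D.h : Subgroup G) : Set G)) = 2 * orderOf D.h)
    (hTI : ∀ g : G, g ∉ normalizer ((zpowers D.h : Subgroup G) : Set G) →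
      zpowers D.h ⊓ (zpowers D.h).map (MulAut.conj g).toMonoidHom = ⊥)
    {t : G} (htN : t ∈ normalizer ((zpowers D.h : Subgroup G) : Set G)) (htE : t ∉ zpowers D.h)
    (ht : t * D.h * t⁻¹ = D.h⁻¹) {ζ : ℂ} (hζ : IsPrimitiveRoot ζ (orderOf D.h)) :
    ∃ ψ : G → ℂ, Cfsg.IsIrrCharacter G ψ ∧ ψ 1 = (p : ℂ) + 1 ∧
      (∀ i : ℕ, ¬ p ∣ i → ψ (D.x ^ i) = 1) ∧
      ∀ j : ℕ, ¬ orderOf D.h ∣ j → ψ (D.h ^ j) = ζ ^ j + (ζ ^ j)⁻¹ := by
  classical
  haveI := Fintype.ofFinite G
  set E := zpowers D.h with hE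
  set N := normalizer (E : Set G) with hN
  haveI := Fintype.ofFinite E
  have he0 : 0 < orderOf D.h := orderOf_pos D.h
  have hEC : (Nat.card E : ℂ) ≠ 0 := Nat.cast_ne_zero.2 Nat.card_pos.ne'
  let g₀ : E := ⟨D.h, mem_zpowers D.h⟩
  have hgen : ∀ w : E, w ∈ zpowers g₀ := by
    rintro ⟨w, hw⟩
    obtain ⟨i, hi⟩ := mem_zpowers_iff.1 hw
    exact ⟨i, Subtype.ext (by simpa [g₀] using hi)⟩
  let ζu : ℂˣ := (hζ.isUnit he0.ne').unit
  have hζu : orderOf ζu ∣ orderOf g₀ := by
    rw [← Subgroup.orderOf_coe g₀, orderOf_dvd_iff_pow_eq_one]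
    exact Units.ext hζ.pow_eq_one
  let a : E →* ℂˣ := monoidHomOfForallMemZpowers hgen hζu
  have hag : (a g₀ : ℂ) = ζ := by
    show ((monoidHomOfForallMemZpowers hgen hζu) g₀ : ℂ) = ζ
    rw [monoidHomOfForallMemZpowers_apply_gen]
    rfl
  have hapow : ∀ j : ℕ, (a (g₀ ^ j) : ℂ) = ζ ^ j := fun j => by
    rw [map_pow, Units.val_pow_eq_pow_val, hag]
  let af : E → ℂ := fun w => (a w : ℂ)
  let θ₀ : E → ℂ := (fun _ => 1) - af
  let θ : G → ℂ := Cfsg.indFun E θ₀
  have hθ0 : ∀ w : E, θ₀ w = 1 - af w := fun w => rfl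
  -- values
  have hNconj : ∀ g : G, g ∈ N → ∀ w : E, (g ∈ E ∧ g⁻¹ * w * g = (w : G)) ∨
      (g ∉ E ∧ g⁻¹ * w * g = ((w⁻¹ : E) : G)) := by
    intro g hg w
    obtain ⟨i, hi⟩ := mem_zpowers_iff.1 w.2
    by_cases hgE : g ∈ E
    · obtain ⟨k, hk⟩ := mem_zpowers_iff.1 hgE
      refine Or.inl ⟨hgE, ?_⟩
      rw [← hi, ← hk]
      group
    · refine Or.inr ⟨hgE, ?_⟩
      have hcard : (E.subgroupOf N).index = 2 := by
        have h1 := (E.subgroupOf N).card_mul_index
        rw [Nat.card_congr (subgroupOfEquivOfLe le_normalizer).toEquiv, Nat.card_zpowers, hNE,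
          mul_comm 2] at h1
        exact Nat.eq_of_mul_eq_mul_left he0 h1
      have hm := mul_mem_iff_of_index_two hcard (a := ⟨g, hg⟩) (b := ⟨t, htN⟩)
      simp only [mem_subgroupOf] at hm
      have hgt : g * t ∈ E := hm.2 (iff_of_false hgE htE)
      obtain ⟨k, hk⟩ := mem_zpowers_iff.1 hgt
      have hg' : g = D.h ^ k * t⁻¹ := by rw [hk, mul_inv_cancel_right]
      rw [hg', Subgroup.coe_inv, ← hi]
      calc (D.h ^ k * t⁻¹)⁻¹ * D.h ^ i * (D.h ^ k * t⁻¹)
          = t * D.h ^ i * t⁻¹ := by group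
        _ = (D.h ^ i)⁻¹ := by rw [← conj_zpow, ht, inv_zpow]
  have hval : ∀ w : E, w ≠ 1 → θ (w : G) = θ₀ w + θ₀ w⁻¹ := by
    intro w hw
    show (Nat.card E : ℂ)⁻¹ * ∑ x : G, Cfsg.extendByZero E θ₀ (x⁻¹ * (w : G) * x) = _
    have hsupp : ∀ x : G, x ∉ N → Cfsg.extendByZero E θ₀ (x⁻¹ * (w : G) * x) = 0 := by
      intro x hx
      refine CharTheory.IndBasic.extendByZero_of_notMem E _ fun hmem => hw ?_
      have h2 : (w : G) ∈ E ⊓ E.map (MulAut.conj x).toMonoidHom :=
        ⟨w.2, _, hmem, by show x * (x⁻¹ * (w : G) * x) * x⁻¹ = _; group⟩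
      rw [hTI x hx, Subgroup.mem_bot] at h2
      exact Subtype.ext h2
    rw [← Finset.sum_subset (Finset.subset_univ (Finset.univ.filter (· ∈ N)))
      (fun x _ hx => hsupp x (fun h => hx (Finset.mem_filter.2 ⟨Finset.mem_univ _, h⟩))),
      ← Finset.sum_filter_add_sum_filter_not (Finset.univ.filter (· ∈ N)) (· ∈ E),
      Finset.filter_filter, Finset.filter_filter]
    have h1 : ∀ x ∈ Finset.univ.filter (fun x => x ∈ N ∧ x ∈ E),
        Cfsg.extendByZero E θ₀ (x⁻¹ * (w : G) * x) = θ₀ w := by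
      intro x hx
      obtain ⟨-, hxN, hxE⟩ := Finset.mem_filter.1 hx
      rw [((hNconj x hxN w).resolve_right fun h => h.1 hxE).2,
        CharTheory.IndBasic.extendByZero_coe]
    have h2 : ∀ x ∈ Finset.univ.filter (fun x => x ∈ N ∧ x ∉ E),
        Cfsg.extendByZero E θ₀ (x⁻¹ * (w : G) * x) = θ₀ w⁻¹ := by
      intro x hx
      obtain ⟨-, hxN, hxE⟩ := Finset.mem_filter.1 hx
      rw [((hNconj x hxN w).resolve_left fun h => hxE h.1).2,
        CharTheory.IndBasic.extendByZero_coe]
    have c1 : (Finset.univ.filter (fun x => x ∈ N ∧ x ∈ E)).card = Nat.card E := by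
      rw [Nat.card_eq_fintype_card, Fintype.card_subtype]
      congr 1
      ext x
      simp only [Finset.mem_filter, Finset.mem_univ, true_and]
      exact ⟨fun h => h.2, fun h => ⟨le_normalizer h, h⟩⟩
    have c2 : (Finset.univ.filter (fun x => x ∈ N ∧ x ∉ E)).card = Nat.card E := by
      have h3 := Finset.card_filter_add_card_filter_not (s := Finset.univ.filter (· ∈ N)) (fun x => x ∈ E)
      rw [Finset.filter_filter, Finset.filter_filter, c1] at h3
      have h4 : (Finset.univ.filter (· ∈ N)).card = 2 * Nat.card E := by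
        rw [Nat.card_zpowers, ← hNE, Nat.card_eq_fintype_card, Fintype.card_subtype]
      omega
    rw [Finset.sum_congr rfl h1, Finset.sum_congr rfl h2, Finset.sum_const, Finset.sum_const, c1, c2,
      nsmul_eq_mul, nsmul_eq_mul, ← mul_add, inv_mul_cancel_left₀ hEC]
  have hθone : θ 1 = 0 := by
    show Cfsg.indFun E θ₀ 1 = 0
    rw [indFun_one, hθ0]
    simp [af]
  have hθx : ∀ i : ℕ, ¬ p ∣ i → θ (D.x ^ i) = 0 := by
    intro i hi
    show (Nat.card E : ℂ)⁻¹ * ∑ x : G, Cfsg.extendByZero E θ₀ (x⁻¹ * D.x ^ i * x) = 0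
    rw [Finset.sum_eq_zero fun x _ => ?_, mul_zero]
    refine CharTheory.IndBasic.extendByZero_of_notMem E _ fun hmem => ?_
    have ho : orderOf (x⁻¹ * D.x ^ i * x) = p := by
      refine orderOf_eq_prime ?_ fun h1 => hi ?_
      · have := conj_pow (a := x⁻¹) (b := D.x ^ i) (i := p)
        rw [inv_inv] at this
        rw [this, ← pow_mul, mul_comm i, pow_mul, D.x_pow_p, one_pow]
        group
      · rw [show x⁻¹ * D.x ^ i * x = x⁻¹ * D.x ^ i * x⁻¹⁻¹ by rw [inv_inv],
          conj_eq_one_iff, ← orderOf_dvd_iff_pow_eq_one, D.ordx] at h1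
        exact h1
    have hd : p ∣ orderOf D.h := by
      have := Subgroup.orderOf_dvd_natCard E hmem
      rwa [ho, Nat.card_zpowers] at this
    have := Nat.le_of_dvd he0 hd
    have := Nat.le_of_dvd (by have := hp.out.two_le; omega) D.e_dvd
    omega
  -- the three products
  have hθgen : Cfsg.IsGeneralizedCharacter G θ :=
    isGen_indFun E ⟨_, _, isCharacter_one, isCharacter_linear a, rfl⟩
  have hne1 : ∀ k : ℕ, 0 < k → k < orderOf D.h → ∑ w : E, af w ^ k = 0 := by
    intro k hk hk'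
    let f : E →* ℂ := (powMonoidHom k).comp ((Units.coeHom ℂ).comp a)
    have hf : f ≠ 1 := fun h => by
      have h1 := DFunLike.congr_fun h g₀
      simp only [f, MonoidHom.coe_comp, Function.comp_apply, powMonoidHom_apply,
        MonoidHom.one_apply, Units.coeHom_apply, hag] at h1
      exact hζ.pow_ne_one_of_pos_of_lt hk.ne' hk' h1
    exact sum_hom_units_eq_zero f hf
  have haf1 : ∀ w : E, af w ≠ 0 := fun w => (a w).ne_zero
  have hconj : ∀ w : E, conj (af w) = (af w)⁻¹ := fun w => by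
    rw [Complex.inv_eq_conj (linear_norm_eq_one a w)]
  have hs1 : ∑ w : E, (af w)⁻¹ = 0 := by
    have := congrArg conj (hne1 1 one_pos (by omega))
    simpa [map_sum, hconj] using this
  have hIθ : Cfsg.classInner θ θ = 3 := by
    rw [show θ = Cfsg.indFun E θ₀ from rfl, frobenius_reciprocity E θ₀ (indFun_isClassFunction E θ₀),
      classInner_def]
    have hterm : ∀ w : E, θ₀ w * conj (θ (w : G)) =
        3 - 3 * af w - (af w)⁻¹ + af w ^ 2 := by
      intro w
      by_cases hw : w = 1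
      · subst hw
        norm_num [hθ0, af]
      · rw [hval w hw, hθ0, hθ0, map_add, map_sub, map_sub, map_one, hconj, hconj,
          show af w⁻¹ = (af w)⁻¹ by simp [af], inv_inv]
        have := haf1 w
        field_simp
        ring
    rw [Finset.sum_congr rfl fun w _ => hterm w, Finset.sum_add_distrib, Finset.sum_sub_distrib,
      Finset.sum_sub_distrib, ← Finset.mul_sum, hs1, hne1 2 two_pos (by omega),
      show ∑ w : E, af w = 0 by simpa using hne1 1 one_pos (by omega), mul_zero, sub_zero, sub_zero,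
      add_zero, Finset.sum_const, Finset.card_univ, ← Nat.card_eq_fintype_card, nsmul_eq_mul,
      inv_mul_cancel_left₀ hEC]
  have hsum1 : ∑ w : E, θ₀ w = (Nat.card E : ℂ) := by
    rw [Finset.sum_congr rfl fun w _ => hθ0 w, Finset.sum_sub_distrib,
      show ∑ w : E, af w = 0 by simpa using hne1 1 one_pos (by omega), sub_zero, Finset.sum_const,
      Finset.card_univ, ← Nat.card_eq_fintype_card, nsmul_eq_mul, mul_one]
  have hI1 : Cfsg.classInner θ (fun _ => 1) = 1 := by
    rw [show θ = Cfsg.indFun E θ₀ from rfl, frobenius_reciprocity E θ₀ (fun _ _ => rfl),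
      classInner_def]
    simp only [map_one, mul_one]
    rw [hsum1, inv_mul_cancel₀ hEC]
  have hIχ : Cfsg.classInner θ χ = 1 := by
    rw [show θ = Cfsg.indFun E θ₀ from rfl,
      frobenius_reciprocity E θ₀ (char_isClassFunction (isCharacter_of_isIrr hχ)), classInner_def,
      Finset.sum_congr rfl (g := fun w => θ₀ w) fun w _ => ?_, hsum1, inv_mul_cancel₀ hEC]
    by_cases hw : w = 1
    · subst hw; simp [hθ0, af]
    · obtain ⟨j, -, hj⟩ := Finset.mem_image.1 (mem_zpowers_iff_mem_range_orderOf.1 w.2)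
      show θ₀ w * conj (χ (w : G)) = θ₀ w
      rw [← hj, hχh j fun h => hw (Subtype.ext (by
        rw [← hj, orderOf_dvd_iff_pow_eq_one.1 h]; rfl)), map_one, mul_one]
  have hne : χ ≠ fun _ => 1 := fun h => by
    have h1 : χ 1 = 1 := congrFun h 1
    rw [hχ1] at h1
    exact hp.out.ne_one (by exact_mod_cast h1)
  refine ⟨(fun _ => 1) + χ - θ, ?_, ?_, fun i hi => ?_, fun j hj => ?_⟩
  · refine isIrr_of_gen_norm_one (isGen_sub (isGen_add (isGen_of_isCharacter isCharacter_one)
      (isGen_of_isCharacter (isCharacter_of_isIrr hχ))) hθgen) ?_ ?_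
    · simp only [classInner_sub_left, classInner_sub_right, classInner_add_left,
        classInner_add_right, classInner_isIrr_self hχ, classInner_isIrr_self isIrrCharacter_one,
        classInner_isIrr_ne hχ isIrrCharacter_one hne,
        classInner_isIrr_ne isIrrCharacter_one hχ hne.symm,
        classInner_conj_symm θ (fun _ => (1 : ℂ)), classInner_conj_symm θ χ, hIθ, hI1, hIχ, map_one]
      norm_num
    · simp only [Pi.add_apply, Pi.sub_apply, hθone, hχ1, sub_zero, Complex.add_re, Complex.one_re,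
        Complex.natCast_re]
      positivity
  · simp only [Pi.add_apply, Pi.sub_apply, hθone, hχ1, sub_zero]
    ring
  · simp only [Pi.add_apply, Pi.sub_apply, hθx i hi, D.chi_x hχ hχ1 hi]
    ring
  · have hw : g₀ ^ j ≠ 1 := fun h => hj (orderOf_dvd_iff_pow_eq_one.2 (by
      have := congrArg Subtype.val h
      simpa [g₀] using this))
    have h1 := hval _ hw
    rw [hθ0, hθ0, show af (g₀ ^ j)⁻¹ = (af (g₀ ^ j))⁻¹ by simp [af],
      show af (g₀ ^ j) = ζ ^ j from hapow j, show ((g₀ ^ j : E) : G) = D.h ^ j by simp [g₀]] at h1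
    simp only [Pi.add_apply, Pi.sub_apply, h1, hχh j hj]
    ring

end Cfsg.Agent.Perm.UniqueP
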