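import Mathlib
import Cfsg.Agent.Lib.Blocks.PrimeBlock.LocalRealize
import Cfsg.Agent.Lib.Perm.UniqueP.Modular
import Cfsg.Agent.Lib.Perm.UniqueP.Realise
import Cfsg.Agent.Lib.Perm.UniqueP.Theta

/-!
A representation of dimension `p + 1` in characteristic `p` with a vector and a functional fixed
by `x` and of weight `n⁻¹` for `h`.
-/

set_option autoImplicit false
set_option linter.unusedSectionVars false
set_option linter.style.haveILetI false

namespace Cfsg.Agent.Perm.UniqueP

open Subgroup Cfsg.Agent.Characters Cfsg.Agent.Blocks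

universe u v

variable {G : Type u} [Group G] [Finite G] {α : Type v} [Fintype α] [MulAction G α]
  [FaithfulSMul G α] [MulAction.IsPretransitive G α] {p : ℕ} [hp : Fact p.Prime]

theorem sum_pow_eq_X_sub_one_pow {k A : Type*} [Field k] [CharP k p] [Ring A] [Algebra k A]
    (y : A) : ∑ i ∈ Finset.range p, y ^ i = (y - 1) ^ (p - 1) := by
  have h : ∑ i ∈ Finset.range p, (Polynomial.X : Polynomial k) ^ i =
      (Polynomial.X - 1) ^ (p - 1) := by
    have h1 : (Polynomial.X - 1 : Polynomial k) ≠ 0 := by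
      simpa using Polynomial.X_sub_C_ne_zero (R := k) 1
    refine mul_right_cancel₀ h1 ?_
    rw [geom_sum_mul, ← pow_succ, Nat.sub_add_cancel hp.out.one_le,
      sub_pow_char_of_commute p (Commute.one_right _), one_pow]
  have h2 := congrArg (Polynomial.aeval y) h
  simpa using h2

/-- A lattice vector, primitive, in the image of an eigen-projection. -/
theorem exists_primitive {R : Type*} [CommRing R] [IsDomain R] [IsPrincipalIdealRing R]
    [IsLocalRing R] {d : ℕ} (A B Q : Matrix (Fin d) (Fin d) R) (c : R) (hA : A * Q = Q)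
    (hB : B * Q = c • Q) (hQ : Q ≠ 0) :
    ∃ w : Fin d → R, (∃ i, IsUnit (w i)) ∧ A.mulVec w = w ∧ B.mulVec w = c • w := by
  classical
  obtain ⟨j, hj⟩ : ∃ j, (fun i => Q i j) ≠ 0 := by
    by_contra h
    push Not at h
    exact hQ (Matrix.ext fun i j => congrFun (h j) i)
  set col : Fin d → R := fun i => Q i j with hcol
  obtain ⟨g, hg⟩ := (inferInstance :
    (Ideal.span (Set.range col)).IsPrincipal).principal
  have hmem : ∀ i, col i ∈ Ideal.span (Set.range col) := fun i => Ideal.subset_span ⟨i, rfl⟩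
  simp only [hg, Submodule.mem_span_singleton, smul_eq_mul] at hmem
  choose w hw using hmem
  have hg0 : g ≠ 0 := by
    rintro rfl
    exact hj (funext fun i => by
      show col i = 0
      rw [← hw i, mul_zero])
  obtain ⟨r, hr⟩ := Ideal.mem_span_range_iff_exists_fun.1
    (hg ▸ Submodule.mem_span_singleton_self g : g ∈ Ideal.span (Set.range col))
  have hone : ∑ i, r i * w i = 1 := by
    refine mul_right_cancel₀ hg0 ?_
    rw [Finset.sum_mul, one_mul]
    exact (Finset.sum_congr rfl fun i _ => by rw [mul_assoc, hw]).trans hr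
  refine ⟨w, ?_, ?_, ?_⟩
  · by_contra hall
    push Not at hall
    have : (∑ i, r i * w i) ∈ IsLocalRing.maximalIdeal R := sum_mem fun i _ =>
      Ideal.mul_mem_left _ _ ((IsLocalRing.mem_maximalIdeal _).2 (hall i))
    rw [hone] at this
    exact (IsLocalRing.maximalIdeal.isMaximal R).ne_top ((Ideal.eq_top_iff_one _).2 this)
  all_goals funext i; refine mul_right_cancel₀ hg0 ?_
  · rw [Matrix.mulVec, dotProduct, Finset.sum_mul,
      Finset.sum_congr rfl fun l _ => by rw [mul_assoc, hw l], hw i]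
    exact (congrFun (congrFun hA i) j : _)
  · rw [Matrix.mulVec, dotProduct, Finset.sum_mul,
      Finset.sum_congr rfl fun l _ => by rw [mul_assoc, hw l], Pi.smul_apply, smul_eq_mul,
      mul_assoc, hw i]
    exact (congrFun (congrFun hB i) j : _)

theorem Data.commute_hpow_x (D : Data G α p) (j i : ℕ) :
    ∃ s : ℕ, D.x ^ i * D.h ^ j = D.h ^ j * D.x ^ s := by
  refine ⟨((i : ZMod p) / (D.n : ZMod p) ^ j).val, ?_⟩
  have h1 := D.hpow_conj_pow j ((i : ZMod p) / (D.n : ZMod p) ^ j).val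
  rw [mul_inv_eq_iff_eq_mul] at h1
  rw [h1]
  congr 1
  rw [D.x_pow_eq_iff, Nat.cast_mul, Nat.cast_pow, ZMod.natCast_zmod_val,
    mul_div_cancel₀ _ (pow_ne_zero _ D.n_ne_zero)]

/-- Elements fixed by `x` after summing the powers of `x`. -/
theorem Data.mul_sum_pow (D : Data G α p) {A : Type*} [Ring A] (V : G →* A) (s : ℕ) :
    V (D.x ^ s) * ∑ i ∈ Finset.range p, V (D.x ^ i) = ∑ i ∈ Finset.range p, V (D.x ^ i) := by
  have h1 : V D.x * ∑ i ∈ Finset.range p, V (D.x ^ i) = ∑ i ∈ Finset.range p, V (D.x ^ i) := by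
    rw [Finset.mul_sum]
    simp only [← map_mul, ← pow_succ']
    have h1 := Finset.sum_range_succ' (fun i => V (D.x ^ i)) p
    rw [Finset.sum_range_succ, D.x_pow_p, pow_zero] at h1
    exact (add_right_cancel h1).symm
  induction s with
  | zero => simp
  | succ s ih => rw [pow_succ, map_mul, mul_assoc, h1, ih]

set_option maxHeartbeats 1000000 in
/-- The modular representation with a split vector of weight `n⁻¹`. -/
theorem Data.exists_mod_rep (D : Data G α p) {χ : G → ℂ} (hχ : Cfsg.IsIrrCharacter G χ)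
    (hχ1 : χ 1 = p) (hχh : ∀ j : ℕ, ¬ orderOf D.h ∣ j → χ (D.h ^ j) = 1)
    (he : 3 ≤ orderOf D.h)
    (hNE : Nat.card (normalizer ((zpowers D.h : Subgroup G) : Set G)) = 2 * orderOf D.h)
    (hTI : ∀ g : G, g ∉ normalizer ((zpowers D.h : Subgroup G) : Set G) →
      zpowers D.h ⊓ (zpowers D.h).map (MulAut.conj g).toMonoidHom = ⊥)
    {t : G} (htN : t ∈ normalizer ((zpowers D.h : Subgroup G) : Set G)) (htE : t ∉ zpowers D.h)
    (ht : t * D.h * t⁻¹ = D.h⁻¹) :
    ∃ (k : Type) (_ : Field k) (_ : Fintype k) (_ : CharP k p)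
      (σ : Representation k G (Fin (p + 1) → k)) (v : Fin (p + 1) → k)
      (φ : (Fin (p + 1) → k) →ₗ[k] k),
      σ D.x v = v ∧ σ D.h v = (D.n : k)⁻¹ • v ∧ (∀ w, φ (σ D.x w) = φ w) ∧
      (∀ w, φ (σ D.h w) = (D.n : k)⁻¹ * φ w) ∧ φ v = 1 ∧
      ∀ j : ℕ, ¬ orderOf D.h ∣ j →
        LinearMap.trace k _ (σ (D.h ^ j)) = (D.n : k) ^ j + ((D.n : k) ^ j)⁻¹ := by
  classical
  haveI := Fintype.ofFinite G
  set e := orderOf D.h with he_def
  obtain ⟨M, hM⟩ := exists_modular hp.out
  set m := (D.P : Subgroup G).index with hm_def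
  have hm : ¬ p ∣ m := D.index_P_ndvd
  have hm0 : m ≠ 0 := Subgroup.index_ne_zero_of_finite
  obtain ⟨η, hη⟩ : ∃ η : ℂ, IsPrimitiveRoot η m := ⟨_, Complex.isPrimitiveRoot_exp m hm0⟩
  have hηi : IsIntegral ℤ η := hη.isIntegral (Nat.pos_of_ne_zero hm0)
  set R := cycLocal hM hηi with hR
  haveI : IsPrincipalIdealRing R :=
    isPrincipalIdealRing_localSub (exists_unif_unramified hM hm hη.pow_eq_one _)
  set k := IsLocalRing.ResidueField R with hk
  haveI : CharP k p := charP_residue hM hηi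
  haveI : Finite k := finite_residue hM hηi hm hη.pow_eq_one
  letI : Fintype k := Fintype.ofFinite k
  set res := IsLocalRing.residue R with hres
  have hpe : ¬ p ∣ e := fun h => by
    have := Nat.le_of_dvd (by omega) h
    have := Nat.le_of_dvd (by have := hp.out.two_le; omega) D.e_dvd
    omega
  have hek : (e : k) ≠ 0 := fun h => hpe ((CharP.cast_eq_zero_iff k p e).1 h)
  have hem : e ∣ m := by
    have hc : p * m = Nat.card G := by
      have h := (D.P : Subgroup G).card_mul_index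
      rwa [D.card_P] at h
    refine Nat.Coprime.dvd_of_dvd_mul_left ?_ (hc ▸ orderOf_dvd_natCard D.h : e ∣ p * m)
    exact Nat.coprime_comm.1 (hp.out.coprime_iff_not_dvd.2 hpe)
  -- roots of unity in `R`
  obtain ⟨m', hm'⟩ := hem
  let ω : R := ⟨η ^ m', mem_cycLocal hM hηi (pow_mem (self_mem_cycAlg η) _)⟩
  have hω : IsPrimitiveRoot (ω : ℂ) e :=
    hη.pow (Nat.pos_of_ne_zero hm0) (by rw [hm', mul_comm])
  have hωk : IsPrimitiveRoot (res ω) e := by
    refine IsPrimitiveRoot.mk_of_lt _ (by omega) ?_ fun l hl hle h1 => ?_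
    · rw [← map_pow, show ω ^ e = 1 from Subtype.ext (by
        rw [Subring.coe_pow, Subring.coe_one]; exact hω.pow_eq_one), map_one]
    · have hne : ω ^ l ≠ 1 := fun h => hω.pow_ne_one_of_pos_of_lt hl.ne' hle
        (by rw [← Subring.coe_pow, h, Subring.coe_one])
      have hg : ∑ i ∈ Finset.range e, (ω ^ l) ^ i = 0 := by
        refine (mul_eq_zero.1 (?_ : (∑ i ∈ Finset.range e, (ω ^ l) ^ i) * (ω ^ l - 1) = 0)).resolve_right
          (sub_ne_zero.2 hne)
        rw [geom_sum_mul, ← pow_mul, mul_comm, pow_mul, show ω ^ e = 1 from Subtype.ext (by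
          rw [Subring.coe_pow, Subring.coe_one]; exact hω.pow_eq_one), one_pow, sub_self]
      have := congrArg res hg
      rw [map_sum, map_zero] at this
      simp only [map_pow, h1, one_pow, Finset.sum_const, Finset.card_range, nsmul_one] at this
      exact hek this
  haveI : NeZero e := ⟨by omega⟩
  obtain ⟨l, -, hl⟩ := hωk.eq_pow_of_pow_eq_one (ξ := (D.n : k)) (by
    rw [← map_natCast (ZMod.castHom dvd_rfl k) D.n, ← map_pow, D.n_pow_eq_one_iff.2 dvd_rfl,
      map_one])
  obtain ⟨ζR, hζRdef⟩ : ∃ z : R, z = ω ^ l := ⟨_, rfl⟩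
  set ζ : ℂ := (ζR : ℂ) with hζdef
  have hζk : res ζR = (D.n : k) := by rw [hζRdef, map_pow]; exact hl
  have hnord : ∀ j : ℕ, (D.n : k) ^ j = 1 → e ∣ j := fun j hj => by
    refine D.n_pow_eq_one_iff.1 ((ZMod.castHom dvd_rfl k).injective ?_)
    rw [map_pow, map_natCast, hj, map_one]
  have hζ : IsPrimitiveRoot ζ e := by
    refine ⟨?_, fun j hj => hnord j ?_⟩
    · rw [hζdef, hζRdef, Subring.coe_pow, ← pow_mul, mul_comm, pow_mul, hω.pow_eq_one, one_pow]
    · have : ζR ^ j = 1 := Subtype.ext (by rw [Subring.coe_pow, Subring.coe_one]; exact hj)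
      rw [← hζk, ← map_pow, this, map_one]
  obtain ⟨ψ, hψ, hψ1, hψx, hψh⟩ := D.exceptional hχ hχ1 hχh he hNE hTI htN htE ht hζ
  obtain ⟨d, V, hV⟩ := PrimeBlock.exists_localRep_of_real hM hm hη hηi
    (D.real_exceptional he hψ hψ1 hψx hζ hψh hm_def hη)
  obtain rfl : d = p + 1 := by
    have h1 := hV 1
    rw [map_one, Matrix.trace_one, Fintype.card_fin, Subring.coe_natCast, hψ1] at h1
    exact_mod_cast h1
  -- inverse root
  obtain ⟨ζR', hζR⟩ : ∃ z : R, z * ζR = 1 := ⟨ζR ^ (e - 1), by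
    rw [← pow_succ, Nat.sub_add_cancel (by omega)]
    exact Subtype.ext (by rw [Subring.coe_pow, Subring.coe_one]; exact hζ.pow_eq_one)⟩
  have hζinv : ((ζR' : R) : ℂ) = ζ⁻¹ := by
    refine eq_inv_of_mul_eq_one_left ?_
    rw [hζdef, ← Subring.coe_mul, hζR, Subring.coe_one]
  -- the two eigenvectors
  set Sx := ∑ i ∈ Finset.range p, V (D.x ^ i) with hSx
  have hψconj : ∀ i j : ℕ, ¬ e ∣ j → ψ (D.h ^ j * D.x ^ i) = ζ ^ j + (ζ ^ j)⁻¹ := by
    intro i j hj
    obtain ⟨d, hd⟩ := D.exists_conj_row (D.n ^ j * i) j hj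
    rw [show D.h ^ j * D.x ^ i = D.x ^ (D.n ^ j * i) * D.h ^ j by
      rw [← D.hpow_conj_pow]; group, ← hd,
      char_isClassFunction (isCharacter_of_isIrr hψ), hψh j hj]
  have hvec : ∀ c c' : R, c' * c = 1 → ((c : ℂ) = ζ ∨ (c : ℂ) = ζ⁻¹) →
      ∃ w : Fin (p + 1) → R, (∃ i, IsUnit (w i)) ∧ (V D.x).mulVec w = w ∧
        (V D.h).mulVec w = c • w := by
    intro c c' hcc hc
    have hce : c ^ e = 1 := Subtype.ext (by
      rw [Subring.coe_pow, Subring.coe_one]
      rcases hc with h | h <;> rw [h]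
      · exact hζ.pow_eq_one
      · rw [inv_pow, hζ.pow_eq_one, inv_one])
    have hce' : c' ^ e = 1 := by
      have := congrArg (· ^ e) hcc
      simpa [mul_pow, hce] using this
    have hc' : (c' : ℂ) = (c : ℂ)⁻¹ := by
      refine eq_inv_of_mul_eq_one_left ?_
      rw [← Subring.coe_mul, hcc, Subring.coe_one]
    set Q := ∑ j ∈ Finset.range e, c' ^ j • (V (D.h ^ j) * Sx) with hQ
    refine exists_primitive _ _ Q c ?_ ?_ ?_
    · rw [hQ, Finset.mul_sum]
      refine Finset.sum_congr rfl fun j _ => ?_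
      obtain ⟨s, hs⟩ := D.commute_hpow_x j 1
      rw [pow_one] at hs
      rw [mul_smul_comm, ← mul_assoc, ← map_mul, hs, map_mul, mul_assoc, hSx, D.mul_sum_pow]
    · rw [hQ, Finset.mul_sum, Finset.smul_sum]
      let f : ℕ → Matrix (Fin (p + 1)) (Fin (p + 1)) R := fun j => (c' ^ j * c) • (V (D.h ^ j) * Sx)
      have hf : f e = f 0 := by
        simp only [f, hce', pow_zero, one_mul]
        rw [he_def, pow_orderOf_eq_one]
      have key : ∑ j ∈ Finset.range e, f (j + 1) = ∑ j ∈ Finset.range e, f j := by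
        have h1 := Finset.sum_range_succ f e
        rw [Finset.sum_range_succ', hf] at h1
        exact add_right_cancel h1
      calc ∑ j ∈ Finset.range e, V D.h * c' ^ j • (V (D.h ^ j) * Sx)
          = ∑ j ∈ Finset.range e, f (j + 1) := by
            refine Finset.sum_congr rfl fun j _ => ?_
            simp only [f, pow_succ c', mul_assoc, hcc, mul_one, mul_smul_comm]
            rw [← mul_assoc, ← map_mul, ← pow_succ']
        _ = _ := by
            rw [key]
            exact Finset.sum_congr rfl fun j _ => by simp only [f]; rw [smul_smul, mul_comm c]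
    · intro h0
      have htr := congrArg (fun A : Matrix (Fin (p + 1)) (Fin (p + 1)) R => ((A.trace : R) : ℂ)) h0
      simp only [hQ, hSx, Finset.mul_sum, Matrix.trace_sum, Matrix.trace_smul, ← map_mul,
        smul_eq_mul, Matrix.trace_zero, ZeroMemClass.coe_zero, AddSubmonoidClass.coe_finsetSum,
        Subring.coe_mul, Subring.coe_pow, hV, hc'] at htr
      have hterm : ∀ j ∈ Finset.range e, (c : ℂ)⁻¹ ^ j * ∑ i ∈ Finset.range p,
          ψ (D.h ^ j * D.x ^ i) = (p : ℂ) * ((c : ℂ)⁻¹ ^ j * (ζ ^ j + (ζ ^ j)⁻¹)) := by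
        intro j hj
        rw [Finset.mem_range] at hj
        rcases eq_or_ne j 0 with rfl | hj0
        · have hval : ∀ i ∈ Finset.range p, ψ (D.h ^ 0 * D.x ^ i) =
              1 + if i = 0 then (p : ℂ) else 0 := by
            intro i hi
            rw [pow_zero, one_mul]
            split_ifs with h
            · subst h; rw [pow_zero, hψ1, add_comm]
            · rw [hψx i fun hd => h (Nat.eq_zero_of_dvd_of_lt hd (Finset.mem_range.1 hi)),
                add_zero]
          rw [Finset.sum_congr rfl hval, Finset.sum_add_distrib, Finset.sum_ite_eq',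
            if_pos (Finset.mem_range.2 hp.out.pos), Finset.sum_const, Finset.card_range,
            nsmul_one]
          ring
        · have hj' : ¬ e ∣ j := fun h => hj0 (Nat.eq_zero_of_dvd_of_lt h hj)
          rw [Finset.sum_congr rfl fun i _ => hψconj i j hj', Finset.sum_const, Finset.card_range,
            nsmul_eq_mul]
          ring
      simp only [← Finset.mul_sum] at htr
      rw [Finset.sum_congr rfl hterm, ← Finset.mul_sum] at htr
      have hζ0 : ζ ≠ 0 := hζ.ne_zero (by omega)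
      have hgeo : ∀ z : ℂ, z ^ e = 1 → z ≠ 1 → ∑ j ∈ Finset.range e, z ^ j = 0 := fun z hz hz1 => by
        rw [geom_sum_eq hz1, hz, sub_self, zero_div]
      have h2 : ζ ^ 2 ≠ 1 := hζ.pow_ne_one_of_pos_of_lt two_ne_zero (by omega)
      have hval : ∑ j ∈ Finset.range e, (c : ℂ)⁻¹ ^ j * (ζ ^ j + (ζ ^ j)⁻¹) = (e : ℂ) := by
        rcases hc with h | h <;>
          simp only [h, inv_inv, mul_add, ← inv_pow, ← mul_pow, inv_mul_cancel₀ hζ0,
            mul_inv_cancel₀ hζ0, one_pow, Finset.sum_add_distrib, Finset.sum_const, Finset.card_range,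
            nsmul_one]
        · rw [hgeo (ζ⁻¹ * ζ⁻¹) (by rw [mul_pow, inv_pow, hζ.pow_eq_one, inv_one, one_mul])
            (by rw [← pow_two, inv_pow, Ne, inv_eq_one]; exact h2), add_zero]
        · rw [hgeo (ζ * ζ) (by rw [mul_pow, hζ.pow_eq_one, one_mul]) (by rw [← pow_two]; exact h2),
            zero_add]
      rw [hval] at htr
      exact mul_ne_zero (Nat.cast_ne_zero.2 hp.out.ne_zero)
        (Nat.cast_ne_zero.2 (by omega : e ≠ 0)) htr
  obtain ⟨w₁, ⟨i₁, hi₁⟩, hw₁x, hw₁h⟩ := hvec ζR ζR' hζR (Or.inl rfl)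
  obtain ⟨w₂, ⟨i₂, hi₂⟩, hw₂x, hw₂h⟩ := hvec ζR' ζR (by rw [mul_comm, hζR]) (Or.inr hζinv)
  -- reduction
  let ρ : Representation k G (Fin (p + 1) → k) :=
    ((Matrix.toLinAlgEquiv' (R := k) (n := Fin (p + 1))).toAlgHom.toRingHom.toMonoidHom).comp
      ((res.mapMatrix.toMonoidHom).comp V)
  have hρ : ∀ g w, ρ g w = ((V g).map res).mulVec w := fun g w => by
    simp [ρ, Matrix.toLinAlgEquiv'_apply]
  have hρres : ∀ g (w : Fin (p + 1) → R), ρ g (res ∘ w) = res ∘ (V g).mulVec w := fun g w => by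
    rw [hρ]
    funext i
    simp [Matrix.mulVec, dotProduct, map_sum]
  have htr : ∀ g, LinearMap.trace k _ (ρ g) = res (V g).trace := fun g => by
    rw [LinearMap.trace_eq_matrix_trace k (Pi.basisFun k (Fin (p + 1))),
      LinearMap.toMatrix_eq_toMatrix']
    rw [show ρ g = Matrix.toLin' ((V g).map res) from LinearMap.ext fun w => by
      rw [hρ, Matrix.toLin'_apply], LinearMap.toMatrix'_toLin']
    exact (AddMonoidHom.map_trace res.toAddMonoidHom _).symm
  have hρtr : ∀ j : ℕ, ¬ e ∣ j → LinearMap.trace k _ (ρ (D.h ^ j)) =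
      (D.n : k) ^ j + ((D.n : k) ^ j)⁻¹ := by
    intro j hj
    have h1 : (V (D.h ^ j)).trace = ζR ^ j + ζR' ^ j := Subtype.ext (by
      rw [hV, hψh j hj, Subring.coe_add, Subring.coe_pow, Subring.coe_pow, hζinv, inv_pow])
    have h2 : res ζR' = (D.n : k)⁻¹ := by
      refine eq_inv_of_mul_eq_one_left ?_
      rw [← hζk, ← map_mul, hζR, map_one]
    rw [htr, h1, map_add, map_pow, map_pow, hζk, h2, inv_pow]
  have hne : ∀ (w : Fin (p + 1) → R) (i : Fin (p + 1)), IsUnit (w i) → res ∘ w ≠ 0 := by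
    intro w i hi h0
    exact (hi.map res).ne_zero (congrFun h0 i)
  set u₁ := res ∘ w₁
  set u₂ := res ∘ w₂
  have hu₁x : ρ D.x u₁ = u₁ := by rw [hρres, hw₁x]
  have hu₂x : ρ D.x u₂ = u₂ := by rw [hρres, hw₂x]
  have hsmul : ∀ (c : R) (w : Fin (p + 1) → R), res ∘ (c • w) = res c • (res ∘ w) := fun c w => by
    funext i; simp
  have hn0 : (D.n : k) ≠ 0 := by
    rw [← map_natCast (ZMod.castHom dvd_rfl k), map_ne_zero]
    exact D.n_ne_zero
  have hu₁h : ρ D.h u₁ = (D.n : k) • u₁ := by rw [hρres, hw₁h, hsmul, hζk]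
  have hu₂h : ρ D.h u₂ = (D.n : k)⁻¹ • u₂ := by
    rw [hρres, hw₂h, hsmul]
    congr 1
    refine eq_inv_of_mul_eq_one_left ?_
    rw [← hζk, ← map_mul, hζR, map_one]
  haveI : CharP (Module.End k (Fin (p + 1) → k)) p :=
    charP_of_injective_algebraMap (FaithfulSMul.algebraMap_injective k _) p
  set X : Module.End k (Fin (p + 1) → k) := ρ D.x - 1 with hX
  have hXp : X ^ p = 0 := by
    rw [hX, sub_pow_char_of_commute p (Commute.one_right _), ← map_pow, D.x_pow_p, map_one, one_pow,
      sub_self]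
  have hind : LinearIndependent k ![u₁, u₂] := by
    rw [LinearIndependent.pair_iff]
    intro a b hab
    have h1 := congrArg (ρ D.h) hab
    rw [map_add, map_smul, map_smul, hu₁h, hu₂h, map_zero] at h1
    have hne2 : (D.n : k) - (D.n : k)⁻¹ ≠ 0 := by
      rw [sub_ne_zero]
      intro h
      have h' : (D.n : k) ^ 2 = 1 := by rw [pow_two]; nth_rw 1 [h]; exact inv_mul_cancel₀ hn0
      have := Nat.le_of_dvd two_pos (hnord 2 h')
      omega
    have h2 : (a * ((D.n : k) - (D.n : k)⁻¹)) • u₁ = 0 := by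
      have h3 : b • u₂ = -(a • u₁) := eq_neg_of_add_eq_zero_right hab
      rw [smul_comm b, h3, smul_neg] at h1
      calc (a * ((D.n : k) - (D.n : k)⁻¹)) • u₁
          = a • (D.n : k) • u₁ + -((D.n : k)⁻¹ • a • u₁) := by
            rw [mul_sub, sub_smul, smul_smul, smul_smul, mul_comm (D.n : k)⁻¹ a, sub_eq_add_neg]
        _ = 0 := h1
    have ha : a = 0 := by
      rcases smul_eq_zero.1 h2 with h | h
      · exact (mul_eq_zero.1 h).resolve_right hne2
      · exact absurd h (hne w₁ i₁ hi₁)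
    refine ⟨ha, ?_⟩
    rw [ha, zero_smul, zero_add] at hab
    exact (smul_eq_zero.1 hab).resolve_right (hne w₂ i₂ hi₂)
  -- one of them is outside the range of `X ^ (p - 1)`, hence of `X`
  have hsplit : ∀ (w : Fin (p + 1) → R), (V D.x).mulVec w = w →
      res ∘ w ∉ LinearMap.range (X ^ (p - 1)) → res ∘ w ∉ LinearMap.range X := by
    intro w hwx hnot
    rintro ⟨ū, hū⟩
    refine hnot ?_
    obtain ⟨u, hu⟩ : ∃ u : Fin (p + 1) → R, res ∘ u = ū :=
      ⟨fun i => (IsLocalRing.residue_surjective (ū i)).choose,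
        funext fun i => (IsLocalRing.residue_surjective (ū i)).choose_spec⟩
    have hz : ∀ i, ∃ z, (w - ((V D.x).mulVec u - u)) i = (p : R) * z := by
      intro i
      refine dvd_of_residue_eq_zero hM hηi hm hη.pow_eq_one ?_
      have h1 := congrFun hū i
      rw [← hu, hX, LinearMap.sub_apply, Module.End.one_apply, hρres] at h1
      simp only [Pi.sub_apply, Function.comp_apply] at h1
      rw [Pi.sub_apply, Pi.sub_apply, map_sub, map_sub, ← h1]
      ring
    choose z hz using hz
    have hwz : w = ((V D.x).mulVec u - u) + (p : R) • z := funext fun i => by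
      have := hz i
      simp only [Pi.sub_apply, Pi.add_apply, Pi.smul_apply, smul_eq_mul] at this ⊢
      linear_combination this
    have hwall : ∀ i : ℕ, (V (D.x ^ i)).mulVec w = w := by
      intro i
      induction i with
      | zero => simp
      | succ i ih => rw [pow_succ, map_mul, ← Matrix.mulVec_mulVec, hwx, ih]
    have hNw : Sx.mulVec w = (p : R) • w := by
      rw [hSx, Matrix.sum_mulVec, Finset.sum_congr rfl fun i _ => hwall i, Finset.sum_const,
        Finset.card_range, Nat.cast_smul_eq_nsmul]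
    have hNX : Sx.mulVec ((V D.x).mulVec u - u) = 0 := by
      rw [Matrix.mulVec_sub, Matrix.mulVec_mulVec, sub_eq_zero]
      congr 1
      rw [hSx, Finset.sum_mul]
      simp only [← map_mul, ← pow_succ]
      have h1 := Finset.sum_range_succ' (fun i => V (D.x ^ i)) p
      rw [Finset.sum_range_succ, D.x_pow_p, pow_zero] at h1
      exact (add_right_cancel h1).symm
    rw [hwz, Matrix.mulVec_add, hNX, zero_add, Matrix.mulVec_smul, ← hwz] at hNw
    have hpR : (p : R) ≠ 0 := fun h => Nat.cast_ne_zero.2 hp.out.ne_zero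
      (by simpa using congrArg Subtype.val h : (p : ℂ) = 0)
    refine ⟨res ∘ z, ?_⟩
    rw [← smul_right_injective _ hpR hNw, hX, ← sum_pow_eq_X_sub_one_pow (k := k),
      LinearMap.sum_apply, hSx, Matrix.sum_mulVec]
    funext i
    simp only [← map_pow, hρres, Finset.sum_apply, Function.comp_apply, map_sum]
  have hchoice : res ∘ w₁ ∉ LinearMap.range (X ^ (p - 1)) ∨
      res ∘ w₂ ∉ LinearMap.range (X ^ (p - 1)) := by
    by_contra h
    push Not at h
    obtain ⟨⟨a, ha⟩, b, hb⟩ := h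
    have := two_mul_le_finrank X hXp a b (by rw [ha, hb]; exact hind)
    rw [Module.finrank_fintype_fun_eq_card, Fintype.card_fin] at this
    have := hp.out.two_le
    omega
  have hfun : ∀ (c : k) (u : Fin (p + 1) → k), c ≠ 0 → c ^ e = 1 → ρ D.h u = c • u →
      u ∉ LinearMap.range X →
      ∃ φ : (Fin (p + 1) → k) →ₗ[k] k, (∀ w, φ (ρ D.x w) = φ w) ∧
        (∀ w, φ (ρ D.h w) = c * φ w) ∧ φ u = 1 := by
    intro c u hc0 hce huh hu
    obtain ⟨f, hfu, hf⟩ := Submodule.exists_dual_map_eq_bot_of_notMem hu inferInstance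
    have hfX : ∀ w, f (X w) = 0 := fun w => (Submodule.eq_bot_iff _).1 hf _ ⟨X w, ⟨w, rfl⟩, rfl⟩
    set φ₀ := (f u)⁻¹ • f with hφ₀
    have hφ₀x : ∀ (s : ℕ) w, φ₀ (ρ (D.x ^ s) w) = φ₀ w := by
      intro s
      induction s with
      | zero => simp
      | succ s ih =>
        intro w
        rw [pow_succ, map_mul, Module.End.mul_apply, ih]
        have := hfX w
        rw [hX, LinearMap.sub_apply, Module.End.one_apply, map_sub, sub_eq_zero] at this
        simp [hφ₀, this]
    let φ : (Fin (p + 1) → k) →ₗ[k] k :=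
      (e : k)⁻¹ • ∑ j ∈ Finset.range e, c⁻¹ ^ j • (φ₀.comp (ρ (D.h ^ j)))
    have hφ : ∀ w, φ w = (e : k)⁻¹ * ∑ j ∈ Finset.range e, c⁻¹ ^ j * φ₀ (ρ (D.h ^ j) w) := fun w => by
      simp [φ, LinearMap.sum_apply]
    refine ⟨φ, fun w => ?_, fun w => ?_, ?_⟩
    · rw [hφ, hφ]
      congr 1
      refine Finset.sum_congr rfl fun j _ => congrArg _ ?_
      have h1 := D.hpow_conj_pow j 1
      rw [pow_one, mul_one, mul_inv_eq_iff_eq_mul] at h1
      rw [← Module.End.mul_apply, ← map_mul, h1, map_mul, Module.End.mul_apply, hφ₀x]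
    · rw [hφ, hφ, mul_left_comm]
      congr 1
      rw [Finset.mul_sum]
      let g : ℕ → k := fun j => c * (c⁻¹ ^ j * φ₀ (ρ (D.h ^ j) w))
      have hg : g e = g 0 := by
        simp only [g, he_def ▸ pow_orderOf_eq_one D.h, pow_zero, inv_pow, hce, inv_one]
      have key : ∑ j ∈ Finset.range e, g (j + 1) = ∑ j ∈ Finset.range e, g j := by
        have h1 := Finset.sum_range_succ g e
        rw [Finset.sum_range_succ', hg] at h1
        exact add_right_cancel h1
      refine Eq.trans ?_ key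
      refine Finset.sum_congr rfl fun j _ => ?_
      rw [← Module.End.mul_apply, ← map_mul, ← pow_succ]
      simp only [g, pow_succ c⁻¹]
      rw [mul_comm (c⁻¹ ^ j) c⁻¹, mul_assoc, mul_inv_cancel_left₀ hc0]
    · rw [hφ]
      have hj : ∀ j : ℕ, φ₀ (ρ (D.h ^ j) u) = c ^ j := by
        intro j
        have : ρ (D.h ^ j) u = c ^ j • u := by rw [map_pow]; exact pow_apply_eigen huh j
        rw [this, map_smul, smul_eq_mul, hφ₀, LinearMap.smul_apply, smul_eq_mul,
          inv_mul_cancel₀ hfu, mul_one]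
      simp only [hj, ← mul_pow, inv_mul_cancel₀ hc0, one_pow, Finset.sum_const, Finset.card_range,
        nsmul_one]
      exact inv_mul_cancel₀ hek
  have hne' : (D.n : k) ^ e = 1 := by
    rw [← map_natCast (ZMod.castHom dvd_rfl k) D.n, ← map_pow, D.n_pow_eq_one_iff.2 dvd_rfl, map_one]
  rcases hchoice with hch | hch
  swap
  · obtain ⟨φ, hφx, hφh, hφu⟩ := hfun _ u₂ (inv_ne_zero hn0) (by rw [inv_pow, hne', inv_one]) hu₂h
      (hsplit w₂ hw₂x hch)
    exact ⟨k, inferInstance, inferInstance, inferInstance, ρ, u₂, φ, hu₂x, hu₂h, hφx, hφh, hφu,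
      hρtr⟩
  -- dualise
  obtain ⟨φ, hφx, hφh, hφu⟩ := hfun _ u₁ hn0 hne' hu₁h (hsplit w₁ hw₁x hch)
  let A : G → Matrix (Fin (p + 1)) (Fin (p + 1)) k := fun g => (V g⁻¹).map res
  let σ : Representation k G (Fin (p + 1) → k) :=
    { toFun := fun g => Matrix.toLin' (A g).transpose
      map_one' := by simp [A, Matrix.map_one, Module.End.one_eq_id]
      map_mul' := fun g g' => by
        simp [A, Matrix.map_mul, Matrix.transpose_mul, Matrix.toLin'_mul, Module.End.mul_eq_comp] }
  have hσ : ∀ g w, σ g w = (A g).transpose.mulVec w := fun g w => Matrix.toLin'_apply _ _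
  let v' : Fin (p + 1) → k := fun i => φ (Pi.single i 1)
  have hv' : ∀ w, φ w = dotProduct v' w := fun w => by
    conv_lhs => rw [pi_eq_sum_univ' w]
    simp [v', dotProduct, map_sum, map_smul, mul_comm]
  let φ' : (Fin (p + 1) → k) →ₗ[k] k :=
    { toFun := fun w => dotProduct w u₁
      map_add' := fun a b => add_dotProduct a b u₁
      map_smul' := fun c a => smul_dotProduct c a u₁ }
  have hpair : ∀ g w w', dotProduct (σ g w) w' = dotProduct w (ρ g⁻¹ w') := by
    intro g w w'
    rw [hσ, hρ, Matrix.mulVec_transpose, Matrix.dotProduct_mulVec]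
  have hinv : ∀ (g : G) (c : k), c ≠ 0 → (∀ w, φ (ρ g w) = c * φ w) →
      σ g v' = c⁻¹ • v' := by
    intro g c hc hg
    refine dotProduct_eq_iff.1 fun w => ?_
    rw [hpair, ← hv', smul_dotProduct, ← hv', smul_eq_mul]
    have := hg (ρ g⁻¹ w)
    rw [← Module.End.mul_apply, ← map_mul, mul_inv_cancel, map_one, Module.End.one_apply] at this
    rw [this, inv_mul_cancel_left₀ hc]
  refine ⟨k, inferInstance, inferInstance, inferInstance, σ, v', φ', ?_, hinv _ _ hn0 hφh,
    fun w => ?_, fun w => ?_, ?_, fun j hj => ?_⟩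
  · simpa using hinv D.x 1 one_ne_zero (fun w => by rw [hφx, one_mul])
  · show dotProduct (σ D.x w) u₁ = dotProduct w u₁
    rw [hpair]
    congr 1
    conv_lhs => rw [← hu₁x, ← Module.End.mul_apply, ← map_mul, inv_mul_cancel, map_one,
      Module.End.one_apply]
  · show dotProduct (σ D.h w) u₁ = _ * dotProduct w u₁
    rw [hpair]
    have : ρ D.h⁻¹ u₁ = (D.n : k)⁻¹ • u₁ := by
      have h1 := congrArg (ρ D.h⁻¹) hu₁h
      rw [← Module.End.mul_apply, ← map_mul, inv_mul_cancel, map_one, Module.End.one_apply,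
        map_smul] at h1
      conv_rhs => rw [h1, smul_smul, inv_mul_cancel₀ hn0, one_smul]
    rw [this, dotProduct_smul, smul_eq_mul]
  · show dotProduct v' u₁ = 1
    rw [← hv', hφu]
  · have hj' : ¬ e ∣ j * (e - 1) := fun h => hj ((Nat.Coprime.dvd_of_dvd_mul_right
      (by
        have h1 : Nat.Coprime (e - 1 + 1) (e - 1) := by simp
        rwa [Nat.sub_add_cancel (by omega : 1 ≤ e)] at h1) h))
    have hinvpow : (D.h ^ j)⁻¹ = D.h ^ (j * (e - 1)) := by
      refine inv_eq_of_mul_eq_one_right ?_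
      rw [← pow_add, show j + j * (e - 1) = e * j by
        obtain ⟨e', he'⟩ : ∃ e', e = e' + 1 := ⟨e - 1, by omega⟩
        rw [he', Nat.add_sub_cancel]; ring, pow_mul, he_def, pow_orderOf_eq_one, one_pow]
    have hpinv : (D.n : k) ^ (j * (e - 1)) = ((D.n : k) ^ j)⁻¹ := by
      refine eq_inv_of_mul_eq_one_left ?_
      rw [← pow_add, show j * (e - 1) + j = e * j by
        obtain ⟨e', he'⟩ : ∃ e', e = e' + 1 := ⟨e - 1, by omega⟩
        rw [he', Nat.add_sub_cancel]; ring, pow_mul, hne', one_pow]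
    show LinearMap.trace k _ (Matrix.toLin' (A (D.h ^ j)).transpose) = _
    rw [LinearMap.trace_eq_matrix_trace k (Pi.basisFun k (Fin (p + 1))),
      LinearMap.toMatrix_eq_toMatrix', LinearMap.toMatrix'_toLin', Matrix.trace_transpose]
    have h1 := hρtr (j * (e - 1)) hj'
    rw [htr, hpinv, inv_inv, ← hinvpow] at h1
    rw [show (A (D.h ^ j)).trace = res (V (D.h ^ j)⁻¹).trace from
      (AddMonoidHom.map_trace res.toAddMonoidHom _).symm, h1, add_comm]

end Cfsg.Agent.Perm.UniqueP
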