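import Mathlib
import Cfsg.Agent.S0253
import Cfsg.Agent.S0298
import Cfsg.Agent.S0799
import Cfsg.Agent.S0806
import Cfsg.Agent.S3280
import Cfsg.Agent.Lib.Forms.DicksonCor
import Cfsg.Agent.Lib.Perm.UniqueP.Inversion
import Cfsg.Agent.Lib.Perm.UniqueP.Reduce
import Cfsg.Agent.Lib.Perm.UniqueP.Heart

/-!
Transitive groups of prime degree with a single character of degree `p` and a trivial intersection
complement of index two in its normalizer: `PSL(2,5)`, `PSL(2,7)` and `PSL(2,11)`.
-/

set_option autoImplicit false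
set_option linter.unusedSectionVars false
set_option linter.style.haveILetI false

namespace Cfsg.Agent.Perm.UniqueP

open Subgroup

universe u

variable {α : Type u} [Fintype α] [DecidableEq α] {p : ℕ} [hp : Fact p.Prime]
  {G : Subgroup (Equiv.Perm α)} [MulAction.IsPretransitive G α]

/-- The conclusion. -/
abbrev Concl (p : ℕ) (G : Type*) [Group G] : Prop :=
  (p = 5 ∨ p = 7 ∨ p = 11) ∧ ∃ (F : Type) (_ : Field F) (_ : Fintype F), Fintype.card F = p ∧
    Nonempty (G ≃* Matrix.ProjectiveSpecialLinearGroup (Fin 2) F)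

theorem Data.card_normalizer (D : Data G α p) :
    Nat.card (normalizer ((D.P : Subgroup G) : Set G)) = p * orderOf D.h := by
  classical
  haveI := Fintype.ofFinite (normalizer ((D.P : Subgroup G) : Set G))
  have h1 := D.sum_normalizer (fun _ => (1 : ℕ)) (fun _ => rfl)
  simp only [Finset.sum_const, Finset.card_univ, Finset.card_range, smul_eq_mul, mul_one,
    Nat.card_Ico, Fintype.card_eq_nat_card] at h1
  rw [h1]
  obtain ⟨e', he'⟩ : ∃ e', orderOf D.h = e' + 1 :=
    ⟨orderOf D.h - 1, by have := orderOf_pos D.h; omega⟩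
  rw [he', Nat.add_sub_cancel]
  ring

theorem card_dvd_factorial (hα : Fintype.card α = p) : Nat.card G ∣ p.factorial := by
  have := Subgroup.card_subgroup_dvd_card G
  rwa [Nat.card_perm, Nat.card_eq_fintype_card (α := α), hα] at this

theorem index_stabilizer (hα : Fintype.card α = p) (a : α) :
    (MulAction.stabilizer G a).index = p := by
  rw [MulAction.index_stabilizer_of_transitive, Nat.card_eq_fintype_card, hα]

theorem dvd_card (hα : Fintype.card α = p) (a : α) : p ∣ Nat.card G :=
  index_stabilizer (G := G) hα a ▸ Subgroup.index_dvd_card _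

theorem concl_of_five (hp5 : p = 5) (e : G ≃* alternatingGroup (Fin 5)) : Concl p G := by
  haveI : Fact (Nat.Prime 5) := ⟨by norm_num⟩
  obtain ⟨f⟩ := S0253.result (F := ZMod 5) (ZMod.card 5)
  exact ⟨Or.inl hp5, ZMod 5, inferInstance, inferInstance, by rw [ZMod.card, hp5],
    ⟨e.trans f.symm⟩⟩

theorem card_alternating (n : ℕ) (hn : 2 ≤ n) :
    2 * Nat.card (alternatingGroup (Fin n)) = n.factorial := by
  haveI : Nontrivial (Fin n) := Fin.nontrivial_iff_two_le.2 hn
  rw [two_mul_nat_card_alternatingGroup, Nat.card_perm, Nat.card_fin]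

/-- The complement of order two. -/
theorem Data.concl_of_two (D : Data G α p) (hα : Fintype.card α = p) [IsSimpleGroup G]
    (hG : ¬ IsMulCommutative G) (he : orderOf D.h = 2)
    (hNE : Nat.card (normalizer ((zpowers D.h : Subgroup G) : Set G)) = 2 * orderOf D.h) :
    Concl p G := by
  classical
  have hcyc : ¬ IsCyclic G := fun h => hG (IsCyclic.isMulCommutative)
  have hC : centralizer ({D.h} : Set G) ≤ normalizer ((zpowers D.h : Subgroup G) : Set G) := by
    intro g hg
    rw [mem_centralizer_singleton_iff] at hg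
    rw [Subgroup.mem_normalizer_iff]
    intro w
    have hc : ∀ l : ℤ, g * D.h ^ l * g⁻¹ = D.h ^ l := fun l => by
      rw [(Commute.zpow_right (show Commute g D.h from hg) l).eq, mul_inv_cancel_right]
    constructor
    · intro hw
      obtain ⟨l, rfl⟩ := mem_zpowers_iff.1 hw
      rw [hc]
      exact zpow_mem (mem_zpowers _) l
    · intro hw
      obtain ⟨l, hl⟩ := mem_zpowers_iff.1 hw
      have hw' : w = D.h ^ l := by
        calc w = g⁻¹ * (g * w * g⁻¹) * g := by group
          _ = g⁻¹ * (g * D.h ^ l * g⁻¹) * g := by rw [hc, hl]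
          _ = D.h ^ l := by group
      rw [hw']
      exact zpow_mem (mem_zpowers _) l
  have h4 : Nat.card (centralizer ({D.h} : Set G)) ≤ 4 := by
    have := Nat.le_of_dvd Nat.card_pos (Subgroup.card_dvd_of_le hC)
    rw [hNE, he] at this
    omega
  have hfac := card_dvd_factorial (G := G) hα
  have hpd := dvd_card (G := G) hα (D.coord 0)
  have hsyl : Nat.card G / (p * 2) % p = 1 := by
    have hmul := (normalizer ((D.P : Subgroup G) : Set G)).card_mul_index
    rw [D.card_normalizer, he] at hmul
    have hmod := card_sylow_modEq_one p G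
    rw [D.P.card_eq_index_normalizer] at hmod
    rw [← hmul, Nat.mul_div_cancel_left _ (Nat.mul_pos hp.out.pos two_pos)]
    rw [Nat.ModEq, Nat.one_mod_eq_one.2 hp.out.ne_one] at hmod
    exact hmod
  rcases S3280.result hcyc D.h h4 with h | h | h | ⟨F, hF, hF', hcardF, he'⟩
  · obtain ⟨e⟩ := h
    have hc : Nat.card G = 60 := by
      have := card_alternating 5 (by norm_num)
      rw [← Nat.card_congr e.toEquiv] at this
      simp only [Nat.factorial] at this
      omega
    refine concl_of_five ?_ e
    rw [hc] at hfac hpd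
    have := Nat.le_of_dvd (by norm_num) hpd
    have hle : 4 < p := by
      by_contra hlt
      have : p = 0 ∨ p = 1 ∨ p = 2 ∨ p = 3 ∨ p = 4 := by omega
      rcases this with rfl | rfl | rfl | rfl | rfl <;> norm_num [Nat.factorial] at hfac
    have hle' : p ≤ 5 := by
      have h60 : p ∣ 2 ^ 2 * 3 * 5 := by norm_num; exact hpd
      rcases (Nat.Prime.dvd_mul hp.out).1 h60 with h | h
      · rcases (Nat.Prime.dvd_mul hp.out).1 h with h | h
        · have := Nat.le_of_dvd two_pos (hp.out.dvd_of_dvd_pow h); omega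
        · have := Nat.le_of_dvd (by norm_num) h; omega
      · exact Nat.le_of_dvd (by norm_num) h
    omega
  · exfalso
    obtain ⟨e⟩ := h
    have hc : Nat.card G = 360 := by
      have := card_alternating 6 (by norm_num)
      rw [← Nat.card_congr e.toEquiv] at this
      simp only [Nat.factorial] at this
      omega
    rw [hc] at hfac hpd
    have h360 : p ∣ 2 ^ 3 * 3 ^ 2 * 5 := by norm_num; exact hpd
    have hle' : p ≤ 5 := by
      rcases (Nat.Prime.dvd_mul hp.out).1 h360 with h | h
      · rcases (Nat.Prime.dvd_mul hp.out).1 h with h | h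
        · have := Nat.le_of_dvd two_pos (hp.out.dvd_of_dvd_pow h); omega
        · have := Nat.le_of_dvd (by norm_num) (hp.out.dvd_of_dvd_pow h); omega
      · exact Nat.le_of_dvd (by norm_num) h
    interval_cases p <;> norm_num [Nat.factorial] at hfac
  · exfalso
    obtain ⟨e⟩ := h
    have hc : Nat.card G = 2520 := by
      have := card_alternating 7 (by norm_num)
      rw [← Nat.card_congr e.toEquiv] at this
      simp only [Nat.factorial] at this
      omega
    rw [hc] at hfac hpd hsyl
    have h2520 : p ∣ 2 ^ 3 * 3 ^ 2 * 5 * 7 := by norm_num; exact hpd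
    have hle' : p ≤ 7 := by
      rcases (Nat.Prime.dvd_mul hp.out).1 h2520 with h | h
      · rcases (Nat.Prime.dvd_mul hp.out).1 h with h | h
        · rcases (Nat.Prime.dvd_mul hp.out).1 h with h | h
          · have := Nat.le_of_dvd two_pos (hp.out.dvd_of_dvd_pow h); omega
          · have := Nat.le_of_dvd (by norm_num) (hp.out.dvd_of_dvd_pow h); omega
        · have := Nat.le_of_dvd (by norm_num) h; omega
      · exact Nat.le_of_dvd (by norm_num) h
    interval_cases p <;> first | (norm_num [Nat.factorial] at hfac; done) | norm_num at hsyl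
  · exfalso
    have hc : Nat.card G = 168 := by
      have h1 := Forms.DicksonCor.gcd_mul_natCard (F := F)
      obtain ⟨e⟩ := he'
      rw [← Nat.card_congr e.toEquiv, hcardF, show Nat.gcd 2 (7 - 1) = 2 from rfl] at h1
      omega
    rw [hc] at hfac hpd hsyl
    have h168 : p ∣ 2 ^ 3 * 3 * 7 := by norm_num; exact hpd
    have hle' : p ≤ 7 := by
      rcases (Nat.Prime.dvd_mul hp.out).1 h168 with h | h
      · rcases (Nat.Prime.dvd_mul hp.out).1 h with h | h
        · have := Nat.le_of_dvd two_pos (hp.out.dvd_of_dvd_pow h); omega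
        · have := Nat.le_of_dvd (by norm_num) h; omega
      · exact Nat.le_of_dvd (by norm_num) h
    interval_cases p <;> first | (norm_num [Nat.factorial] at hfac; done) | norm_num at hsyl

/-- An even permutation of five letters killed by `4` is killed by `2`. -/
theorem sq_eq_one_of_even_five :
    ∀ σ : Equiv.Perm (Fin 5), Equiv.Perm.sign σ = 1 → σ ^ 4 = 1 → σ ^ 2 = 1 := by
  decide +kernel

/-- A perfect group is not `PGL(2,K)` for odd `|K|`. -/
theorem false_of_pgl {G : Type*} [Group G] (hperf : commutator G = ⊤) (K : Type) [Field K]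
    [Fintype K] (hK : ringChar K ≠ 2) (e : G ≃* Matrix.ProjGenLinGroup (Fin 2) K) : False := by
  classical
  let f : Matrix.GeneralLinearGroup (Fin 2) K →* Kˣ ⧸ (powMonoidHom 2 : Kˣ →* Kˣ).range :=
    (QuotientGroup.mk' _).comp Matrix.GeneralLinearGroup.det
  have hf : f.comp (Matrix.GeneralLinearGroup.scalar (Fin 2)) = 1 := by
    refine MonoidHom.ext fun u => ?_
    rw [MonoidHom.comp_apply, MonoidHom.one_apply]
    refine (QuotientGroup.eq_one_iff _).2 ⟨u, Units.ext ?_⟩
    simp [pow_two]
  let g := (Matrix.ProjGenLinGroup.lift f hf).comp e.toMonoidHom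
  have hg : g = 1 := Classical.OrthIso.hom_eq_one_of_perfect hperf (fun a b => mul_comm a b) g
  obtain ⟨a, ha⟩ := FiniteField.exists_nonsquare hK
  have ha0 : a ≠ 0 := fun h => ha (h ▸ IsSquare.zero)
  let A : Matrix.GeneralLinearGroup (Fin 2) K := Matrix.GeneralLinearGroup.mkOfDetNeZero
    (Matrix.diagonal ![a, 1]) (by simp [Matrix.det_diagonal, Fin.prod_univ_two, ha0])
  have h1 := DFunLike.congr_fun hg (e.symm (Matrix.ProjGenLinGroup.mk A))
  simp only [g, MonoidHom.comp_apply, MulEquiv.coe_toMonoidHom, MulEquiv.apply_symm_apply,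
    Matrix.ProjGenLinGroup.lift_mk, MonoidHom.one_apply] at h1
  obtain ⟨b, hb⟩ := (QuotientGroup.eq_one_iff _).1 h1
  refine ha ⟨(b : K), ?_⟩
  have h2 := congrArg Units.val hb
  simp [A, Matrix.GeneralLinearGroup.mkOfDetNeZero, Matrix.det_diagonal, Fin.prod_univ_two,
    pow_two] at h2
  exact h2.symm

set_option maxHeartbeats 1000000 in
/-- The main theorem. -/
theorem main (hα : Fintype.card α = p)
    (huniq : ∃! χ : Cfsg.IrrCharacter G, Cfsg.charDegree (χ : G → ℂ) = p) (P : Sylow p G)
    (E : Subgroup G)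
    (hPE : (P : Subgroup G) ⊔ E = normalizer ((P : Subgroup G) : Set G))
    (hPE' : (P : Subgroup G) ⊓ E = ⊥)
    (hNE : Nat.card (normalizer (E : Set G)) = 2 * Nat.card E)
    (hTI : ∀ g : G, g ∉ normalizer (E : Set G) → E ⊓ E.map (MulAut.conj g).toMonoidHom = ⊥) :
    Concl p G := by
  classical
  obtain ⟨D, -, hE⟩ := exists_data hα G P E hPE hPE'
  rw [← hE, Nat.card_zpowers] at hNE
  rw [← hE] at hTI
  obtain ⟨χ, hχd, hχu⟩ := huniq
  have hdeg : ∀ ψ : G → ℂ, Cfsg.IsIrrCharacter G ψ → (Cfsg.charDegree ψ = p ↔ ψ 1 = p) := by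
    intro ψ hψ
    obtain ⟨n, -, hn⟩ := Characters.irr_one_pos hψ
    rw [Cfsg.charDegree, hn, Complex.natCast_re, Nat.floor_natCast, Nat.cast_inj]
  have hχ1 : (χ : G → ℂ) 1 = p := (hdeg _ χ.2).1 hχd
  have huniq' : ∀ ψ : G → ℂ, Cfsg.IsIrrCharacter G ψ → ψ 1 = p → ψ = (χ : G → ℂ) :=
    fun ψ hψ h1 => congrArg Subtype.val (hχu ⟨ψ, hψ⟩ ((hdeg ψ hψ).2 h1))
  have hperf := D.perfect hα χ.2 hχ1 huniq'
  haveI := D.isSimpleGroup hα χ.2 hχ1 huniq'
  have hG := Data.not_isMulCommutative χ.2 hχ1
  have hna : ∃ a b : G, a * b ≠ b * a := by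
    by_contra h
    push Not at h
    exact hG ⟨⟨h⟩⟩
  rcases (D.two_le_e hα χ.2 hχ1).eq_or_lt with he | he
  · exact D.concl_of_two hα hG he.symm hNE
  have he3 : 3 ≤ orderOf D.h := he
  have hp5 : p ≠ 5 := by
    intro h5
    subst h5
    have h4 : orderOf D.h = 4 := by
      have h1 := D.e_dvd
      have := Nat.le_of_dvd (by norm_num) h1
      interval_cases h : orderOf D.h <;> simp_all
    let q : Equiv.Perm (Fin 5) := (Fintype.equivFinOfCardEq hα).permCongrHom (D.h : Equiv.Perm α)
    have hs : Equiv.Perm.sign q = 1 := by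
      show Equiv.Perm.sign ((Fintype.equivFinOfCardEq hα).permCongr (D.h : Equiv.Perm α)) = 1
      rw [Equiv.Perm.sign_permCongr]
      exact DFunLike.congr_fun (Classical.OrthIso.hom_eq_one_of_perfect hperf (fun a b => mul_comm a b)
        (Equiv.Perm.sign.comp G.subtype)) D.h
    have hq4 : q ^ 4 = 1 := by
      rw [← map_pow, ← Subgroup.coe_pow, ← h4, pow_orderOf_eq_one, Subgroup.coe_one, map_one]
    have h2 := sq_eq_one_of_even_five q hs hq4
    rw [← map_pow, map_eq_one_iff _ (MulEquiv.injective _), ← Subgroup.coe_pow,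
      OneMemClass.coe_eq_one, ← orderOf_dvd_iff_pow_eq_one, h4] at h2
    norm_num at h2
  have hp7 : 7 ≤ p := by
    have h1 := Nat.le_of_dvd (by have := hp.out.two_le; omega) D.e_dvd
    by_contra h7
    have : p = 4 ∨ p = 6 := by omega
    rcases this with h | h <;> · have := hp.out; rw [h] at this; norm_num at this
  obtain ⟨t, htN, htE, htinv⟩ := exists_inverting hG hperf D.h hNE hTI
  obtain ⟨k, _, _, _, σ, v, φ, hvx, hvh, hφx, hφh, hφv, htr⟩ :=
    D.exists_mod_rep χ.2 hχ1 (fun j hj => D.chi_h hα χ.2 hχ1 huniq' hj) he3 hNE hTI htN htE htinv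
  obtain ⟨s, hs⟩ : ∃ s : G, orderOf s = 2 := by
    haveI : Fact (Nat.Prime 2) := ⟨Nat.prime_two⟩
    refine exists_prime_orderOf_dvd_card' 2 ?_
    exact (Dvd.intro _ hNE.symm).trans (Subgroup.card_subgroup_dvd_card _)
  obtain ⟨f, hf⟩ := D.exists_hom_isometry hα hp7 he3 hperf hna s hs σ v φ hvx hvh hφx hφh hφv htr
  -- into `PSL(2,k)`
  have hkodd : Odd (Fintype.card k) := by
    obtain ⟨n, -, hn⟩ := FiniteField.card k p
    rw [hn]
    exact (hp.out.odd_of_ne_two (by omega)).pow
  obtain ⟨i₀⟩ := S0298.result (F := k) hkodd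
  let Q := Cfsg.quadFormOdd 1 k
  have hfO : ∀ g, f g ∈ Cfsg.Omega k Q := fun g =>
    (QuotientGroup.eq_one_iff _).1 (DFunLike.congr_fun (Classical.OrthIso.hom_eq_one_of_perfect hperf
      (fun a b => mul_comm a b) ((Abelianization.of).comp f)) g)
  let f₁ : G →* Cfsg.Omega k Q := f.codRestrict _ hfO
  let f₂ : G →* Cfsg.POmega k Q :=
    (QuotientGroup.mk' (Subgroup.center (Cfsg.Omega k Q))).comp f₁
  have hf₂ : Function.Injective f₂ := by
    rw [← MonoidHom.ker_eq_bot_iff]
    refine (inferInstance : (MonoidHom.ker f₂).Normal).eq_bot_or_eq_top.resolve_right fun htop => ?_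
    have hmem : ∀ g, f₁ g ∈ Subgroup.center (Cfsg.Omega k Q) := fun g =>
      (QuotientGroup.eq_one_iff _).1 (MonoidHom.mem_ker.1 (htop ▸ Subgroup.mem_top g))
    have h1 := Classical.OrthIso.hom_eq_one_of_perfect hperf
      (fun a b => Subtype.ext (Subgroup.mem_center_iff.1 b.2 a.1)) (f₁.codRestrict _ hmem)
    have h2 : f₁ s = 1 := congrArg Subtype.val (DFunLike.congr_fun h1 s)
    have h3 : f s = f 1 := by
      rw [map_one]
      exact congrArg Subtype.val h2
    rw [hf h3, orderOf_one] at hs
    omega
  let ι := i₀.toMonoidHom.comp f₂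
  have hι : Function.Injective ι := i₀.injective.comp hf₂
  let eH : G ≃* ι.range := MonoidHom.ofInjective hι
  have hpd := dvd_card (G := G) hα (D.coord 0)
  rcases S0799.result (F := k) rfl p ι.range with
    ⟨l, -, ⟨hc, -⟩ | hd⟩ | ⟨S, K, hK, heK⟩ | h4 | h4 | h5 |
      ⟨K, _, _, m, hcK, hK⟩
  · -- cyclic
    haveI : IsCyclic G := isCyclic_of_surjective eH.symm eH.symm.surjective
    exact absurd IsCyclic.isMulCommutative hG
  · -- dihedral
    exfalso
    obtain ⟨ed⟩ := hd
    let c : DihedralGroup l →* Multiplicative (ZMod 2) :=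
      { toFun := fun x => match x with
          | .r _ => 1
          | .sr _ => Multiplicative.ofAdd 1
        map_one' := rfl
        map_mul' := by
          rintro (a | a) (b | b) <;>
            simp only [DihedralGroup.r_mul_r, DihedralGroup.r_mul_sr, DihedralGroup.sr_mul_r,
              DihedralGroup.sr_mul_sr] <;> decide }
    have h1 := DFunLike.congr_fun (Classical.OrthIso.hom_eq_one_of_perfect hperf (fun a b => mul_comm a b)
      (c.comp (eH.trans ed).toMonoidHom)) ((eH.trans ed).symm (.sr 0))
    simp only [MonoidHom.comp_apply, MulEquiv.coe_toMonoidHom, MulEquiv.apply_symm_apply,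
      MonoidHom.one_apply] at h1
    change Multiplicative.ofAdd (1 : ZMod 2) = 1 at h1
    exact absurd h1 (by decide)
  · -- in the normalizer of a Sylow subgroup
    exfalso
    obtain ⟨eK⟩ := heK
    let eG : G ≃* K := eH.trans eK
    obtain ⟨y, hy⟩ := exists_prime_orderOf_dvd_card' (G := G) p hpd
    have hyo : orderOf ((eG y : K) : Matrix.ProjectiveSpecialLinearGroup (Fin 2) k) = p := by
      rw [orderOf_submonoid, MulEquiv.orderOf_eq, hy]
    have hyS : ((eG y : K) : Matrix.ProjectiveSpecialLinearGroup (Fin 2) k) ∈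
        (S : Subgroup _) := by
      have hle := IsPGroup.inf_normalizer_sylow (IsPGroup.of_card (n := 1)
        (show Nat.card (zpowers ((eG y : K) : Matrix.ProjectiveSpecialLinearGroup (Fin 2) k)) = p ^ 1
          by rw [Nat.card_zpowers, hyo, pow_one])) S
      have : ((eG y : K) : Matrix.ProjectiveSpecialLinearGroup (Fin 2) k) ∈
          zpowers ((eG y : K) : Matrix.ProjectiveSpecialLinearGroup (Fin 2) k) ⊓ normalizer
            ((S : Subgroup (Matrix.ProjectiveSpecialLinearGroup (Fin 2) k)) : Set _) :=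
        ⟨mem_zpowers _, hK (eG y).2⟩
      exact (hle.le this).2
    haveI : ((S : Subgroup (Matrix.ProjectiveSpecialLinearGroup (Fin 2) k)).subgroupOf K).Normal :=
      Subgroup.normal_subgroupOf_of_le_normalizer hK
    rcases (inferInstance : (((S : Subgroup (Matrix.ProjectiveSpecialLinearGroup (Fin 2) k)).subgroupOf K).comap
      eG.toMonoidHom).Normal).eq_bot_or_eq_top with hb | htop
    · have hmem : y ∈ ((S : Subgroup (Matrix.ProjectiveSpecialLinearGroup (Fin 2) k)).subgroupOf K).comap
          eG.toMonoidHom := hyS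
      rw [hb, Subgroup.mem_bot] at hmem
      rw [hmem, orderOf_one] at hy
      exact hp.out.ne_one hy.symm
    · have hKS : IsPGroup p G := by
        refine IsPGroup.of_injective S.2
          ((K.subtype.comp eG.toMonoidHom).codRestrict _ fun g => ?_) ?_
        · exact (htop ▸ Subgroup.mem_top g :
            g ∈ ((S : Subgroup (Matrix.ProjectiveSpecialLinearGroup (Fin 2) k)).subgroupOf K).comap
              eG.toMonoidHom)
        · intro a b hab
          apply eG.injective
          apply Subtype.ext
          have h1 := congrArg Subtype.val hab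
          exact h1
      haveI : Nontrivial G := ⟨s, 1, fun h => by rw [h, orderOf_one] at hs; omega⟩
      haveI : Group.IsNilpotent G := hKS.isNilpotent
      exact (IsSolvable.commutator_lt_top_of_nontrivial (G := G)).ne hperf
  · exfalso
    obtain ⟨e4⟩ := h4
    have := card_alternating 4 (by norm_num)
    rw [← Nat.card_congr (eH.trans e4).toEquiv] at this
    simp only [Nat.factorial] at this
    rw [show Nat.card G = 2 ^ 2 * 3 by omega] at hpd
    rcases (Nat.Prime.dvd_mul hp.out).1 hpd with h | h
    · have := Nat.le_of_dvd two_pos (hp.out.dvd_of_dvd_pow h); omega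
    · have := Nat.le_of_dvd (by norm_num) h; omega
  · exfalso
    obtain ⟨e4⟩ := h4
    have h24 : Nat.card G = 2 ^ 3 * 3 := by
      rw [Nat.card_congr (eH.trans e4).toEquiv, Nat.card_perm, Nat.card_fin]
      rfl
    rw [h24] at hpd
    rcases (Nat.Prime.dvd_mul hp.out).1 hpd with h | h
    · have := Nat.le_of_dvd two_pos (hp.out.dvd_of_dvd_pow h); omega
    · have := Nat.le_of_dvd (by norm_num) h; omega
  · exfalso
    obtain ⟨e5⟩ := h5
    have := card_alternating 5 (by norm_num)
    rw [← Nat.card_congr (eH.trans e5).toEquiv] at this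
    simp only [Nat.factorial] at this
    rw [show Nat.card G = 2 ^ 2 * 3 * 5 by omega] at hpd
    rcases (Nat.Prime.dvd_mul hp.out).1 hpd with h | h
    · rcases (Nat.Prime.dvd_mul hp.out).1 h with h | h
      · have := Nat.le_of_dvd two_pos (hp.out.dvd_of_dvd_pow h); omega
      · have := Nat.le_of_dvd (by norm_num) h; omega
    · have := Nat.le_of_dvd (by norm_num) h; omega
  · have hpK : p ∣ Fintype.card K := by
      obtain ⟨n, -, hn⟩ := FiniteField.card k p
      refine hp.out.dvd_of_dvd_pow (n := m) ?_
      rw [hcK, hn]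
      exact dvd_pow_self p n.ne_zero
    have hKp : p ≤ Fintype.card K := Nat.le_of_dvd Fintype.card_pos hpK
    rcases hK with hK | hK
    swap
    · obtain ⟨eK⟩ := hK
      refine (false_of_pgl hperf K ?_ (eH.trans eK)).elim
      intro h2
      obtain ⟨q, hq⟩ := CharP.exists K
      haveI := hq
      haveI : Fact q.Prime := ⟨CharP.char_is_prime K q⟩
      rw [ringChar.eq K q] at h2
      obtain ⟨n, -, hn⟩ := FiniteField.card K q
      rw [hn, h2] at hpK
      have := Nat.le_of_dvd two_pos (hp.out.dvd_of_dvd_pow hpK)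
      omega
    obtain ⟨eK⟩ := hK
    let eG := eH.trans eK
    have hlist : Fintype.card K ∈ ({2, 3, 5, 7, 9, 11} : Finset ℕ) := by
      by_contra hlist
      have h1 := (S0806.result (F := K) rfl hlist).1
        ((MulAction.stabilizer G (D.coord 0)).comap eG.symm.toMonoidHom) ?_
      · rw [Subgroup.index_comap_of_surjective _ eG.symm.surjective, index_stabilizer hα] at h1
        omega
      · intro htop
        have h2 := congrArg Subgroup.index htop
        rw [Subgroup.index_comap_of_surjective _ eG.symm.surjective, index_stabilizer hα,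
          Subgroup.index_top] at h2
        exact hp.out.ne_one h2
    have hKcard : Fintype.card K = p ∧ (p = 7 ∨ p = 11) := by
      simp only [Finset.mem_insert, Finset.mem_singleton] at hlist
      rcases hlist with h | h | h | h | h | h <;> rw [h] at hKp hpK ⊢
      · omega
      · omega
      · omega
      · have : p = 7 := by omega
        simp [this]
      · have : p = 7 ∨ p = 8 ∨ p = 9 := by omega
        rcases this with rfl | rfl | rfl <;>
          first
            | (norm_num at hpK; done)
            | exact absurd hp.out (by norm_num)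
      · have : p = 7 ∨ p = 8 ∨ p = 9 ∨ p = 10 ∨ p = 11 := by omega
        rcases this with rfl | rfl | rfl | rfl | rfl <;>
          first
            | (norm_num at hpK; done)
            | simp
    exact ⟨Or.inr hKcard.2, K, inferInstance, inferInstance, hKcard.1, ⟨eG⟩⟩

end Cfsg.Agent.Perm.UniqueP
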